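import Cfsg.Agent.Lib.Classical.AschForm.Basic
import Cfsg.Agent.Lib.Classical.AschGen.Centre
import Cfsg.Agent.Lib.Classical.AschGen.SymTypeForms

/-!
# Adjoints with respect to a reflexive form
-/

set_option autoImplicit false
set_option linter.unusedSectionVars false

namespace CfsgLib.Classical.AschForm

open Matrix Cfsg Cfsg.Geo CfsgLib.Classical.AschPrime CfsgLib.Classical.AschGen
open scoped MatrixGroups

variable {F : Type*} [Field F] [Finite F] {n : ℕ} {σ : F →+* F} {ε : F}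
  {f : (Fin n → F) → (Fin n → F) → F}

/-- The adjoint of a matrix. -/
noncomputable def adj (σ : F →+* F) (f : (Fin n → F) → (Fin n → F) → F) (X : Mat n F) : Mat n F :=
  ((gramMatrix f)⁻¹ * Xᵀ * gramMatrix f).map σ

theorem Herm.zero_left (hf : Herm σ ε f) (v : Fin n → F) : f 0 v = 0 := by
  simpa using hf.sesq.smul_left 0 0 v

theorem Herm.zero_right (hf : Herm σ ε f) (u : Fin n → F) : f u 0 = 0 := by
  simpa using hf.sesq.smul_right 0 u 0

theorem Herm.sub_right (hf : Herm σ ε f) (u v w : Fin n → F) : f u (v - w) = f u v - f u w := by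
  have h := hf.sesq.add_right u (v - w) w
  rw [sub_add_cancel] at h
  linear_combination -h

theorem Herm.zero_comm (hf : Herm σ ε f) {u v : Fin n → F} (h : f u v = 0) : f v u = 0 := by
  rw [hf.symm, h, map_zero, mul_zero]

theorem Herm.eps_mul (hf : Herm σ ε f) (hn : 0 < n) : ε * σ ε = 1 := by
  obtain ⟨⟨x, hx⟩, -⟩ := hf.nondeg (Pi.single ⟨0, hn⟩ 1) (by simp)
  set v : Fin n → F := Pi.single ⟨0, hn⟩ 1
  have h := hf.symm v x
  rw [hf.symm x v, map_mul, hf.invol, ← mul_assoc] at h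
  exact (mul_eq_right₀ hx).mp h.symm

theorem Herm.eps_ne_zero (hf : Herm σ ε f) (hn : 0 < n) : ε ≠ 0 := fun h => by
  have := hf.eps_mul hn
  rw [h, zero_mul] at this
  exact zero_ne_one this

theorem Herm.gram_transpose (hf : Herm σ ε f) :
    (gramMatrix f)ᵀ = ε • (gramMatrix f).map σ := by
  ext a b
  exact hf.symm _ _

theorem Herm.mForm (hσ : ∀ a, σ (σ a) = a) {G : Mat n F} (hG : IsUnit G)
    (hsym : Gᵀ = ε • G.map σ) : Herm σ ε (mForm σ G) := by
  refine ⟨mForm_sesq σ G, mForm_nondeg σ hG, fun u v => ?_, hσ⟩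
  have e : G = ε • (Gᵀ).map σ := by
    conv_lhs => rw [← Matrix.transpose_transpose G, hsym]
    rw [Matrix.transpose_smul, Matrix.transpose_map]
  conv_lhs => rw [e]
  have hu : ∀ i, σ ((σ ∘ u) i) = u i := fun i => hσ _
  simp only [AschGen.mForm, dotProduct, Matrix.mulVec, Matrix.smul_apply, Matrix.map_apply,
    Matrix.transpose_apply, Function.comp_apply, map_sum, map_mul, hσ, Finset.mul_sum, smul_eq_mul]
  rw [Finset.sum_comm]
  exact Finset.sum_congr rfl fun a _ => Finset.sum_congr rfl fun b _ => by ring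

theorem Herm.apply_adj (hf : Herm σ ε f) (X : Mat n F) (u v : Fin n → F) :
    f (X *ᵥ u) v = f u (adj σ f X *ᵥ v) := by
  classical
  have hG := (Matrix.isUnit_iff_isUnit_det _).mp (hf.sesq.isUnit_gram hf.nondeg)
  have e : gramMatrix f * (adj σ f X).map σ = Xᵀ * gramMatrix f := by
    have : (adj σ f X).map σ = (gramMatrix f)⁻¹ * Xᵀ * gramMatrix f := by
      ext i j; exact hf.invol _
    rw [this, mul_assoc, Matrix.mul_nonsing_inv_cancel_left _ _ hG]
  have hmap : σ ∘ (adj σ f X *ᵥ v) = (adj σ f X).map σ *ᵥ (σ ∘ v) := by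
    funext i; exact RingHom.map_mulVec σ _ v i
  rw [hf.sesq.apply, hf.sesq.apply, hmap, Matrix.mulVec_mulVec, e, ← Matrix.mulVec_mulVec,
    Matrix.dotProduct_mulVec u Xᵀ, Matrix.vecMul_transpose]

theorem Herm.adj_unique (hf : Herm σ ε f) {X Y : Mat n F}
    (h : ∀ u v, f (X *ᵥ u) v = f u (Y *ᵥ v)) : adj σ f X = Y := by
  refine Matrix.ext_of_mulVec_single fun i => sub_eq_zero.mp ?_
  by_contra hne
  obtain ⟨⟨u, hu⟩, -⟩ := hf.nondeg _ hne
  exact hu (by rw [hf.sub_right, ← hf.apply_adj, h, sub_self])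

theorem Herm.adj_one (hf : Herm σ ε f) : adj σ f 1 = 1 :=
  hf.adj_unique fun u v => by simp

theorem Herm.adj_zero (hf : Herm σ ε f) : adj σ f 0 = 0 :=
  hf.adj_unique fun u v => by simp [hf.zero_left, hf.zero_right]

theorem Herm.adj_mul (hf : Herm σ ε f) (X Y : Mat n F) :
    adj σ f (X * Y) = adj σ f Y * adj σ f X :=
  hf.adj_unique fun u v => by
    rw [← Matrix.mulVec_mulVec, hf.apply_adj, hf.apply_adj, Matrix.mulVec_mulVec]

theorem Herm.adj_add (hf : Herm σ ε f) (X Y : Mat n F) :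
    adj σ f (X + Y) = adj σ f X + adj σ f Y :=
  hf.adj_unique fun u v => by
    rw [Matrix.add_mulVec, hf.sesq.add_left, hf.apply_adj, hf.apply_adj, Matrix.add_mulVec,
      hf.sesq.add_right]

theorem Herm.adj_sub (hf : Herm σ ε f) (X Y : Mat n F) :
    adj σ f (X - Y) = adj σ f X - adj σ f Y := by
  rw [eq_sub_iff_add_eq, ← hf.adj_add, sub_add_cancel]

theorem Herm.adj_smul (hf : Herm σ ε f) (c : F) (X : Mat n F) :
    adj σ f (c • X) = σ c • adj σ f X :=
  hf.adj_unique fun u v => by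
    rw [Matrix.smul_mulVec, hf.sesq.smul_left, hf.apply_adj, Matrix.smul_mulVec, hf.sesq.smul_right,
      hf.invol]

theorem Herm.adj_adj (hf : Herm σ ε f) (X : Mat n F) : adj σ f (adj σ f X) = X :=
  hf.adj_unique fun u v => by
    rw [hf.symm v (adj σ f X *ᵥ u), ← hf.apply_adj, ← hf.symm]

theorem Herm.adj_pow (hf : Herm σ ε f) (X : Mat n F) (k : ℕ) :
    adj σ f (X ^ k) = adj σ f X ^ k := by
  induction k with
  | zero => rw [pow_zero, pow_zero, hf.adj_one]
  | succ k ih => rw [pow_succ, hf.adj_mul, ih, pow_succ']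

/-- The adjoint of an isometry is its inverse. -/
theorem Herm.adj_of_isometry (hf : Herm σ ε f) {h : GL (Fin n) F}
    (hh : ∀ u v, f ((h : Mat n F) *ᵥ u) ((h : Mat n F) *ᵥ v) = f u v) :
    adj σ f (h : Mat n F) = ((h⁻¹ : GL (Fin n) F) : Mat n F) :=
  hf.adj_unique fun u v => by
    conv_rhs => rw [← hh u, Matrix.mulVec_mulVec, Units.mul_inv, Matrix.one_mulVec]

theorem Herm.isometry_inv (hf : Herm σ ε f) {h : GL (Fin n) F}
    (hh : ∀ u v, f ((h : Mat n F) *ᵥ u) ((h : Mat n F) *ᵥ v) = f u v) (u v : Fin n → F) :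
    f (((h⁻¹ : GL (Fin n) F) : Mat n F) *ᵥ u) (((h⁻¹ : GL (Fin n) F) : Mat n F) *ᵥ v) = f u v := by
  rw [← hh, Matrix.mulVec_mulVec, Matrix.mulVec_mulVec, Units.mul_inv, Matrix.one_mulVec,
    Matrix.one_mulVec]

theorem Herm.adj_conj (hf : Herm σ ε f) {h : GL (Fin n) F}
    (hh : ∀ u v, f ((h : Mat n F) *ᵥ u) ((h : Mat n F) *ᵥ v) = f u v) (X : Mat n F) :
    adj σ f (conjHom h X) = conjHom h (adj σ f X) := by
  rw [conjHom_apply, conjHom_apply, hf.adj_mul, hf.adj_mul, hf.adj_of_isometry hh,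
    hf.adj_of_isometry (hf.isometry_inv hh), inv_inv, mul_assoc]

/-- The subalgebra `A` is closed under adjoints. -/
def AdjClosed (σ : F →+* F) (f : (Fin n → F) → (Fin n → F) → F) (A : Subalgebra F (Mat n F)) : Prop :=
  ∀ a ∈ A, adj σ f a ∈ A

theorem Herm.algOf_adjClosed (hf : Herm σ ε f) {N : Subgroup (GL (Fin n) F)}
    (hN : FixesForm (matrixSet N) f) : AdjClosed σ f (algOf N) := by
  intro a ha
  induction ha using Algebra.adjoin_induction with
  | mem x hx =>
    obtain ⟨g, hg, rfl⟩ := hx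
    rw [hf.adj_of_isometry fun u v => hN _ (mem_matrixSet hg) u v]
    exact mem_algOf (N.inv_mem hg)
  | algebraMap c =>
    rw [Algebra.algebraMap_eq_smul_one, hf.adj_smul, hf.adj_one, ← Algebra.algebraMap_eq_smul_one]
    exact (algOf N).algebraMap_mem _
  | add x y _ _ ihx ihy => rw [hf.adj_add]; exact add_mem ihx ihy
  | mul x y _ _ ihx ihy => rw [hf.adj_mul]; exact mul_mem ihy ihx

theorem Herm.centre_adjClosed (hf : Herm σ ε f) {A : Subalgebra F (Mat n F)}
    (hA : AdjClosed σ f A) : AdjClosed σ f (centre A) := by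
  intro z hz
  rw [mem_centre] at hz ⊢
  refine ⟨hA z hz.1, fun a ha => ?_⟩
  have := congrArg (adj σ f) (hz.2 _ (hA a ha))
  rwa [hf.adj_mul, hf.adj_mul, hf.adj_adj, eq_comm] at this

theorem AdjClosed.isAdjointClosedFor (hf : Herm σ ε f) {A : Subalgebra F (Mat n F)}
    (hA : AdjClosed σ f A) : IsAdjointClosedFor f A :=
  fun k hk => ⟨adj σ f k, hA k hk, hf.apply_adj k⟩

theorem Herm.isSelfAdjointFor_iff (hf : Herm σ ε f) {K : Subalgebra F (Mat n F)} :
    IsSelfAdjointFor f K ↔ ∀ k ∈ K, adj σ f k = k :=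
  ⟨fun h k hk => hf.adj_unique (h k hk), fun h k hk u v => by rw [hf.apply_adj, h k hk]⟩

/-- The orthogonal complement of a subspace. -/
def Herm.perp (hf : Herm σ ε f) (W : Submodule F (Fin n → F)) : Submodule F (Fin n → F) where
  carrier := {u | ∀ w ∈ W, f u w = 0}
  add_mem' {a b} ha hb w hw := by rw [hf.sesq.add_left, ha w hw, hb w hw, add_zero]
  zero_mem' w _ := hf.zero_left w
  smul_mem' c a ha w hw := by rw [hf.sesq.smul_left, ha w hw, mul_zero]

theorem Herm.mem_perp (hf : Herm σ ε f) {W : Submodule F (Fin n → F)} {u : Fin n → F} :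
    u ∈ hf.perp W ↔ ∀ w ∈ W, f u w = 0 := Iff.rfl

theorem Herm.finrank_perp (hf : Herm σ ε f) (W : Submodule F (Fin n → F)) :
    n ≤ Module.finrank F W + Module.finrank F (hf.perp W) := by
  classical
  let b := Module.finBasis F W
  let Φ : (Fin n → F) →ₗ[F] (Fin (Module.finrank F W) → F) :=
    { toFun := fun u i => f u (b i).1
      map_add' := fun x y => funext fun i => hf.sesq.add_left x y _
      map_smul' := fun c x => funext fun i => hf.sesq.smul_left c x _ }
  have hker : LinearMap.ker Φ ≤ hf.perp W := by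
    intro u hu w hw
    have hw' : ∑ i, b.repr ⟨w, hw⟩ i • ((b i).1 : Fin n → F) = w := by
      conv_rhs => rw [show w = (⟨w, hw⟩ : W).1 from rfl, ← b.sum_repr ⟨w, hw⟩]
      rw [AddSubmonoidClass.coe_finsetSum]
      rfl
    let R : (Fin n → F) →+ F := AddMonoidHom.mk' (fun v => f u v) (hf.sesq.add_right u)
    change R w = 0
    rw [← hw', map_sum]
    refine Finset.sum_eq_zero fun i _ => ?_
    change f u (_ • _) = 0
    rw [hf.sesq.smul_right, show f u (b i).1 = 0 from congrFun hu i, mul_zero]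
  have h1 := Φ.finrank_range_add_finrank_ker
  have h2 := Submodule.finrank_le (LinearMap.range Φ)
  have h3 := Submodule.finrank_mono hker
  simp only [Module.finrank_fintype_fun_eq_card, Fintype.card_fin] at h1 h2
  omega

theorem Herm.perp_invariant (hf : Herm σ ε f) {H : Subgroup (GL (Fin n) F)}
    (hH : FixesForm (matrixSet H) f) {W : Submodule F (Fin n → F)}
    (hW : ∀ h ∈ H, ∀ v ∈ W, (h : Mat n F) *ᵥ v ∈ W) :
    ∀ h ∈ H, ∀ v ∈ hf.perp W, (h : Mat n F) *ᵥ v ∈ hf.perp W := by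
  intro h hh v hv w hw
  have hw' := hv _ (hW h⁻¹ (H.inv_mem hh) w hw)
  rw [← hH _ (mem_matrixSet hh) v, Matrix.mulVec_mulVec w, Units.mul_inv, Matrix.one_mulVec] at hw'
  exact hw'

end CfsgLib.Classical.AschForm
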