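import Cfsg.Agent.Lib.Classical.AschGen.SymType
import Cfsg.Agent.Lib.Classical.AschPrime.Descent

/-!
# Aschbacher's theorem relative to a form: the vocabulary

`Herm σ ε f`: the form `f` is semilinear in the second argument, non-degenerate, and
`f v u = ε * σ (f u v)` with `σ` of order at most two (symmetric, alternating or hermitian forms).
`FormOutcome σ f H` lists where a group `H` of isometries of such a form can lie.
-/

set_option autoImplicit false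

namespace CfsgLib.Classical.AschForm

open Matrix Cfsg Cfsg.Geo CfsgLib.Classical.AschPrime CfsgLib.Classical.AschGen
open scoped MatrixGroups

variable {F : Type*} [Field F] {n : ℕ}

/-- A non-degenerate reflexive form. -/
structure Herm (σ : F →+* F) (ε : F) (f : (Fin n → F) → (Fin n → F) → F) : Prop where
  sesq : IsSesq σ f
  nondeg : IsNondegenerateForm f
  symm : ∀ u v, f v u = ε * σ (f u v)
  invol : ∀ a, σ (σ a) = a

/-- The field subalgebra `K` is of a type compatible with the form. -/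
def FieldType (σ : F →+* F) (f : (Fin n → F) → (Fin n → F) → F) (r : ℕ)
    (K : Subalgebra F (Mat n F)) : Prop :=
  (σ = RingHom.id F ∧ IsSelfAdjointFor f K) ∨
  (σ = RingHom.id F ∧ r = 2 ∧ IsAdjointClosedFor f K ∧ ¬ IsSelfAdjointFor f K) ∨
  (σ ≠ RingHom.id F ∧ Odd r ∧ IsAdjointClosedFor f K)

/-- Where a group of isometries of a form can lie. -/
def FormOutcome (σ : F →+* F) (f : (Fin n → F) → (Fin n → F) → F)
    (H : Subgroup (GL (Fin n) F)) : Prop :=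
  -- reducible
  (∃ W : Submodule F (Fin n → F), W ≠ ⊥ ∧ IsTotallySingularFor f W ∧ H ≤ subspaceStabilizer W) ∨
  (∃ W : Submodule F (Fin n → F), W ≠ ⊥ ∧ IsNondegenerateOn f W ∧ 2 * Module.finrank F W < n ∧
      H ≤ subspaceStabilizer W) ∨
  -- imprimitive
  (∃ (t m : ℕ) (D : Fin t → Submodule F (Fin n → F)), IsNondegenerateMDecomposition f m D ∧
      H ≤ decompositionStabilizer D ∧
      ((∀ i j, ∃ h ∈ H, (D i).map (Matrix.toLin' (h : Mat n F)) = D j) ∨ t = 2)) ∨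
  (∃ (k : ℕ) (D : Fin 2 → Submodule F (Fin n → F)), 2 * k = n ∧ IsMDecomposition k D ∧
      (∀ i, IsTotallySingularFor f (D i)) ∧ H ≤ decompositionStabilizer D) ∨
  -- extension field
  (∃ (r : ℕ) (K : Subalgebra F (Mat n F)), r.Prime ∧ IsFieldSubalgebra r K ∧ FieldType σ f r K ∧
      H ≤ subalgebraNormalizer K) ∨
  -- tensor product; the two dimensions may be equal, and either may be the smaller
  (∃ (n₁ n₂ : ℕ) (e : Fin n ≃ Fin n₁ × Fin n₂) (P : GL (Fin n) F) (ε₁ ε₂ : F)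
      (f₁ : (Fin n₁ → F) → (Fin n₁ → F) → F) (f₂ : (Fin n₂ → F) → (Fin n₂ → F) → F),
      2 ≤ n₁ ∧ 2 ≤ n₂ ∧ Herm σ ε₁ f₁ ∧ Herm σ ε₂ f₂ ∧ IsTensorFormStructure σ f f₁ f₂ e P ∧
      H ≤ tensorProductSubgroup n₁ n₂ e P) ∨
  -- tensor power
  (∃ (m t : ℕ) (e : Fin n ≃ (Fin t → Fin m)) (P : GL (Fin n) F) (ε₁ : F)
      (f₁ : (Fin m → F) → (Fin m → F) → F) (L : Subgroup (GL (Fin m) F)),
      2 ≤ m ∧ 2 ≤ t ∧ Herm σ ε₁ f₁ ∧ IsTensorPowerFormStructure σ f f₁ e P ∧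
      ⁅L, L⁆ = L ∧ ¬ L ≤ scalars (Fin m) F ∧ FixesForm (matrixSet L) f₁ ∧
      H ≤ tensorWreathSubgroup m t e P) ∨
  -- subfield
  (∃ (F₀ : Subfield F) (l : ℕ) (P : GL (Fin n) F) (c : F), l.Prime ∧
      Nat.card F = Nat.card F₀ ^ l ∧ c ≠ 0 ∧ IsFormRationalStructure f F₀ c P ∧
      ActsIrreducibly (matrixSet H) ∧ H ≤ subfieldSubgroup F₀ P) ∨
  -- symplectic type
  (∃ (r m : ℕ) (R : Subgroup (GL (Fin n) F)), 1 ≤ m ∧ n = r ^ m ∧ SymType r R ∧
      IsSymplecticTypeGroup r R ∧ (∀ x ∈ R, ∃ c : F, c ≠ 0 ∧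
        ∀ u v, f ((x : Mat n F) *ᵥ u) ((x : Mat n F) *ᵥ v) = c * f u v) ∧
      (∀ A ≤ R, (∀ h ∈ H, ∀ x ∈ A, h * x * h⁻¹ ∈ A) → (∀ x ∈ A, ∀ y ∈ A, x * y = y * x) →
        A ≤ scalars (Fin n) F) ∧
      H ≤ subgroupNormalizer R) ∨
  -- almost simple
  (∃ M : Subgroup (GL (Fin n) F), IsResidualCore H M ∧ FixesForm (matrixSet M) f)

end CfsgLib.Classical.AschForm
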