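import Cfsg.Agent.Lib.Classical.AschForm.Outcome

/-!
# Tools for the classes of the individual kinds of form
-/

set_option autoImplicit false
set_option linter.unusedSectionVars false

namespace CfsgLib.Classical.AschForm

open Matrix Cfsg Cfsg.Geo CfsgLib.Classical.AschPrime CfsgLib.Classical.AschGen
open scoped MatrixGroups Kronecker commutatorElement

variable {F : Type*} [Field F] [Fintype F] {n : ℕ} {σ : F →+* F} {ε : F}
  {f : (Fin n → F) → (Fin n → F) → F}

theorem Herm.symmetric_of_odd (hf : Herm (RingHom.id F) ε f) (h2 : (2 : F) ≠ 0) (hodd : Odd n) :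
    ε = 1 ∧ IsSymmetricForm f := by
  classical
  have hn : 0 < n := hodd.pos
  have h1 : ε * ε = 1 := hf.eps_mul hn
  have he : ε = 1 := by
    rcases mul_self_eq_one_iff.mp h1 with h | h
    · exact h
    exfalso
    have hd := congrArg Matrix.det hf.gram_transpose
    rw [Matrix.det_transpose, Matrix.det_smul, Fintype.card_fin, h, Odd.neg_one_pow hodd] at hd
    have hu := (Matrix.isUnit_iff_isUnit_det _).mp (hf.sesq.isUnit_gram hf.nondeg)
    refine hu.ne_zero ?_
    rw [show (gramMatrix f).map (RingHom.id F) = gramMatrix f from rfl] at hd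
    have h0 : (2 : F) * (gramMatrix f).det = 0 := by linear_combination hd
    exact (mul_eq_zero.mp h0).resolve_left h2
  refine ⟨he, ⟨hf.sesq.add_left, hf.sesq.smul_left, hf.sesq.add_right,
    fun c v x => hf.sesq.smul_right c v x⟩, fun u v => ?_, hf.nondeg⟩
  rw [hf.symm v u, he, one_mul]
  rfl

theorem Herm.of_symmetricForm {g : (Fin n → F) → (Fin n → F) → F} (hg : IsSymmetricForm g) :
    Herm (RingHom.id F) 1 g :=
  ⟨isSesq_of_bilinear hg.bilinear, hg.nondegenerate, fun u v => by rw [one_mul]; exact hg.symm v u,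
    fun _ => rfl⟩

/-- The two factors of a tensor decomposition of a form can be exchanged. -/
theorem tensorForm_swap {n₁ n₂ : ℕ} {f₁ : (Fin n₁ → F) → (Fin n₁ → F) → F}
    {f₂ : (Fin n₂ → F) → (Fin n₂ → F) → F} {e : Fin n ≃ Fin n₁ × Fin n₂} {P : GL (Fin n) F}
    (h : IsTensorFormStructure σ f f₁ f₂ e P) :
    IsTensorFormStructure σ f f₂ f₁ (e.trans (Equiv.prodComm _ _)) P := by
  obtain ⟨c, hc, hval⟩ := h
  refine ⟨c, hc, fun x y => ?_⟩
  have e1 : ∀ z : Fin n₂ × Fin n₁ → F, z ∘ (e.trans (Equiv.prodComm _ _)) = (z ∘ Prod.swap) ∘ e :=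
    fun z => rfl
  rw [e1, e1, hval, formOfGram, formOfGram]
  congr 1
  rw [← (Equiv.prodComm (Fin n₂) (Fin n₁)).sum_comp]
  refine Finset.sum_congr rfl fun a _ => ?_
  rw [← (Equiv.prodComm (Fin n₂) (Fin n₁)).sum_comp]
  refine Finset.sum_congr rfl fun b _ => ?_
  simp only [Function.comp_apply, Equiv.prodComm_apply, Prod.swap_swap, Matrix.kroneckerMap_apply,
    Prod.fst_swap, Prod.snd_swap]
  ring

/-- A tensor square: two factors carrying similar forms. -/
theorem tensorPower_of_pair (hf : Herm σ ε f) {m : ℕ} {f₁ f₂ : (Fin m → F) → (Fin m → F) → F}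
    {e : Fin n ≃ Fin m × Fin m} {P : GL (Fin n) F} (h : IsTensorFormStructure σ f f₁ f₂ e P)
    (A : GL (Fin m) F) {a : F} (ha : a ≠ 0)
    (hA : (A : Mat m F)ᵀ * gramMatrix f₂ * (A : Mat m F).map σ = a • gramMatrix f₁) :
    ∃ (e' : Fin n ≃ (Fin 2 → Fin m)) (P' : GL (Fin n) F),
      IsTensorPowerFormStructure σ f f₁ e' P' ∧
        tensorProductSubgroup m m e P ≤ tensorWreathSubgroup m 2 e' P' := by
  classical
  obtain ⟨c, hc, hval⟩ := h
  obtain ⟨w, hw⟩ : ∃ w : GL (Fin m × Fin m) F, (w : Matrix _ _ F) = (1 : Mat m F) ⊗ₖ (A : Mat m F) :=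
    ⟨⟨(1 : Mat m F) ⊗ₖ (A : Mat m F), (1 : Mat m F) ⊗ₖ ((A⁻¹ : GL (Fin m) F) : Mat m F),
      by rw [← Matrix.mul_kronecker_mul, one_mul, Units.mul_inv, Matrix.one_kronecker_one],
      by rw [← Matrix.mul_kronecker_mul, one_mul, Units.inv_mul, Matrix.one_kronecker_one]⟩, rfl⟩
  have hwK : w ∈ kroneckerSubgroup m m F := ⟨1, A, by rw [hw, Units.val_one]⟩
  set T : GL (Fin n) F := glReindex e.symm w
  set P' := P * T
  have hsub : tensorProductSubgroup m m e P ≤ tensorProductSubgroup m m e P' := by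
    rintro _ ⟨_, ⟨k, hk, rfl⟩, rfl⟩
    refine ⟨_, ⟨w⁻¹ * k * w, mul_mem (mul_mem (inv_mem hwK) hk) hwK, rfl⟩, ?_⟩
    simp only [P', T, MulEquiv.coe_toMonoidHom, map_mul, map_inv, MulAut.mul_apply, MulAut.conj_apply]
    group
  refine ⟨_, P', ⟨c * a, mul_ne_zero hc ha, fun x y => ?_⟩, hsub.trans (tensor_le_wreath e P')⟩
  set π := (piFinTwoEquiv fun _ => Fin m).symm
  have key : ∀ z : (Fin 2 → Fin m) → F, (T : Mat n F) *ᵥ (z ∘ (e.trans π)) =
      ((((1 : Mat m F) ⊗ₖ (A : Mat m F)) *ᵥ (z ∘ π)) ∘ e) := by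
    intro z
    funext i
    simp only [Matrix.mulVec, dotProduct, Function.comp_apply]
    rw [← e.symm.sum_comp]
    refine Finset.sum_congr rfl fun p _ => ?_
    rw [show (T : Mat n F) i (e.symm p) = (w : Matrix _ _ F) (e i) (e (e.symm p)) from rfl, hw]
    simp
  rw [show ((P' : GL (Fin n) F) : Mat n F) = (P : Mat n F) * (T : Mat n F) from Units.val_mul _ _,
    ← Matrix.mulVec_mulVec, ← Matrix.mulVec_mulVec, key, key, hval]
  have hdot : ∀ (G : Matrix (Fin m × Fin m) (Fin m × Fin m) F) (u v : Fin m × Fin m → F),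
      formOfGram σ G u v = u ⬝ᵥ (G *ᵥ (σ ∘ v)) := fun G u v => by
    simp [formOfGram, dotProduct, Matrix.mulVec, Finset.mul_sum, mul_assoc]
  set W := (1 : Mat m F) ⊗ₖ (A : Mat m F) with hW
  have hB : Wᵀ * (gramMatrix f₁ ⊗ₖ gramMatrix f₂) * W.map σ =
      a • (gramMatrix f₁ ⊗ₖ gramMatrix f₁) := by
    have hWσ : W.map σ = (1 : Mat m F) ⊗ₖ (A : Mat m F).map σ := by
      ext i j
      simp [hW, Matrix.one_apply, apply_ite σ]
    rw [hWσ, hW, ← Matrix.kroneckerMap_transpose, Matrix.transpose_one,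
      ← Matrix.mul_kronecker_mul, ← Matrix.mul_kronecker_mul, one_mul, mul_one, hA,
      Matrix.kronecker_smul]
  have hσW : σ ∘ (W *ᵥ (y ∘ π)) = W.map σ *ᵥ (σ ∘ (y ∘ π)) := by
    funext i; exact RingHom.map_mulVec σ _ _ i
  rw [hdot, hσW, Matrix.mulVec_mulVec, Matrix.dotProduct_mulVec, ← Matrix.vecMul_transpose,
    Matrix.vecMul_vecMul, ← Matrix.mul_assoc, hB, ← Matrix.dotProduct_mulVec, Matrix.smul_mulVec,
    dotProduct_smul, smul_eq_mul, ← mul_assoc]
  congr 1
  rw [← π.sum_comp]
  simp only [dotProduct, Matrix.mulVec, Finset.mul_sum, Function.comp_apply,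
    Matrix.kroneckerMap_apply]
  refine Finset.sum_congr rfl fun p _ => ?_
  rw [← π.sum_comp]
  refine Finset.sum_congr rfl fun q _ => ?_
  rw [show (∏ i, gramMatrix f₁ (π p i) (π q i)) = gramMatrix f₁ p.1 q.1 * gramMatrix f₁ p.2 q.2 by
    simp [Fin.prod_univ_two, π]]
  ring

/-- Commutators of similitudes are isometries. -/
theorem commutator_isometry {x y : GL (Fin n) F} {a b : F} (ha : a ≠ 0) (hb : b ≠ 0)
    (hx : ∀ u v, f ((x : Mat n F) *ᵥ u) ((x : Mat n F) *ᵥ v) = a * f u v)
    (hy : ∀ u v, f ((y : Mat n F) *ᵥ u) ((y : Mat n F) *ᵥ v) = b * f u v) (u v : Fin n → F) :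
    f (((⁅x, y⁆ : GL (Fin n) F) : Mat n F) *ᵥ u) (((⁅x, y⁆ : GL (Fin n) F) : Mat n F) *ᵥ v) =
      f u v := by
  have hinv : ∀ {z : GL (Fin n) F} {d : F}, d ≠ 0 →
      (∀ u v, f ((z : Mat n F) *ᵥ u) ((z : Mat n F) *ᵥ v) = d * f u v) → ∀ u v,
        f (((z⁻¹ : GL (Fin n) F) : Mat n F) *ᵥ u) (((z⁻¹ : GL (Fin n) F) : Mat n F) *ᵥ v) = d⁻¹ * f u v := by
    intro z d hd hz u v
    have h := hz (((z⁻¹ : GL (Fin n) F) : Mat n F) *ᵥ u) (((z⁻¹ : GL (Fin n) F) : Mat n F) *ᵥ v)
    simp only [Matrix.mulVec_mulVec, Units.mul_inv, Matrix.one_mulVec] at h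
    rw [h, ← mul_assoc, inv_mul_cancel₀ hd, one_mul]
  rw [commutatorElement_def]
  simp only [Units.val_mul, ← Matrix.mulVec_mulVec]
  rw [hx, hy, hinv ha hx, hinv hb hy]
  field_simp

/-- An irreducible abelian group of isometries of a symmetric or alternating form in odd dimension is
impossible. -/
theorem not_comm_irr (hf : Herm (RingHom.id F) ε f) (hn : 3 ≤ n) (hodd : Odd n)
    {H : Subgroup (GL (Fin n) F)} (hH : FixesForm (matrixSet H) f)
    (hirr : ActsIrreducibly (matrixSet H)) (hab : ∀ x ∈ H, ∀ y ∈ H, x * y = y * x) : False := by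
  classical
  set A := algOf H
  have hcommA : ∀ a ∈ A, ∀ b ∈ A, a * b = b * a := by
    have key : ∀ a ∈ A, ∀ h ∈ H, a * (h : Mat n F) = (h : Mat n F) * a := by
      intro a ha h hh
      induction ha using Algebra.adjoin_induction with
      | mem x hx =>
        obtain ⟨g, hg, rfl⟩ := hx
        rw [← Units.val_mul, ← Units.val_mul, hab g hg h hh]
      | algebraMap c => exact Algebra.commutes _ _
      | add x y _ _ ihx ihy => rw [add_mul, mul_add, ihx, ihy]
      | mul x y _ _ ihx ihy => rw [mul_assoc, ihy, ← mul_assoc, ihx, mul_assoc]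
    intro a ha b hb
    induction hb using Algebra.adjoin_induction with
    | mem x hx => obtain ⟨g, hg, rfl⟩ := hx; exact key a ha g hg
    | algebraMap c => exact (Algebra.commutes _ _).symm
    | add x y _ _ ihx ihy => rw [mul_add, add_mul, ihx, ihy]
    | mul x y _ _ ihx ihy => rw [← mul_assoc, ihx, mul_assoc, ihy, mul_assoc]
  have hinjA : ∀ a ∈ A, a ≠ 0 → Function.Injective (Matrix.mulVec a) := by
    intro a ha ha0
    rcases irr_iff.mp hirr (LinearMap.ker (Matrix.toLin' a)) (by
      rintro _ ⟨h, hh, rfl⟩ v hv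
      rw [LinearMap.mem_ker, Matrix.toLin'_apply] at hv ⊢
      rw [Matrix.mulVec_mulVec, hcommA a ha _ (mem_algOf hh), ← Matrix.mulVec_mulVec, hv,
        Matrix.mulVec_zero]) with h | h
    · intro u v huv
      have := LinearMap.ker_eq_bot.mp h
      exact this (by rw [Matrix.toLin'_apply, Matrix.toLin'_apply]; exact huv)
    · exact absurd (Matrix.toLin'.injective (by rw [map_zero]; exact LinearMap.ker_eq_top.mp h)) ha0
  let v0 : Fin n → F := Pi.single ⟨0, by omega⟩ 1
  let ev : A →ₗ[F] (Fin n → F) :=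
    { toFun := fun k => (k : Mat n F) *ᵥ v0
      map_add' := fun a b => by rw [Subalgebra.coe_add, Matrix.add_mulVec]
      map_smul' := fun c a => by rw [Subalgebra.coe_smul, Matrix.smul_mulVec]; rfl }
  have hevi : Function.Injective ev := by
    rw [← LinearMap.ker_eq_bot, Submodule.eq_bot_iff]
    intro k hk
    by_contra hk0
    have h1 : (k : Mat n F) *ᵥ v0 = (k : Mat n F) *ᵥ 0 := by
      rw [Matrix.mulVec_zero]; exact LinearMap.mem_ker.mp hk
    have h2 := hinjA k k.2 (fun e => hk0 (Subtype.ext e)) h1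
    have := congrFun h2 ⟨0, by omega⟩
    simp [v0] at this
  have hevs : Function.Surjective ev := by
    rw [← LinearMap.range_eq_top]
    refine (irr_iff.mp hirr (LinearMap.range ev) (by
      rintro _ ⟨h, hh, rfl⟩ v ⟨k, hk⟩
      refine ⟨⟨(h : Mat n F) * k.1, A.mul_mem (mem_algOf hh) k.2⟩, ?_⟩
      rw [← hk]
      show ((h : Mat n F) * k.1) *ᵥ v0 = (h : Mat n F) *ᵥ (k.1 *ᵥ v0)
      exact (Matrix.mulVec_mulVec v0 _ _).symm)).resolve_left fun h => ?_
    have : ev 1 ∈ (⊥ : Submodule F (Fin n → F)) := h ▸ LinearMap.mem_range_self ev 1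
    rw [Submodule.mem_bot] at this
    have := congrFun this ⟨0, by omega⟩
    simp [ev, v0] at this
  have hdim : Module.finrank F A = n :=
    (LinearEquiv.ofBijective ev ⟨hevi, hevs⟩).finrank_eq.trans (by simp)
  have hfield : IsField A :=
    { exists_pair_ne := ⟨0, 1, fun h => by
        haveI : NeZero n := ⟨by omega⟩
        exact zero_ne_one (congrArg Subtype.val h)⟩
      mul_comm := fun x y => Subtype.ext (hcommA x.1 x.2 y.1 y.2)
      mul_inv_cancel := fun {x} hx => by
        have hmul : Function.Injective fun y : A => x * y := fun y z hyz => Subtype.ext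
          (Matrix.ext_of_mulVec_single fun i => hinjA x.1 x.2 (fun e => hx (Subtype.ext e)) (by
            rw [Matrix.mulVec_mulVec, Matrix.mulVec_mulVec,
              show x.1 * y.1 = x.1 * z.1 from congrArg Subtype.val hyz]))
        obtain ⟨y, hy⟩ := Finite.surjective_of_injective hmul 1
        exact ⟨y, hy⟩ }
  letI : Field A := hfield.toField
  have hAc : AdjClosed (RingHom.id F) f A := hf.algOf_adjClosed hH
  haveI : Module.Finite F A := Module.Finite.of_finite
  let τ : A ≃ₐ[F] A :=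
    { toFun := fun x => ⟨adj (RingHom.id F) f x, hAc x x.2⟩
      invFun := fun x => ⟨adj (RingHom.id F) f x, hAc x x.2⟩
      left_inv := fun x => Subtype.ext (hf.adj_adj x)
      right_inv := fun x => Subtype.ext (hf.adj_adj x)
      map_mul' := fun x y => Subtype.ext (by
        show adj (RingHom.id F) f (x.1 * y.1) = adj (RingHom.id F) f x.1 * adj (RingHom.id F) f y.1
        rw [hf.adj_mul, hcommA _ (hAc _ y.2) _ (hAc _ x.2)])
      map_add' := fun x y => Subtype.ext (hf.adj_add x.1 y.1)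
      commutes' := fun c => Subtype.ext (by
        show adj (RingHom.id F) f (algebraMap F (Mat n F) c) = algebraMap F (Mat n F) c
        rw [Algebra.algebraMap_eq_smul_one, hf.adj_smul, hf.adj_one, RingHom.id_apply]) }
  have hτ2 : τ ^ 2 = 1 := AlgEquiv.ext fun x => Subtype.ext (by rw [pow_two]; exact hf.adj_adj x.1)
  have hτ1 : τ = 1 := by
    by_contra hne
    have hord : orderOf τ = 2 := orderOf_eq_prime hτ2 hne
    have haut : Nat.card (A ≃ₐ[F] A) = n := (IsGalois.card_aut_eq_finrank F A).trans hdim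
    have h2 : 2 ∣ n := by
      have := orderOf_dvd_natCard τ
      rwa [haut, hord] at this
    exact hodd.not_two_dvd_nat h2
  -- every element is a sign
  let v : Fin n → F := Pi.single ⟨0, by omega⟩ 1
  rcases irr_iff.mp hirr (F ∙ v) (by
    rintro _ ⟨h, hh, rfl⟩ w hw
    have hinv : ((h⁻¹ : GL (Fin n) F) : Mat n F) = (h : Mat n F) := by
      rw [← hf.adj_of_isometry fun u v => hH _ (mem_matrixSet hh) u v]
      exact congrArg (fun g : A ≃ₐ[F] A => ((g ⟨_, mem_algOf hh⟩ : A) : Mat n F)) hτ1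
    have hsq : (⟨_, mem_algOf hh⟩ : A) * ⟨_, mem_algOf hh⟩ = 1 := Subtype.ext (by
      show (h : Mat n F) * (h : Mat n F) = 1
      nth_rw 2 [← hinv]
      exact Units.mul_inv h)
    rcases mul_self_eq_one_iff.mp hsq with h1 | h1
    · show (h : Mat n F) *ᵥ w ∈ _
      rw [show (h : Mat n F) = 1 from congrArg Subtype.val h1, Matrix.one_mulVec]; exact hw
    · show (h : Mat n F) *ᵥ w ∈ _
      rw [show (h : Mat n F) = -1 from congrArg Subtype.val h1, Matrix.neg_mulVec, Matrix.one_mulVec]
      exact Submodule.neg_mem _ hw) with h | h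
  · have := congrFun (Submodule.span_singleton_eq_bot.mp h) ⟨0, by omega⟩
    simp [v] at this
  · have hmem : (Pi.single ⟨1, by omega⟩ 1 : Fin n → F) ∈ F ∙ v := h ▸ Submodule.mem_top
    obtain ⟨c, hc⟩ := Submodule.mem_span_singleton.mp hmem
    have := congrFun hc ⟨1, by omega⟩
    simp [v] at this

/-- A group of determinant-one isometries normalising a self-adjoint field of full degree is abelian. -/
theorem comm_of_full_field (hf : Herm (RingHom.id F) ε f) (hn : 3 ≤ n) (hodd : Odd n)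
    {H : Subgroup (GL (Fin n) F)} (hH : FixesForm (matrixSet H) f)
    {K : Subalgebra F (Mat n F)} (hK : IsFieldSubalgebra n K) (hself : IsSelfAdjointFor f K)
    (hle : H ≤ subalgebraNormalizer K) : ∀ x ∈ H, ∀ y ∈ H, x * y = y * x := by
  classical
  intro x hx y hy
  haveI : Finite K := Subtype.finite
  haveI : Module.Finite F K := Module.Finite.of_finite
  have hKfield : IsField K :=
    { exists_pair_ne := ⟨0, 1, fun h => by
        haveI : NeZero n := ⟨by omega⟩
        exact zero_ne_one (congrArg Subtype.val h)⟩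
      mul_comm := fun a b => Subtype.ext (hK.comm a.1 a.2 b.1 b.2)
      mul_inv_cancel := fun {a} ha => by
        obtain ⟨b, hb, h⟩ := hK.inv a.1 a.2 fun h => ha (Subtype.ext h)
        exact ⟨⟨b, hb⟩, Subtype.ext h⟩ }
  letI : Field K := hKfield.toField
  have hnorm : ∀ g ∈ H, ∀ k ∈ K, conjHom g k ∈ K := fun g hg k hk => (hle hg k).mp hk
  have haut : ∀ g ∈ H, ∃ τ : K ≃ₐ[F] K, ∀ k : K, (τ k : Mat n F) = conjHom g k.1 := fun g hg =>
    ⟨{ toFun := fun k => ⟨conjHom g k.1, hnorm g hg k.1 k.2⟩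
       invFun := fun k => ⟨conjHom g⁻¹ k.1, hnorm g⁻¹ (H.inv_mem hg) k.1 k.2⟩
       left_inv := fun k => Subtype.ext (by simp [conjHom_apply, mul_assoc])
       right_inv := fun k => Subtype.ext (conj_inv_cancel g k.1)
       map_mul' := fun a b => Subtype.ext (map_mul (conjHom g) _ _)
       map_add' := fun a b => Subtype.ext (map_add (conjHom g) _ _)
       commutes' := fun c => Subtype.ext ((conjHom g).commutes c) }, fun k => rfl⟩
  obtain ⟨τx, hτx⟩ := haut x hx
  obtain ⟨τy, hτy⟩ := haut y hy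
  haveI : IsCyclic (K ≃ₐ[F] K) := inferInstance
  letI := IsCyclic.commGroup (α := K ≃ₐ[F] K)
  have hcomm : τx * τy = τy * τx := mul_comm _ _
  set z := x * y * x⁻¹ * y⁻¹ with hz
  have hzmem : z ∈ H := H.mul_mem (H.mul_mem (H.mul_mem hx hy) (H.inv_mem hx)) (H.inv_mem hy)
  have hzc : ∀ k ∈ K, (z : Mat n F) * k = k * (z : Mat n F) := by
    intro k hk
    have e : conjHom (x * y) k = conjHom (y * x) k := by
      have := congrArg (fun g : K ≃ₐ[F] K => ((g ⟨k, hk⟩ : K) : Mat n F)) hcomm
      simp only [AlgEquiv.mul_apply, hτx, hτy] at this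
      simpa [conjHom_apply, mul_assoc] using this
    have e2 : conjHom z (conjHom (y * x) k) = conjHom (y * x) k := by
      conv_rhs => rw [← e]
      rw [conjHom_apply z, conjHom_apply, conjHom_apply, hz]
      simp [mul_assoc]
    have hsurj : ∃ k' : K, (τy * τx) k' = ⟨k, hk⟩ := (τy * τx).surjective _
    obtain ⟨k', hk'⟩ := hsurj
    have hk'' : conjHom (y * x) k'.1 = k := by
      have := congrArg (fun a : K => (a : Mat n F)) hk'
      simp only [AlgEquiv.mul_apply, hτx, hτy] at this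
      simpa [conjHom_apply, mul_assoc] using this
    have e3 : conjHom (x * y) k'.1 = conjHom (y * x) k'.1 := by
      have := congrArg (fun g : K ≃ₐ[F] K => ((g k' : K) : Mat n F)) hcomm
      simp only [AlgEquiv.mul_apply, hτx, hτy] at this
      simpa [conjHom_apply, mul_assoc] using this
    have e4 : conjHom z (conjHom (y * x) k'.1) = conjHom (y * x) k'.1 := by
      conv_rhs => rw [← e3]
      rw [conjHom_apply z, conjHom_apply, conjHom_apply, hz]
      simp [mul_assoc]
    rw [hk'', conjHom_apply] at e4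
    have := congrArg (· * (z : Mat n F)) e4
    simpa [mul_assoc] using this
  have hzK := field_commutant (by omega) hK hzc
  have hinv : ((z⁻¹ : GL (Fin n) F) : Mat n F) = (z : Mat n F) := by
    rw [← hf.adj_of_isometry fun u v => hH _ (mem_matrixSet hzmem) u v]
    exact (hf.isSelfAdjointFor_iff.mp hself) _ hzK
  have hsq : (⟨_, hzK⟩ : K) * ⟨_, hzK⟩ = 1 := Subtype.ext (by
    show (z : Mat n F) * (z : Mat n F) = 1
    nth_rw 2 [← hinv]
    exact Units.mul_inv z)
  have hz1 : z = 1 := by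
    rcases mul_self_eq_one_iff.mp hsq with h | h
    · exact Units.ext (congrArg Subtype.val h)
    · have hm : (z : Mat n F) = -1 := congrArg Subtype.val h
      have hd : (z : Mat n F).det = 1 := by
        have hg : Matrix.GeneralLinearGroup.det z = 1 := by
          rw [hz, map_mul, map_mul, map_mul, map_inv, map_inv]
          rw [mul_comm (Matrix.GeneralLinearGroup.det x)]
          simp
        have := congrArg Units.val hg
        rwa [Matrix.GeneralLinearGroup.val_det_apply, Units.val_one] at this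
      refine Units.ext ?_
      rw [hm, Matrix.det_neg, Fintype.card_fin, hodd.neg_one_pow, Matrix.det_one, mul_one] at hd
      rw [hm, show (-1 : Mat n F) = (-1 : F) • (1 : Mat n F) by rw [neg_smul, one_smul], hd, one_smul,
        Units.val_one]
  have : ⁅x, y⁆ = 1 := hz1
  exact commutatorElement_eq_one_iff_mul_comm.mp this

/-- Members of a transitive orthogonal decomposition are isometric. -/
theorem isometric_of_transitive {Q : (Fin n → F) → F} {H : Subgroup (GL (Fin n) F)}
    (hH : H ≤ Cfsg.isometryGroup F Q) {t : ℕ} {D : Fin t → Submodule F (Fin n → F)}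
    (htr : ∀ i j, ∃ h ∈ H, (D i).map (Matrix.toLin' (h : Mat n F)) = D j) (i j : Fin t) :
    AreIsometricFor Q (D i) (D j) := by
  obtain ⟨h, hh, hmap⟩ := htr i j
  let e := (Submodule.equivMapOfInjective (Matrix.toLin' (h : Mat n F))
    (Matrix.mulVec_injective_iff_isUnit.2 h.isUnit) (D i)).trans (LinearEquiv.ofEq _ _ hmap)
  refine ⟨e, fun w => ?_⟩
  show Q (Matrix.toLin' (h : Mat n F) w.1) = Q w.1
  rw [Matrix.toLin'_apply]
  exact hH hh w.1 w.1

end CfsgLib.Classical.AschForm
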