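import Cfsg.Agent.Lib.Classical.AschForm.Imprimitive

/-!
# Extension fields compatible with a form
-/

set_option autoImplicit false
set_option linter.unusedSectionVars false

namespace CfsgLib.Classical.AschForm

open Matrix Cfsg Cfsg.Geo CfsgLib.Classical.AschPrime CfsgLib.Classical.AschGen
open scoped MatrixGroups

variable {F : Type*} [Field F] [Finite F] {n : ℕ} {σ : F →+* F} {ε : F}
  {f : (Fin n → F) → (Fin n → F) → F}

/-- In a finite field the roots of `x ^ q = x` are the elements of a subfield of that size. -/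
theorem mem_of_pow_eq {L : Type*} [Field L] [Finite L] {S : Set L} {q : ℕ} (hq : 1 < q)
    (hS : ∀ x ∈ S, x ^ q = x) (hcard : q ≤ S.ncard) {x : L} (hx : x ^ q = x) : x ∈ S := by
  classical
  set P : Polynomial L := Polynomial.X ^ q - Polynomial.X with hP
  have hP0 : P ≠ 0 := FiniteField.X_pow_card_sub_X_ne_zero L hq
  have hdeg : P.natDegree = q := FiniteField.X_pow_card_sub_X_natDegree_eq L hq
  have hsub : S ⊆ (P.roots.toFinset : Set L) := fun y hy => by
    rw [Finset.mem_coe, Multiset.mem_toFinset, Polynomial.mem_roots hP0]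
    simp [hP, hS y hy]
  have hle : (P.roots.toFinset : Set L).ncard ≤ S.ncard := by
    rw [Set.ncard_coe_finset]
    exact ((Multiset.toFinset_card_le _).trans (Polynomial.card_roots' P)).trans (hdeg ▸ hcard)
  rw [Set.eq_of_subset_of_ncard_le hsub hle (Set.toFinite _)]
  rw [Finset.mem_coe, Multiset.mem_toFinset, Polynomial.mem_roots hP0]
  simp [hP, hx]

/-- An involutive automorphism of the field with `q ^ 2` elements fixes only a subfield of size `q`. -/
theorem fixed_card {L : Type*} [Field L] [Finite L] (τ : L ≃+* L) (hτ : ∀ x, τ (τ x) = x)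
    (hne : ∃ x, τ x ≠ x) {q : ℕ} (hL : Nat.card L = q ^ 2) :
    {x : L | τ x = x}.ncard = q ∧ ∀ x, τ x = x → x ^ q = x := by
  classical
  have hτ2 : τ ^ 2 = 1 := RingEquiv.ext fun x => by rw [pow_two]; exact hτ x
  have hord : orderOf τ = 2 := orderOf_eq_prime hτ2 fun e => by
    obtain ⟨x, hx⟩ := hne
    exact hx (by rw [e]; rfl)
  set G := Subgroup.zpowers τ
  have hGcard : Nat.card G = 2 := (Nat.card_zpowers τ).trans hord
  haveI : Finite G := Nat.finite_of_card_ne_zero (by omega)
  haveI := Fintype.ofFinite G
  have hrank := FixedPoints.finrank_eq_card G L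
  rw [← Nat.card_eq_fintype_card, hGcard] at hrank
  haveI : Module.Finite (FixedPoints.subfield G L) L := Module.Finite.of_finite
  have hc := Module.natCard_eq_pow_finrank (K := FixedPoints.subfield G L) (V := L)
  rw [hrank, hL] at hc
  have hq : Nat.card (FixedPoints.subfield G L) = q := (Nat.pow_left_injective two_ne_zero hc).symm
  have hset : ({x : L | τ x = x} : Set L) = (FixedPoints.subfield G L : Set L) := by
    ext x
    constructor
    · rintro hx ⟨g, hg⟩
      have : τ ∈ MulAction.stabilizer (L ≃+* L) x := hx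
      exact (Subgroup.zpowers_le.mpr this hg : g ∈ MulAction.stabilizer (L ≃+* L) x)
    · intro hx
      exact hx ⟨τ, Subgroup.mem_zpowers τ⟩
  refine ⟨by rw [hset, ← Nat.card_coe_set_eq]; exact hq, fun x hx => ?_⟩
  have hx' : x ∈ FixedPoints.subfield G L := by
    show x ∈ (FixedPoints.subfield G L : Set L)
    rw [← hset]; exact hx
  haveI := Fintype.ofFinite (FixedPoints.subfield G L)
  have := FiniteField.pow_card (⟨x, hx'⟩ : FixedPoints.subfield G L)
  rw [← Nat.card_eq_fintype_card, hq] at this
  simpa using congrArg Subtype.val this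

/-- The centre of an adjoint-closed algebra without idempotents gives a compatible field. -/
theorem field_cases [Fintype F] (hf : Herm σ ε f) (hn : 0 < n) {H : Subgroup (GL (Fin n) F)}
    {A : Subalgebra F (Mat n F)} [IsSemisimpleRing A] (hA : NormalisedBy A H) (hAc : AdjClosed σ f A)
    (hidem : ∀ e ∈ centre A, e * e = e → e ≠ 0 → e = 1)
    (hsc : ∃ z ∈ centre A, ∀ c : F, z ≠ c • 1) : FormOutcome σ f H := by
  classical
  haveI : Finite (centre A) := Subtype.finite
  haveI : NeZero n := ⟨hn.ne'⟩
  have hinv : ∀ x ∈ centre A, x ≠ 0 → ∃ y ∈ centre A, x * y = 1 := by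
    intro x hx hx0
    obtain ⟨k, hk, hid⟩ := exists_idempotent (⟨x, hx⟩ : centre A)
    have hid' : x ^ k * x ^ k = x ^ k := by simpa using congrArg Subtype.val hid
    have h1 : x ^ k = 1 := hidem _ ((centre A).pow_mem hx k) hid' fun h => hx0 (centre_reduced hx h)
    refine ⟨x ^ (k - 1), (centre A).pow_mem hx _, ?_⟩
    rw [← pow_succ', Nat.sub_add_cancel hk, h1]
  obtain ⟨r, K, hr, hK, hKZ, hle⟩ :=
    prime_subfield (centre_normalised hA) centre_comm hinv hn hsc
  have hfield : IsField (centre A) :=
    { exists_pair_ne := ⟨0, 1, fun h => zero_ne_one (congrArg Subtype.val h)⟩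
      mul_comm := fun x y => Subtype.ext (centre_comm x.1 x.2 y.1 y.2)
      mul_inv_cancel := fun {x} hx => by
        obtain ⟨y, hy, h⟩ := hinv x x.2 fun h => hx (Subtype.ext h)
        exact ⟨⟨y, hy⟩, Subtype.ext h⟩ }
  letI : Field (centre A) := hfield.toField
  -- the size of `K`
  haveI : Finite K := Subtype.finite
  haveI : Module.Finite F K := Module.Finite.of_finite
  set q := Nat.card F
  have hKcard : Nat.card K = q ^ r := by
    rw [Module.natCard_eq_pow_finrank (K := F) (V := K), hK.finrank_eq]
  have hKfield : IsField K :=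
    { exists_pair_ne := ⟨0, 1, fun h => zero_ne_one (congrArg Subtype.val h)⟩
      mul_comm := fun x y => Subtype.ext (hK.comm x x.2 y y.2)
      mul_inv_cancel := fun {x} hx => by
        obtain ⟨y, hy, h⟩ := hK.inv x x.2 fun h => hx (Subtype.ext h)
        exact ⟨⟨y, hy⟩, Subtype.ext h⟩ }
  letI : Field K := hKfield.toField
  haveI := Fintype.ofFinite K
  have hKpow : ∀ x ∈ K, x ^ (q ^ r) = x := by
    intro x hx
    have := FiniteField.pow_card (⟨x, hx⟩ : K)
    rw [← Nat.card_eq_fintype_card, hKcard] at this
    simpa using congrArg Subtype.val this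
  have hq1 : 1 < q := Finite.one_lt_card
  have hKc : AdjClosed σ f K := by
    intro k hk
    have hz := hf.centre_adjClosed hAc k (hKZ hk)
    let S : Set (centre A) := {z | z.1 ∈ K}
    have hScard : q ^ r ≤ S.ncard := by
      rw [← hKcard, ← Nat.card_coe_set_eq]
      exact Nat.card_le_card_of_injective (fun x : K => (⟨⟨x.1, hKZ x.2⟩, x.2⟩ : S))
        fun a b e => Subtype.ext (congrArg (fun z : S => (z.1.1 : Mat n F)) e)
    refine (mem_of_pow_eq (Nat.one_lt_pow hr.ne_zero hq1) (fun x hx => Subtype.ext (by
      simpa using hKpow x.1 hx)) hScard (x := (⟨_, hz⟩ : centre A)) (Subtype.ext ?_) : (⟨_, hz⟩ : centre A) ∈ S)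
    simp [← hf.adj_pow, hKpow k hk]
  have hFT : FieldType σ f r K := by
    by_cases hσ : σ = RingHom.id F
    · by_cases hself : IsSelfAdjointFor f K
      · exact .inl ⟨hσ, hself⟩
      refine .inr (.inl ⟨hσ, ?_, hKc.isAdjointClosedFor hf, hself⟩)
      rw [hf.isSelfAdjointFor_iff] at hself
      push Not at hself
      obtain ⟨k, hk, hkne⟩ := hself
      -- an involutive algebra automorphism
      let τ : K ≃ₐ[F] K :=
        { toFun := fun x => ⟨adj σ f x, hKc x x.2⟩
          invFun := fun x => ⟨adj σ f x, hKc x x.2⟩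
          left_inv := fun x => Subtype.ext (hf.adj_adj x)
          right_inv := fun x => Subtype.ext (hf.adj_adj x)
          map_mul' := fun x y => Subtype.ext (by
            show adj σ f (x.1 * y.1) = adj σ f x.1 * adj σ f y.1
            rw [hf.adj_mul, hK.comm _ (hKc _ y.2) _ (hKc _ x.2)])
          map_add' := fun x y => Subtype.ext (hf.adj_add x.1 y.1)
          commutes' := fun c => Subtype.ext (by
            show adj σ f (algebraMap F (Mat n F) c) = algebraMap F (Mat n F) c
            rw [Algebra.algebraMap_eq_smul_one, hf.adj_smul, hf.adj_one, hσ, RingHom.id_apply]) }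
      have hτ2 : τ ^ 2 = 1 := AlgEquiv.ext fun x => Subtype.ext (by
        rw [pow_two]
        exact hf.adj_adj x.1)
      have hτ1 : τ ≠ 1 := fun e => hkne (by
        have := congrArg (fun g : K ≃ₐ[F] K => (g ⟨k, hk⟩ : Mat n F)) e
        exact this)
      have hord : orderOf τ = 2 := orderOf_eq_prime hτ2 hτ1
      have haut : Nat.card (K ≃ₐ[F] K) = r := (IsGalois.card_aut_eq_finrank F K).trans hK.finrank_eq
      have h2 : 2 ∣ r := hord ▸ haut ▸ orderOf_dvd_natCard τ
      exact ((Nat.prime_dvd_prime_iff_eq Nat.prime_two hr).mp h2).symm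
    · refine .inr (.inr ⟨hσ, ?_, hKc.isAdjointClosedFor hf⟩)
      refine hr.eq_two_or_odd'.resolve_left fun h2 => hσ ?_
      subst h2
      let τ : K ≃+* K :=
        { toFun := fun x => ⟨adj σ f x, hKc x x.2⟩
          invFun := fun x => ⟨adj σ f x, hKc x x.2⟩
          left_inv := fun x => Subtype.ext (hf.adj_adj x)
          right_inv := fun x => Subtype.ext (hf.adj_adj x)
          map_mul' := fun x y => Subtype.ext (by
            show adj σ f (x.1 * y.1) = adj σ f x.1 * adj σ f y.1
            rw [hf.adj_mul, hK.comm _ (hKc _ y.2) _ (hKc _ x.2)])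
          map_add' := fun x y => Subtype.ext (hf.adj_add x.1 y.1) }
      have hsmul : ∀ c : F, (τ (algebraMap F K c) : Mat n F) = σ c • 1 := fun c => by
        show adj σ f (algebraMap F (Mat n F) c) = _
        rw [Algebra.algebraMap_eq_smul_one, hf.adj_smul, hf.adj_one]
      by_contra hne'
      obtain ⟨a, ha⟩ : ∃ a, σ a ≠ a := by
        by_contra hall
        push Not at hall
        exact hne' (RingHom.ext hall)
      have hinj : Function.Injective fun c : F => c • (1 : Mat n F) := fun c d e => by
        simpa using congrFun (congrFun e 0) 0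
      obtain ⟨hfix, hpow⟩ := fixed_card τ (fun x => Subtype.ext (hf.adj_adj x.1))
        ⟨algebraMap F K a, fun e => ha (hinj (by
          show σ a • (1 : Mat n F) = a • 1
          rw [← hsmul, e, ← Algebra.algebraMap_eq_smul_one]
          rfl))⟩ hKcard
      -- the fixed elements are the scalars
      let S : Set K := Set.range (algebraMap F K)
      have hS : ∀ x ∈ S, x ^ q = x := by
        rintro _ ⟨c, rfl⟩
        rw [← map_pow]
        congr 1
        show c ^ Nat.card F = c
        rw [Nat.card_eq_fintype_card, FiniteField.pow_card]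
      have hScard : q ≤ S.ncard := by
        rw [← Nat.card_coe_set_eq]
        exact le_of_eq (Nat.card_congr (Equiv.ofInjective _ (algebraMap F K).injective))
      have hsub : {x : K | τ x = x} ⊆ S := fun x hx => mem_of_pow_eq hq1 hS hScard (hpow x hx)
      have hSle : S.ncard ≤ q := by
        rw [← Nat.card_coe_set_eq]
        exact le_of_eq (Nat.card_congr (Equiv.ofInjective _ (algebraMap F K).injective)).symm
      have heq := Set.eq_of_subset_of_ncard_le hsub (hfix ▸ hSle) (Set.toFinite _)
      have hmem : algebraMap F K a ∈ {x : K | τ x = x} := heq ▸ ⟨a, rfl⟩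
      refine ha (hinj ?_)
      show σ a • (1 : Mat n F) = a • 1
      rw [← hsmul, show τ (algebraMap F K a) = algebraMap F K a from hmem,
        ← Algebra.algebraMap_eq_smul_one]
      rfl
  exact .inr (.inr (.inr (.inr (.inl ⟨r, K, hr, hK, hFT, hle⟩))))

end CfsgLib.Classical.AschForm
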