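import Cfsg.Agent.Lib.Classical.AschForm.Adjoint
import Cfsg.Agent.Lib.Classical.AschGen.NotSL

/-!
# Reducible and imprimitive groups of isometries
-/

set_option autoImplicit false
set_option linter.unusedSectionVars false

namespace CfsgLib.Classical.AschForm

open Matrix Cfsg Cfsg.Geo CfsgLib.Classical.AschPrime CfsgLib.Classical.AschGen
open scoped MatrixGroups

variable {F : Type*} [Field F] [Finite F] {n : ℕ} {σ : F →+* F} {ε : F}
  {f : (Fin n → F) → (Fin n → F) → F}

theorem Herm.nondeg_of_sup (hf : Herm σ ε f) {U W : Submodule F (Fin n → F)} (hsup : U ⊔ W = ⊤)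
    (horth : ∀ u ∈ U, ∀ w ∈ W, f u w = 0) : IsNondegenerateOn f U := by
  intro u hu hu0
  obtain ⟨⟨x, hx⟩, ⟨y, hy⟩⟩ := hf.nondeg u hu0
  constructor
  · obtain ⟨a, ha, b, hb, rfl⟩ := Submodule.mem_sup.mp (hsup ▸ Submodule.mem_top : x ∈ U ⊔ W)
    refine ⟨a, ha, fun e => hx ?_⟩
    rw [hf.sesq.add_left, e, hf.zero_comm (horth u hu b hb), add_zero]
  · obtain ⟨a, ha, b, hb, rfl⟩ := Submodule.mem_sup.mp (hsup ▸ Submodule.mem_top : y ∈ U ⊔ W)
    refine ⟨a, ha, fun e => hy ?_⟩
    rw [hf.sesq.add_right, e, horth u hu b hb, add_zero]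

theorem map_eq_of_invariant {W : Submodule F (Fin n → F)} {h : GL (Fin n) F}
    (hW : ∀ v ∈ W, (h : Mat n F) *ᵥ v ∈ W) : W.map (Matrix.toLin' (h : Mat n F)) = W := by
  refine Submodule.eq_of_le_of_finrank_eq ?_ ?_
  · rintro _ ⟨v, hv, rfl⟩
    rw [Matrix.toLin'_apply]
    exact hW v hv
  · exact (Submodule.equivMapOfInjective _ (Matrix.mulVec_injective_iff_isUnit.2 h.isUnit) W
      ).finrank_eq.symm

theorem reducible_cases (hf : Herm σ ε f) {H : Subgroup (GL (Fin n) F)}
    (hH : FixesForm (matrixSet H) f) (hirr : ¬ ActsIrreducibly (matrixSet H)) :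
    FormOutcome σ f H := by
  classical
  rw [irr_iff] at hirr
  push Not at hirr
  obtain ⟨W, hW', h0, h1⟩ := hirr
  have hW : ∀ h ∈ H, ∀ v ∈ W, (h : Mat n F) *ᵥ v ∈ W := fun h hh v hv => hW' _ (mem_matrixSet hh) v hv
  have hP := hf.perp_invariant hH hW
  by_cases hWW : W ⊓ hf.perp W = ⊥
  swap
  · exact .inl ⟨W ⊓ hf.perp W, hWW, fun u hu v hv => hu.2 v hv.1,
      le_subspaceStabilizer fun h hh v hv => ⟨hW h hh v hv.1, hP h hh v hv.2⟩⟩
  have hsum := Submodule.finrank_sup_add_finrank_inf_eq W (hf.perp W)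
  rw [hWW, finrank_bot] at hsum
  have hle := Submodule.finrank_le (W ⊔ hf.perp W)
  have hge := hf.finrank_perp W
  rw [Module.finrank_fintype_fun_eq_card, Fintype.card_fin] at hle
  have htop : W ⊔ hf.perp W = ⊤ := Submodule.eq_top_of_finrank_eq (by
    rw [Module.finrank_fintype_fun_eq_card, Fintype.card_fin]; omega)
  have hnW := hf.nondeg_of_sup htop fun u hu w hw => hf.zero_comm (hw u hu)
  have hnP := hf.nondeg_of_sup (U := hf.perp W) (W := W) (by rw [sup_comm]; exact htop) fun u hu w hw => hu w hw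
  have hP0 : hf.perp W ≠ ⊥ := fun e => h1 (by rw [← htop, e, sup_bot_eq])
  rcases lt_trichotomy (2 * Module.finrank F W) n with hlt | heq | hgt
  · exact .inr (.inl ⟨W, h0, hnW, hlt, le_subspaceStabilizer hW⟩)
  · refine .inr (.inr (.inl ⟨2, Module.finrank F W, ![W, hf.perp W], ⟨⟨le_rfl, ?_, ?_, ?_, ?_⟩, ?_, ?_⟩,
      fun h hh => ⟨1, fun i => ?_⟩, .inr rfl⟩))
    · rw [Nat.pos_iff_ne_zero, ne_eq, Submodule.finrank_eq_zero]; exact h0
    · intro i
      fin_cases i
      · rfl
      · show Module.finrank F (hf.perp W) = _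
        omega
    · rw [iSupIndep_pair (i := 0) (j := 1) (by decide) (fun k => by fin_cases k <;> simp)]
      exact disjoint_iff.mpr hWW
    · rw [eq_top_iff, ← htop]
      exact sup_le (le_iSup ![W, hf.perp W] 0) (le_iSup ![W, hf.perp W] 1)
    · intro i; fin_cases i
      · exact hnW
      · exact hnP
    · intro i j hij
      fin_cases i <;> fin_cases j
      · exact absurd rfl hij
      · exact fun u hu w hw => hf.zero_comm (hw u hu)
      · exact fun u hu w hw => hu w hw
      · exact absurd rfl hij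
    · fin_cases i
      · exact map_eq_of_invariant (hW h hh)
      · exact map_eq_of_invariant (hP h hh)
  · exact .inr (.inl ⟨hf.perp W, hP0, hnP, by omega, le_subspaceStabilizer hP⟩)

/-- An irreducible group permutes the members of a decomposition transitively. -/
theorem transitive_of_irr {H : Subgroup (GL (Fin n) F)} (hirr : ActsIrreducibly (matrixSet H))
    {t m : ℕ} {D : Fin t → Submodule F (Fin n → F)} (hD : IsMDecomposition m D)
    (hle : H ≤ decompositionStabilizer D) (i j : Fin t) :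
    ∃ h ∈ H, (D i).map (Matrix.toLin' (h : Mat n F)) = D j := by
  classical
  by_contra hno
  push Not at hno
  have hne : ∀ k, D k ≠ ⊥ := fun k e => by
    have := hD.finrank_eq k
    rw [e, finrank_bot] at this
    have := hD.pos
    omega
  let W : Submodule F (Fin n → F) :=
    ⨆ k : {k // ∃ h ∈ H, (D i).map (Matrix.toLin' (h : Mat n F)) = D k}, D k.1
  have hi : ∃ h ∈ H, (D i).map (Matrix.toLin' (h : Mat n F)) = D i := ⟨1, H.one_mem, by simp⟩
  have hW := irr_iff.mp hirr W (by
    rintro _ ⟨g, hg, rfl⟩ v hv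
    obtain ⟨τ, hτ⟩ := hle hg
    induction hv using Submodule.iSup_induction' with
    | mem k v hv =>
      obtain ⟨h, hh, hk⟩ := k.2
      have hmem : ∃ h' ∈ H, (D i).map (Matrix.toLin' (h' : Mat n F)) = D (τ k.1) :=
        ⟨g * h, H.mul_mem hg hh, by rw [Units.val_mul, Matrix.toLin'_mul, Submodule.map_comp, hk, hτ]⟩
      refine Submodule.mem_iSup_of_mem ⟨τ k.1, hmem⟩ ?_
      change _ ∈ D (τ k.1)
      rw [← hτ]
      exact ⟨v, hv, by simp⟩
    | zero => simp
    | add a b _ _ iha ihb => rw [Matrix.mulVec_add]; exact add_mem iha ihb)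
  have htop : W = ⊤ := hW.resolve_left fun e => hne i (eq_bot_iff.mpr (e ▸
    le_iSup (fun k : {k // ∃ h ∈ H, (D i).map (Matrix.toLin' (h : Mat n F)) = D k} => D k.1) ⟨i, hi⟩))
  have hle' : W ≤ ⨆ k, ⨆ _ : k ≠ j, D k :=
    iSup_le fun k => le_iSup₂ (f := fun k (_ : k ≠ j) => D k) k.1 fun e => by
      obtain ⟨h, hh, hk⟩ := k.2
      exact hno h hh (e ▸ hk)
  exact hne j (eq_bot_iff.mpr ((le_inf le_rfl (le_top.trans (htop.ge.trans hle'))).trans
    (disjoint_iff.mp (hD.indep j)).le))

/-- A decomposition given by adjoint-closed central idempotents. -/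
theorem decomp_cases (hf : Herm σ ε f) {H : Subgroup (GL (Fin n) F)}
    (hH : FixesForm (matrixSet H) f) (hirr : ActsIrreducibly (matrixSet H))
    {A : Subalgebra F (Mat n F)} (hA : NormalisedBy A H) (hAc : AdjClosed σ f A)
    {e₀ : Mat n F} (he₀ : e₀ ∈ centre A) (hid : e₀ * e₀ = e₀) (h0 : e₀ ≠ 0) (h1 : e₀ ≠ 1) :
    FormOutcome σ f H := by
  classical
  obtain ⟨t, m, D, hD, hle, -, E, hEc, hE1, hE0, hprim⟩ :=
    decomp_idempotents hirr hA he₀ hid h0 h1
  have hne : ∀ k, D k ≠ ⊥ := fun k e => by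
    have := hD.finrank_eq k
    rw [e, finrank_bot] at this
    have := hD.pos
    omega
  have htm := decomp_card hD
  have hext : ∀ {X Y : Mat n F}, (∀ i, ∀ v ∈ D i, X *ᵥ v = Y *ᵥ v) → X = Y := by
    intro X Y h
    refine Matrix.ext_of_mulVec_single fun k => ?_
    have hmem : (Pi.single k 1 : Fin n → F) ∈ iSup D := hD.iSup_eq_top ▸ Submodule.mem_top
    generalize (Pi.single k 1 : Fin n → F) = x at hmem ⊢
    induction hmem using Submodule.iSup_induction' with
    | mem i v hv => exact h i v hv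
    | zero => simp
    | add a b _ _ iha ihb => rw [Matrix.mulVec_add, Matrix.mulVec_add, iha, ihb]
  have hEE : ∀ i, E i * E i = E i := fun i => hext fun j v hv => by
    rw [← Matrix.mulVec_mulVec]
    by_cases hij : i = j
    · subst hij; rw [hE1 i v hv, hE1 i v hv]
    · rw [hE0 i j hij v hv, Matrix.mulVec_zero]
  have hEij : ∀ i j, i ≠ j → E i * E j = 0 := fun i j hij => hext fun k v hv => by
    rw [← Matrix.mulVec_mulVec, Matrix.zero_mulVec]
    by_cases hjk : j = k
    · subst hjk; rw [hE1 j v hv, hE0 i j hij v hv]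
    · rw [hE0 j k hjk v hv, Matrix.mulVec_zero]
  have hsum : ∀ v, v = ∑ k, E k *ᵥ v := by
    intro v
    have hmem : v ∈ iSup D := hD.iSup_eq_top ▸ Submodule.mem_top
    induction hmem using Submodule.iSup_induction' with
    | mem i v hv =>
      rw [Finset.sum_eq_single i (fun k _ hk => hE0 k i hk v hv)
        (fun h => absurd (Finset.mem_univ _) h), hE1 i v hv]
    | zero => simp
    | add a b _ _ iha ihb =>
      simp only [Matrix.mulVec_add, Finset.sum_add_distrib]
      rw [← iha, ← ihb]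
  have hEmem : ∀ k v, E k *ᵥ v ∈ D k := by
    intro k v
    have hmem : v ∈ iSup D := hD.iSup_eq_top ▸ Submodule.mem_top
    induction hmem using Submodule.iSup_induction' with
    | mem i v hv =>
      by_cases hki : k = i
      · subst hki; rw [hE1 k v hv]; exact hv
      · rw [hE0 k i hki v hv]; exact zero_mem _
    | zero => simp
    | add a b _ _ iha ihb => rw [Matrix.mulVec_add]; exact add_mem iha ihb
  let R : Fin t → Fin t → Prop := fun i j => ∃ u ∈ D i, ∃ v ∈ D j, f u v ≠ 0
  have hRsymm : ∀ i j, R i j → R j i := fun i j ⟨u, hu, v, hv, hne'⟩ =>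
    ⟨v, hv, u, hu, fun e => hne' (hf.zero_comm e)⟩
  have hR1 : ∀ i j, R i j → ∀ u ∈ D i, adj σ f (E j) *ᵥ u = u := by
    rintro i j ⟨u₀, hu₀, v, hv, hne'⟩
    refine (hprim _ (hf.centre_adjClosed hAc _ (hEc j)) (by rw [← hf.adj_mul, hEE]) i).resolve_right
      fun h => hne' ?_
    rw [← hE1 j v hv]
    conv_lhs => rw [← hf.adj_adj (E j), ← hf.apply_adj, h u₀ hu₀, hf.zero_left]
  have huniq : ∀ i j k, R i j → R i k → j = k := by
    intro i j k hj hk
    by_contra hne'
    obtain ⟨u, hu, hu0⟩ := Submodule.exists_mem_ne_zero_of_ne_bot (hne i)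
    have h := hR1 i j hj u hu
    rw [← hR1 i k hk u hu, Matrix.mulVec_mulVec, ← hf.adj_mul, hEij k j (Ne.symm hne'), hf.adj_zero,
      Matrix.zero_mulVec, hR1 i k hk u hu] at h
    exact hu0 h.symm
  have hRex : ∀ i, ∃ j, R i j := by
    intro i
    obtain ⟨u, hu, hu0⟩ := Submodule.exists_mem_ne_zero_of_ne_bot (hne i)
    obtain ⟨x, hx⟩ := (hf.nondeg u hu0).2
    by_contra hno
    push Not at hno
    refine hx ?_
    clear hx
    have hmem : x ∈ iSup D := hD.iSup_eq_top ▸ Submodule.mem_top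
    induction hmem using Submodule.iSup_induction' with
    | mem j v hv =>
      by_contra h
      exact hno j ⟨u, hu, v, hv, h⟩
    | zero => exact hf.zero_right u
    | add a b _ _ iha ihb => rw [hf.sesq.add_right, iha, ihb, add_zero]
  choose π hπ using hRex
  have hinv : ∀ i, π (π i) = i := fun i => huniq _ _ _ (hπ _) (hRsymm _ _ (hπ i))
  have horth : ∀ i j, j ≠ π i → ∀ u ∈ D i, ∀ v ∈ D j, f u v = 0 := fun i j hj u hu v hv => by
    by_contra h
    exact hj (huniq _ _ _ ⟨u, hu, v, hv, h⟩ (hπ i))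
  have hequiv : ∀ h ∈ H, ∀ τ : Equiv.Perm (Fin t),
      (∀ i, (D i).map (Matrix.toLin' (h : Mat n F)) = D (τ i)) → ∀ i, π (τ i) = τ (π i) := by
    intro h hh τ hτ i
    obtain ⟨u, hu, v, hv, hne'⟩ := hπ i
    refine huniq _ _ _ (hπ _) ⟨(h : Mat n F) *ᵥ u, ?_, (h : Mat n F) *ᵥ v, ?_, ?_⟩
    · rw [← hτ]; exact ⟨u, hu, by simp⟩
    · rw [← hτ]; exact ⟨v, hv, by simp⟩
    · rw [hH _ (mem_matrixSet hh)]; exact hne'
  have htrans := transitive_of_irr hirr hD hle
  by_cases hfix : ∃ i, π i = i
  · obtain ⟨i₀, hi₀⟩ := hfix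
    have hall : ∀ j, π j = j := by
      intro j
      obtain ⟨h, hh, hmap⟩ := htrans i₀ j
      obtain ⟨τ, hτ⟩ := hle hh
      have hj : τ i₀ = j := by
        by_contra hne'
        have e : D (τ i₀) = D j := (hτ i₀).symm.trans hmap
        have hd := hD.indep.pairwiseDisjoint hne'
        rw [Function.onFun, e, disjoint_self] at hd
        exact hne j hd
      rw [← hj, hequiv h hh τ hτ, hi₀]
    refine .inr (.inr (.inl ⟨t, m, D, ⟨hD, fun i u hu hu0 => ?_, fun i j hij u hu v hv =>
      horth i j (by rw [hall]; exact Ne.symm hij) u hu v hv⟩, hle, .inl htrans⟩))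
    obtain ⟨⟨x, hx⟩, ⟨y, hy⟩⟩ := hf.nondeg u hu0
    refine ⟨⟨E i *ᵥ x, hEmem i x, fun e => hx ?_⟩, ⟨E i *ᵥ y, hEmem i y, fun e => hy ?_⟩⟩
    · conv_lhs => rw [hsum x]
      let L : (Fin n → F) →+ F := AddMonoidHom.mk' (fun z => f z u) fun a b => hf.sesq.add_left a b u
      change L _ = 0
      rw [map_sum]
      refine Finset.sum_eq_zero fun k _ => ?_
      by_cases hki : k = i
      · subst hki; exact e
      · exact horth k i (by rw [hall]; exact Ne.symm hki) _ (hEmem k x) u hu
    · conv_lhs => rw [hsum y]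
      let L : (Fin n → F) →+ F := AddMonoidHom.mk' (fun z => f u z) (hf.sesq.add_right u)
      change L _ = 0
      rw [map_sum]
      refine Finset.sum_eq_zero fun k _ => ?_
      by_cases hki : k = i
      · subst hki; exact e
      · exact horth i k (by rw [hall]; exact hki) u hu _ (hEmem k y)
  push Not at hfix
  have hts : ∀ i, IsTotallySingularFor f (D i) := fun i u hu v hv =>
    horth i i (hfix i).symm u hu v hv
  -- the pairs
  set S : Finset (Fin t) := Finset.univ.filter fun i => i < π i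
  have hcard : 2 * S.card = t := by
    have hc : (Finset.univ.filter fun i => π i < i).card = S.card :=
      Finset.card_bij (fun i _ => π i) (fun i hi => by
        simp only [Finset.mem_filter, S, Finset.mem_univ, true_and] at hi ⊢; rw [hinv]; exact hi)
        (fun a _ b _ e => by simpa [hinv] using congrArg π e)
        (fun b hb => ⟨π b, by
          simp only [Finset.mem_filter, S, Finset.mem_univ, true_and] at hb ⊢; rw [hinv]; exact hb,
          hinv b⟩)
    have hsplit := Finset.card_filter_add_card_filter_not (s := (Finset.univ : Finset (Fin t)))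
      (fun i => i < π i)
    have e : (Finset.univ.filter fun i => ¬ i < π i) = Finset.univ.filter fun i => π i < i := by
      ext i
      simp only [Finset.mem_filter, Finset.mem_univ, true_and, not_lt]
      exact ⟨fun h => lt_of_le_of_ne h (hfix i), le_of_lt⟩
    rw [e, hc, Finset.card_univ, Fintype.card_fin] at hsplit
    change S.card + S.card = t at hsplit
    omega
  by_cases ht2 : t = 2
  · subst ht2
    exact .inr (.inr (.inr (.inl ⟨m, D, htm, hD, hts, hle⟩)))
  set s := S.card with hs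
  let rep : Fin s → Fin t := fun b => (S.equivFin.symm b).1
  have hrep : ∀ b, rep b < π (rep b) := fun b => by
    have h := (S.equivFin.symm b).2
    exact (Finset.mem_filter.mp h).2
  have hrepinj : Function.Injective rep := fun a b e => S.equivFin.symm.injective (Subtype.ext e)
  have hrepsurj : ∀ i, ∃ b, i = rep b ∨ i = π (rep b) := by
    intro i
    by_cases hi : i < π i
    · exact ⟨S.equivFin ⟨i, Finset.mem_filter.mpr ⟨Finset.mem_univ _, hi⟩⟩, .inl (by simp [rep])⟩
    · have hi' : π i < π (π i) := by rw [hinv]; exact lt_of_le_of_ne (not_lt.mp hi) (hfix i)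
      refine ⟨S.equivFin ⟨π i, Finset.mem_filter.mpr ⟨Finset.mem_univ _, hi'⟩⟩, .inr ?_⟩
      simp [rep, hinv]
  have hdisj : ∀ a b, a ≠ b → rep a ≠ π (rep b) := fun a b hab e => by
    have h1' := hrep a
    rw [e, hinv] at h1'
    exact lt_asymm h1' (hrep b)
  let D' : Fin s → Submodule F (Fin n → F) := fun b => D (rep b) ⊔ D (π (rep b))
  let E' : Fin s → Mat n F := fun b => E (rep b) + E (π (rep b))
  have hmemD' : ∀ b k, (k = rep b ∨ k = π (rep b)) → D k ≤ D' b := by
    rintro b k (rfl | rfl)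
    · exact le_sup_left
    · exact le_sup_right
  have hE'1 : ∀ b, ∀ v ∈ D' b, E' b *ᵥ v = v := by
    intro b v hv
    obtain ⟨x, hx, y, hy, rfl⟩ := Submodule.mem_sup.mp hv
    simp only [E', Matrix.add_mulVec, Matrix.mulVec_add, hE1 _ x hx, hE1 _ y hy,
      hE0 _ _ (hfix (rep b)) x hx, hE0 _ _ (hfix (rep b)).symm y hy]
    simp
  have hne4 : ∀ a b, a ≠ b → ∀ p q, (p = rep a ∨ p = π (rep a)) → (q = rep b ∨ q = π (rep b)) → p ≠ q := by
    intro a b hab p q hp hq e
    subst e
    rcases hp with rfl | rfl <;> rcases hq with h | h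
    · exact hab (hrepinj h)
    · exact hdisj a b hab h
    · exact hdisj b a (Ne.symm hab) h.symm
    · exact hab (hrepinj (by simpa [hinv] using congrArg π h))
  have hE'0 : ∀ a b, a ≠ b → ∀ v ∈ D' b, E' a *ᵥ v = 0 := by
    intro a b hab v hv
    obtain ⟨x, hx, y, hy, rfl⟩ := Submodule.mem_sup.mp hv
    simp only [E', Matrix.add_mulVec, Matrix.mulVec_add,
      hE0 _ _ (hne4 a b hab _ _ (.inl rfl) (.inl rfl)) x hx,
      hE0 _ _ (hne4 a b hab _ _ (.inr rfl) (.inl rfl)) x hx,
      hE0 _ _ (hne4 a b hab _ _ (.inl rfl) (.inr rfl)) y hy,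
      hE0 _ _ (hne4 a b hab _ _ (.inr rfl) (.inr rfl)) y hy]
    simp
  have hindep : iSupIndep D' := by
    intro a
    rw [Submodule.disjoint_def]
    intro v hv hv'
    rw [← hE'1 a v hv]
    have hker : (⨆ b, ⨆ _ : b ≠ a, D' b) ≤ LinearMap.ker (Matrix.toLin' (E' a)) :=
      iSup₂_le fun b hb w hw => by
        rw [LinearMap.mem_ker, Matrix.toLin'_apply]
        exact hE'0 a b (Ne.symm hb) w hw
    exact LinearMap.mem_ker.mp (hker hv')
  have hrank : ∀ b, Module.finrank F (D' b) = 2 * m := by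
    intro b
    have h := Submodule.finrank_sup_add_finrank_inf_eq (D (rep b)) (D (π (rep b)))
    rw [disjoint_iff.mp (hD.indep.pairwiseDisjoint (hfix (rep b)).symm), finrank_bot,
      hD.finrank_eq, hD.finrank_eq] at h
    show Module.finrank F ↥(D (rep b) ⊔ D (π (rep b))) = _
    omega
  have hs2 : 2 ≤ s := by
    have := hD.two_le
    omega
  have hstab : H ≤ decompositionStabilizer D' := by
    intro h hh
    obtain ⟨τ, hτ⟩ := hle hh
    have hτb : ∀ a, ∃ b, τ (rep a) = rep b ∨ τ (rep a) = π (rep b) := fun a => hrepsurj _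
    choose ρ hρ using hτb
    have hmap : ∀ a, (D' a).map (Matrix.toLin' (h : Mat n F)) = D' (ρ a) := by
      intro a
      simp only [D', Submodule.map_sup, hτ, ← hequiv h hh τ hτ]
      rcases hρ a with e | e
      · rw [e]
      · rw [e, hinv, sup_comm]
    have hρinj : Function.Injective ρ := by
      intro a b e
      by_contra hab
      have h1' := hmap a
      rw [e, ← hmap b] at h1'
      have h2' := Submodule.map_injective_of_injective
        (Matrix.mulVec_injective_iff_isUnit.2 h.isUnit) h1'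
      have h3' := hindep.pairwiseDisjoint hab
      rw [Function.onFun, h2', disjoint_self] at h3'
      have := hrank b
      rw [h3', finrank_bot] at this
      have := hD.pos
      omega
    exact ⟨Equiv.ofBijective ρ ⟨hρinj, Finite.surjective_of_injective hρinj⟩, hmap⟩
  have hdec : IsMDecomposition (2 * m) D' := by
    refine ⟨hs2, by have := hD.pos; omega, hrank, hindep, ?_⟩
    rw [eq_top_iff, ← hD.iSup_eq_top]
    refine iSup_le fun i => ?_
    obtain ⟨b, hb⟩ := hrepsurj i
    exact (hmemD' b i hb).trans (le_iSup D' b)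
  have horth' : ∀ a b, a ≠ b → AreOrthogonalFor f (D' a) (D' b) := by
    intro a b hab u hu v hv
    obtain ⟨x, hx, y, hy, rfl⟩ := Submodule.mem_sup.mp hu
    obtain ⟨x', hx', y', hy', rfl⟩ := Submodule.mem_sup.mp hv
    rw [hf.sesq.add_left, hf.sesq.add_right, hf.sesq.add_right,
      horth _ _ (hne4 b a (Ne.symm hab) _ _ (.inl rfl) (.inr rfl)) x hx x' hx',
      horth _ _ (hne4 b a (Ne.symm hab) _ _ (.inr rfl) (.inr rfl)) x hx y' hy',
      horth _ _ (hne4 b a (Ne.symm hab) _ _ (.inl rfl) (.inl (hinv _))) y hy x' hx',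
      horth _ _ (hne4 b a (Ne.symm hab) _ _ (.inr rfl) (.inl (hinv _))) y hy y' hy']
    simp
  refine .inr (.inr (.inl ⟨s, 2 * m, D', ⟨hdec, fun a => ?_, horth'⟩, hstab,
    .inl (transitive_of_irr hirr hdec hstab)⟩))
  refine hf.nondeg_of_sup (W := ⨆ b, ⨆ _ : b ≠ a, D' b) ?_ fun u hu w hw => ?_
  · rw [eq_top_iff, ← hdec.iSup_eq_top]
    refine iSup_le fun b => ?_
    by_cases hb : b = a
    · subst hb; exact le_sup_left
    · exact le_sup_of_le_right (le_iSup₂ (f := fun b (_ : b ≠ a) => D' b) b hb)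
  · have hsub : (⨆ b, ⨆ _ : b ≠ a, D' b) ≤ hf.perp (D' a) :=
      iSup₂_le fun b hb x hx y hy => horth' b a hb x hx y hy
    exact hf.zero_comm (hsub hw u hu)

end CfsgLib.Classical.AschForm
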