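import Cfsg.Agent.Lib.Classical.AschForm.OddTransport
import Cfsg.Agent.Lib.Classical.OrthEven.Proper
import Cfsg.Agent.Lib.Classical.TensorPower.Core

/-!
# Maximal subgroups of `Ω₉(q)`, `q` odd
-/

set_option autoImplicit false
set_option linter.unusedSectionVars false

namespace CfsgLib.Classical.AschForm

open Matrix Cfsg Cfsg.Geo CfsgLib.Classical.AschPrime CfsgLib.Classical.AschGen
open scoped MatrixGroups Kronecker commutatorElement

variable {F : Type*} [Field F] {n : ℕ}

/-- The two factor wreath stabiliser has its commutators in the tensor product stabiliser. -/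
theorem wreath_commutator_le {ι : Type} [Fintype ι] [DecidableEq ι] {k : ℕ} (e : ι ≃ (Fin 2 → Fin k))
    (P : GL ι F) :
    ⁅tensorWreathSubgroup k 2 e P, tensorWreathSubgroup k 2 e P⁆ ≤
      tensorProductSubgroup k k (e.trans (piFinTwoEquiv fun _ => Fin k)) P := by
  classical
  have hle := TensorPower.tensorWreath_le_wreath e P
  refine (Subgroup.commutator_mono hle hle).trans ?_
  rw [Subgroup.commutator_le]
  rintro g ⟨σ, gs, hg⟩ h ⟨τ, hs, hh⟩
  have hmul : ∀ {a b : GL ι F} {α β : Equiv.Perm (Fin 2)} {as bs : Fin 2 → GL (Fin k) F},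
      TensorPower.ActsAs e P a α as → TensorPower.ActsAs e P b β bs →
      TensorPower.ActsAs e P (a * b) (α.trans β) (fun l => as l * bs (α l)) := by
    intro a b α β as bs ha hb u
    rw [Units.val_mul, ← Matrix.mulVec_mulVec, hb, ha]
    congr 1
    funext l
    rw [Units.val_mul, ← Matrix.mulVec_mulVec]
    rfl
  have hinv : ∀ {a : GL ι F} {α : Equiv.Perm (Fin 2)} {as : Fin 2 → GL (Fin k) F},
      TensorPower.ActsAs e P a α as → TensorPower.ActsAs e P a⁻¹ α.symm fun l => (as (α.symm l))⁻¹ := by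
    intro a α as ha u
    have h := congrArg (fun x => ((a⁻¹ : GL ι F) : Matrix ι ι F) *ᵥ x)
      (ha fun l => ((as (α.symm l))⁻¹ : GL (Fin k) F).1 *ᵥ u (α.symm l))
    simp only [Matrix.mulVec_mulVec, ← Units.val_mul, inv_mul_cancel, Units.val_one, Matrix.one_mulVec,
      Equiv.symm_apply_apply, mul_inv_cancel] at h
    exact h.symm
  have hcomm : ∀ α β : Equiv.Perm (Fin 2), ((α.trans β).trans α.symm).trans β.symm = 1 := by decide
  obtain ⟨as, has⟩ : ∃ as, TensorPower.ActsAs e P ⁅g, h⁆ 1 as := by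
    rw [← hcomm σ τ, commutatorElement_def]
    exact ⟨_, hmul (hmul (hmul hg hh) (hinv hg)) (hinv hh)⟩
  let K : GL (Fin k × Fin k) F :=
    ⟨(as 0 : Matrix (Fin k) (Fin k) F) ⊗ₖ (as 1 : Matrix (Fin k) (Fin k) F),
      ((as 0)⁻¹ : GL (Fin k) F).1 ⊗ₖ ((as 1)⁻¹ : GL (Fin k) F).1,
      by rw [← Matrix.mul_kronecker_mul, Units.mul_inv, Units.mul_inv, Matrix.one_kronecker_one],
      by rw [← Matrix.mul_kronecker_mul, Units.inv_mul, Units.inv_mul, Matrix.one_kronecker_one]⟩
  let ε : (Fin 2 → Fin k) ≃ Fin k × Fin k := piFinTwoEquiv fun _ => Fin k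
  refine ⟨glReindex (e.trans ε).symm K, ⟨K, ⟨as 0, as 1, rfl⟩, rfl⟩, ?_⟩
  have hcomp : glReindex (e.trans ε).symm K = glReindex e.symm (glReindex ε.symm K) := Units.ext (by
    show Matrix.reindex _ _ K.val = Matrix.reindex _ _ (Matrix.reindex _ _ K.val)
    ext i j
    simp)
  refine Units.ext (TensorPower.ext_pure e P fun u => ?_)
  change ((MulAut.conj P (glReindex (e.trans ε).symm K) : GL ι F) : Matrix ι ι F) *ᵥ _ = _
  rw [hcomp, TensorPower.reindex_pure, has, TensorPower.pure]
  congr 1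
  funext j
  show (Matrix.reindex ε.symm ε.symm ((as 0 : Matrix (Fin k) (Fin k) F) ⊗ₖ (as 1 : Matrix (Fin k) (Fin k) F)) *ᵥ
    fun a => ∏ l, u l (a l)) (e j) = ∏ l, ((as l : Matrix (Fin k) (Fin k) F) *ᵥ u l) (e j l)
  simp only [Matrix.mulVec, dotProduct, Fin.prod_univ_two]
  rw [← ε.symm.sum_comp, Finset.sum_mul_sum, ← Finset.sum_product']
  refine Finset.sum_congr rfl fun c _ => ?_
  simp [ε, piFinTwoEquiv]
  ring

variable {Q : (Fin n → F) → F}

/-- `Ω` is perfect. -/
theorem omega_perfect [Fintype F] (hQ : IsNondegenerateQuadraticForm Q) (hn : 7 ≤ n) :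
    omegaGL Q ≤ ⁅omegaGL Q, omegaGL Q⁆ := by
  obtain ⟨hp⟩ := OrthEven.hyp_pairs hQ (by omega)
  rw [omegaGL_eq (Qf := Q) (OrthEven.qf hQ) (fun _ => rfl), ← Subgroup.map_commutator]
  exact Subgroup.map_mono
    (commutator_perfect (OrthEven.qf_nondeg hQ) (OrthEven.good hQ (by omega)) hp (OrthEven.five_le hQ (by omega)))

/-- Over three elements three isometric orthogonal three-spaces give an invariant frame. -/
theorem three_blocks_lines [Fintype F] (hn : n = 9) (hQ : IsNondegenerateQuadraticForm Q) (h2 : (2 : F) ≠ 0)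
    (hq : Fintype.card F = 3) {H : Subgroup (GL (Fin n) F)} (hH : H ≤ Cfsg.isometryGroup F Q)
    {D : Fin 3 → Submodule F (Fin n → F)} (hD : IsOrthogonalMDecomposition Q 3 D)
    (hle : H ≤ decompositionStabilizer D) :
    ∃ D' : Fin n → Submodule F (Fin n → F),
      IsOrthogonalMDecomposition Q 1 D' ∧ H ≤ decompositionStabilizer D' := by
  classical
  have hs := hQ.polar_bilinear
  have hq' : ∀ x : F, x = 0 ∨ x = 1 ∨ x = -1 := by
    intro x
    have hx := FiniteField.pow_card x
    rw [hq] at hx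
    have : x * ((x - 1) * (x + 1)) = 0 := by linear_combination hx
    rcases mul_eq_zero.mp this with h | h
    · exact .inl h
    rcases mul_eq_zero.mp h with h | h
    · exact .inr (.inl (sub_eq_zero.mp h))
    · exact .inr (.inr (eq_neg_of_add_eq_zero_left h))
  have h3 : (3 : F) = 0 := by
    have := FiniteField.cast_card_eq_zero F
    rwa [hq, Nat.cast_ofNat] at this
  have hsum_left : ∀ {κ : Type} (s : Finset κ) (a : κ → F) (x : κ → Fin n → F) (y : Fin n → F),
      QuadraticMap.polar Q (∑ j ∈ s, a j • x j) y = ∑ j ∈ s, a j * QuadraticMap.polar Q (x j) y := by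
    intro κ s a x y
    induction s using Finset.induction with
    | empty => simpa using hs.smul_left 0 0 y
    | insert b s hb ih => rw [Finset.sum_insert hb, Finset.sum_insert hb, hs.add_left, hs.smul_left, ih]
  have hsum_right : ∀ {κ : Type} (s : Finset κ) (a : κ → F) (x : κ → Fin n → F) (y : Fin n → F),
      QuadraticMap.polar Q y (∑ j ∈ s, a j • x j) = ∑ j ∈ s, a j * QuadraticMap.polar Q y (x j) := by
    intro κ s a x y
    rw [QuadraticMap.polar_comm, hsum_left]
    simp only [QuadraticMap.polar_comm Q y]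
  -- an orthogonal basis of constant norm in the first member
  let b := Module.finBasisOfFinrankEq F (D 0) (hD.decomp.decomp.finrank_eq 0)
  let M : Mat 3 F := Matrix.of fun i j => QuadraticMap.polar Q (b i : Fin n → F) (b j : Fin n → F)
  have hMdet : M.det ≠ 0 := by
    intro h0
    obtain ⟨a, ha, haM⟩ := Matrix.exists_mulVec_eq_zero_iff.mpr h0
    let x : D 0 := ∑ j, a j • b j
    have hx0 : (x : Fin n → F) ≠ 0 := fun e => ha (by
      funext j
      have := congrArg (fun y => b.repr y j) (Subtype.ext (a2 := (0 : D 0)) e : x = 0)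
      simpa [x, map_sum, Finsupp.single_apply] using this)
    obtain ⟨⟨y, hy, hyx⟩, -⟩ := hD.decomp.nondegenerate 0 x x.2 hx0
    refine hyx ?_
    have hyb : y = ((∑ i, b.repr ⟨y, hy⟩ i • b i : D 0) : Fin n → F) := by rw [b.sum_repr]
    rw [hyb, Submodule.coe_sum]
    simp only [SetLike.val_smul]
    rw [hsum_left]
    refine Finset.sum_eq_zero fun i _ => ?_
    simp only [x, Submodule.coe_sum, SetLike.val_smul]
    rw [hsum_right, show (∑ j, a j * QuadraticMap.polar Q (b i : Fin n → F) (b j : Fin n → F)) = (M *ᵥ a) i by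
      simp [M, Matrix.mulVec, dotProduct, mul_comm], haM, Pi.zero_apply, mul_zero]
  obtain ⟨B, B', c, hBB, hB'B, hB⟩ := KnownC.GraphForms.similar_of_odd h2
    (M := M) (M' := (1 : Mat 3 F)) (Matrix.ext fun i j => QuadraticMap.polar_comm Q _ _)
    Matrix.transpose_one rfl hMdet (by simp) (by decide)
  choose E hE using fun i => hD.isometric 0 i
  let w : Fin 3 → D 0 := fun l => ∑ i, B i l • b i
  let v : Fin 3 × Fin 3 → (Fin n → F) := fun p => (E p.1 (w p.2) : Fin n → F)
  have hv : ∀ p, v p ∈ D p.1 := fun p => (E p.1 (w p.2)).2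
  have hEpol : ∀ i (x y : D 0), QuadraticMap.polar Q (E i x : Fin n → F) (E i y : Fin n → F) =
      QuadraticMap.polar Q (x : Fin n → F) (y : Fin n → F) := fun i x y => by
    simp only [QuadraticMap.polar, ← Submodule.coe_add, ← map_add, hE]
  have hww : ∀ l l', QuadraticMap.polar Q (w l : Fin n → F) (w l' : Fin n → F) =
      if l = l' then (c : F) else 0 := by
    intro l l'
    have e1 := congrFun (congrFun hB l) l'
    simp only [w, Submodule.coe_sum, SetLike.val_smul]
    rw [hsum_left]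
    simp only [hsum_right]
    rw [show (if l = l' then (c : F) else 0) = ((c : F) • (1 : Mat 3 F)) l l' by simp [Matrix.one_apply], ← e1]
    simp only [Matrix.mul_apply, Matrix.transpose_apply, M, Matrix.of_apply, Finset.sum_mul, Finset.mul_sum]
    rw [Finset.sum_comm]
    exact Finset.sum_congr rfl fun i _ => Finset.sum_congr rfl fun j _ => by ring
  have hvv : ∀ p p', QuadraticMap.polar Q (v p) (v p') = if p = p' then (c : F) else 0 := by
    rintro ⟨i, l⟩ ⟨i', l'⟩
    by_cases hi : i = i'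
    · subst hi
      simp only [v, hEpol, hww, Prod.mk.injEq, true_and]
    · rw [if_neg fun e => hi (congrArg Prod.fst e)]
      exact hD.decomp.orthogonal i i' hi _ (hv (i, l)) _ (hv (i', l'))
  have hc0 : (c : F) ≠ 0 := c.ne_zero
  -- the vectors of norm `c` in a member lie on the frame
  have hkey : ∀ i, ∀ x ∈ D i, QuadraticMap.polar Q x x = c → ∃ l, x ∈ F ∙ v (i, l) := by
    intro i x hx hxc
    obtain ⟨a, ha⟩ : ∃ a : Fin 3 → F, x = ∑ l, a l • v (i, l) := by
      refine ⟨B' *ᵥ (fun j => b.repr ((E i).symm ⟨x, hx⟩) j), ?_⟩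
      set r := fun j => b.repr ((E i).symm ⟨x, hx⟩) j
      have e : (∑ l, (B' *ᵥ r) l • w l) = (E i).symm ⟨x, hx⟩ := by
        conv_rhs => rw [← b.sum_repr ((E i).symm ⟨x, hx⟩)]
        simp only [w, Finset.smul_sum, smul_smul]
        rw [Finset.sum_comm]
        refine Finset.sum_congr rfl fun j _ => ?_
        rw [← Finset.sum_smul]
        congr 1
        have e2 : (B *ᵥ (B' *ᵥ r)) j = r j := by rw [Matrix.mulVec_mulVec, hBB, Matrix.one_mulVec]
        exact (show _ = (B *ᵥ (B' *ᵥ r)) j by simp [Matrix.mulVec, dotProduct, mul_comm]).trans e2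
      have e3 := congrArg (fun y => (E i y : Fin n → F)) e
      simpa [v, map_sum, Submodule.coe_sum] using e3.symm
    have hsq : a 0 * a 0 + a 1 * a 1 + a 2 * a 2 = 1 := by
      rw [ha, hsum_left] at hxc
      simp only [hsum_right, hvv] at hxc
      simp [Fin.sum_univ_three] at hxc
      exact mul_right_cancel₀ hc0 (by linear_combination hxc)
    have sq : ∀ y : F, y ≠ 0 → y * y = 1 := fun y hy => by
      rcases hq' y with e | e | e
      · exact absurd e hy
      · rw [e, one_mul]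
      · rw [e]; ring
    rw [Fin.sum_univ_three] at ha
    by_cases h0 : a 0 = 0 <;> by_cases h1 : a 1 = 0 <;> by_cases h2' : a 2 = 0
    · simp [h0, h1, h2'] at hsq
    · exact ⟨2, Submodule.mem_span_singleton.mpr ⟨a 2, by simp [ha, h0, h1]⟩⟩
    · exact ⟨1, Submodule.mem_span_singleton.mpr ⟨a 1, by simp [ha, h0, h2']⟩⟩
    · rw [h0, sq _ h1, sq _ h2'] at hsq; simp at hsq
    · exact ⟨0, Submodule.mem_span_singleton.mpr ⟨a 0, by simp [ha, h1, h2']⟩⟩
    · rw [h1, sq _ h0, sq _ h2'] at hsq; simp at hsq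
    · rw [h2', sq _ h0, sq _ h1] at hsq; simp at hsq
    · rw [sq _ h0, sq _ h1, sq _ h2'] at hsq
      exact absurd (show (1 : F) = 0 by linear_combination h3 - hsq) one_ne_zero
  let ε : Fin n ≃ Fin 3 × Fin 3 := (finCongr hn).trans (finProdFinEquiv (m := 3) (n := 3)).symm
  let D' : Fin n → Submodule F (Fin n → F) := fun j => F ∙ v (ε j)
  have hli : LinearIndependent F fun j => v (ε j) := by
    rw [Fintype.linearIndependent_iff]
    intro a ha j
    have h := congrArg (fun u => QuadraticMap.polar Q u (v (ε j))) ha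
    rw [hsum_left, show QuadraticMap.polar Q 0 (v (ε j)) = 0 by simpa using hs.smul_left 0 0 (v (ε j))] at h
    simpa [hvv, hc0, ε.injective.eq_iff] using h
  have hrank : ∀ j, Module.finrank F (D' j) = 1 := fun j => finrank_span_singleton (hli.ne_zero j)
  have hDm : IsMDecomposition 1 D' := by
    refine ⟨by omega, one_pos, hrank, hli.iSupIndep_span_singleton, ?_⟩
    rw [← Submodule.span_range_eq_iSup]
    exact hli.span_eq_top_of_card_eq_finrank' (by simp)
  have hQv : ∀ p, 2 * Q (v p) = c := fun p => by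
    rw [← OrthEven.b_self hQ, hvv, if_pos rfl]
  refine ⟨D', ⟨⟨hDm, fun j x hx hx0 => ?_, fun i j hij x hx y hy => ?_⟩, fun i j => ?_⟩, fun h hh => ?_⟩
  · obtain ⟨r, rfl⟩ := Submodule.mem_span_singleton.mp hx
    have hr : r ≠ 0 := fun e => hx0 (by rw [e, zero_smul])
    exact ⟨⟨_, Submodule.mem_span_singleton_self _, by rw [hs.smul_right, hvv, if_pos rfl]; exact mul_ne_zero hr hc0⟩,
      ⟨_, Submodule.mem_span_singleton_self _, by rw [hs.smul_left, hvv, if_pos rfl]; exact mul_ne_zero hr hc0⟩⟩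
  · obtain ⟨r, rfl⟩ := Submodule.mem_span_singleton.mp hx
    obtain ⟨r', rfl⟩ := Submodule.mem_span_singleton.mp hy
    rw [hs.smul_left, hs.smul_right, hvv, if_neg (ε.injective.ne hij), mul_zero, mul_zero]
  · refine ⟨(LinearEquiv.toSpanNonzeroSingleton F _ _ (hli.ne_zero i)).symm.trans
      (LinearEquiv.toSpanNonzeroSingleton F _ _ (hli.ne_zero j)), fun x => ?_⟩
    obtain ⟨r, rfl⟩ := (LinearEquiv.toSpanNonzeroSingleton F _ _ (hli.ne_zero i)).surjective x
    rw [LinearEquiv.trans_apply, LinearEquiv.symm_apply_apply]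
    show Q (r • v (ε j)) = Q (r • v (ε i))
    rw [hQ.smul, hQ.smul]
    congr 1
    exact mul_left_cancel₀ h2 ((hQv _).trans (hQv _).symm)
  · obtain ⟨τ, hτ⟩ := hle hh
    have hb : ∀ j, ∃ j', (D' j).map (Matrix.toLin' (h : Mat n F)) = D' j' := by
      intro j
      have hm : (h : Mat n F) *ᵥ v (ε j) ∈ D (τ (ε j).1) := by
        rw [← hτ]; exact ⟨_, hv _, Matrix.toLin'_apply _ _⟩
      obtain ⟨l, hl⟩ := hkey _ _ hm (by rw [OrthPrime.polar_isometry (hH hh), hvv, if_pos rfl])
      refine ⟨ε.symm (τ (ε j).1, l), Submodule.eq_of_le_of_finrank_eq ?_ ?_⟩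
      · rintro _ ⟨u, hu, rfl⟩
        obtain ⟨r, rfl⟩ := Submodule.mem_span_singleton.mp hu
        rw [Matrix.toLin'_apply, Matrix.mulVec_smul]
        refine Submodule.smul_mem _ _ ?_
        simpa [D'] using hl
      · rw [(Submodule.equivMapOfInjective _ (Matrix.mulVec_injective_iff_isUnit.2 h.isUnit) _).finrank_eq.symm,
          hrank, hrank]
    choose π hπ using hb
    have hinj : Function.Injective π := fun i j hij => by
      refine hDm.indep.injective (fun l h0 => ?_) ?_
      · have := hrank l; rw [h0, finrank_bot] at this; omega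
      · exact Submodule.map_injective_of_injective (Matrix.mulVec_injective_iff_isUnit.2 h.isUnit)
          ((hπ i).trans (hij ▸ (hπ j).symm))
    exact ⟨Equiv.ofBijective π ⟨hinj, Finite.injective_iff_surjective.mp hinj⟩, hπ⟩

variable [Fintype F]

/-- The cases in dimension nine. -/
theorem omega_nine_cases (hodd' : Odd (Fintype.card F)) (hn : n = 9) (hQ : IsNondegenerateQuadraticForm Q) (h2 : (2 : F) ≠ 0)
    (hd : ∀ F₁ : Subfield F, ∃ d0 ∈ F₁, ∃ s : F, (OrthPrime.pgram Q).det = d0 * s ^ 2)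
    {H : Subgroup (GL (Fin n) F)} (hH : IsMaximalIn (omegaGL Q) H) :
    (∃ U : Submodule F (Fin n → F), U ≠ ⊥ ∧ IsTotallySingularQuad Q U ∧
        H = subspaceStabilizer U ⊓ omegaGL Q) ∨
    (∃ U : Submodule F (Fin n → F), U ≠ ⊥ ∧ Even (Module.finrank F U) ∧
        IsNondegenerateOn (QuadraticMap.polar Q) U ∧ ¬ OrthPrime.Bad Q U ∧
        H = subspaceStabilizer U ⊓ omegaGL Q) ∨
    ((Fintype.card F).Prime ∧ ∃ D : Fin 9 → Submodule F (Fin n → F),
        IsOrthogonalMDecomposition Q 1 D ∧ H = decompositionStabilizer D ⊓ omegaGL Q) ∨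
    (5 ≤ Fintype.card F ∧ ∃ D : Fin 3 → Submodule F (Fin n → F),
        IsOrthogonalMDecomposition Q 3 D ∧ H = decompositionStabilizer D ⊓ omegaGL Q) ∨
    (∃ K : Subalgebra F (Mat n F), IsFieldSubalgebra 3 K ∧
        IsSelfAdjointFor (QuadraticMap.polar Q) K ∧ H = subalgebraNormalizer K ⊓ omegaGL Q) ∨
    (∃ (F₀ : Subfield F) (r : ℕ) (P : GL (Fin n) F), r.Prime ∧
        Fintype.card F = Nat.card F₀ ^ r ∧ IsQuadFormRationalStructure Q F₀ P ∧
        H = subfieldSubgroup F₀ P ⊓ omegaGL Q) ∨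
    (5 ≤ Fintype.card F ∧ ∃ (e : Fin n ≃ (Fin 2 → Fin 3)) (P : GL (Fin n) F)
        (f₁ : (Fin 3 → F) → (Fin 3 → F) → F), IsSymmetricForm f₁ ∧
        IsTensorPowerFormStructure id (QuadraticMap.polar Q) f₁ e P ∧
        H = tensorWreathSubgroup 3 2 e P ⊓ omegaGL Q) ∨
    InOrthogonalResidualClass H := by
  classical
  have hn7 : 7 ≤ n := by omega
  have hodd : Odd n := by rw [hn]; decide
  have hGI : omegaGL Q ≤ Cfsg.isometryGroup F Q := by rintro _ ⟨x, -, rfl⟩; exact x.2
  have hHI : H ≤ Cfsg.isometryGroup F Q := hH.1.le.trans hGI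
  have h5 : Fintype.card F ≠ 3 → 5 ≤ Fintype.card F := fun h => by
    have := Fintype.one_lt_card (α := F)
    obtain ⟨k, hk⟩ := hodd'
    omega
  by_cases hirr : ActsIrreducibly (matrixSet H)
  swap
  · rw [irr_iff] at hirr
    push Not at hirr
    obtain ⟨W, hW, h0, h1⟩ := hirr
    rcases OrthPrime.reducible_cases hQ h2 (by omega) hodd hHI h0 h1
        (fun h hh v hv => hW _ (mem_matrixSet hh) v hv) with
      ⟨U, u0, u1, hts, hle⟩ | ⟨U, u0, u1, hev, hnd, hbad, hle⟩
    · exact .inl ⟨U, u0, hts, maximal_eq_inf hH hle (OrthEven.not_le_stab hQ (by omega) u0 u1)⟩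
    · exact .inr (.inl ⟨U, u0, hev, hnd, hbad, maximal_eq_inf hH hle (OrthEven.not_le_stab hQ (by omega) u0 u1)⟩)
  have hnostab : ∀ W : Submodule F (Fin n → F), W ≠ ⊥ → W ≠ ⊤ → ¬ H ≤ subspaceStabilizer W := by
    intro W h0 h1 hle
    exact (irr_iff.mp hirr W (by rintro _ ⟨g, hg, rfl⟩ v hv; exact (hle hg v).mp hv)).elim h0 h1
  have lines : ∀ D : Fin n → Submodule F (Fin n → F), IsOrthogonalMDecomposition Q 1 D →
      H ≤ decompositionStabilizer D →
      ∃ D : Fin 9 → Submodule F (Fin n → F),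
        IsOrthogonalMDecomposition Q 1 D ∧ H = decompositionStabilizer D ⊓ omegaGL Q := by
    intro D hD hle
    obtain ⟨N, hN, hN0, hroot⟩ := OrthEven.exists_root_family hQ (n := n) (by omega)
    have heq := maximal_eq_inf hH hle fun h => by
      obtain ⟨g, hg, e⟩ := hroot 1
      exact OrthPrime.not_mem_decomp h2 hD.decomp.decomp (e.trans (by rw [one_smul])) hN hN0 (h hg)
    subst hn
    exact ⟨D, hD, heq⟩
  rcases odd_outcome hQ h2 hodd (by omega) hd hHI with
    ⟨W, h0, hts, hle⟩ | ⟨W, h0, h1, -, hle⟩ | ⟨t, k, D, hk, hD, hle⟩ |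
    ⟨r, K, hr, hnr, hK, hself, hle⟩ | ⟨n₁, n₂, ε, P, f₁, f₂, h3, hlt, hs₁, hs₂, hT, hle⟩ |
    ⟨F₀, r, P, hr, hcard, hP, hle⟩ | ⟨k, t, ε, P, f₁, hk, ht, h33, hs₁, hT, hle⟩ | hres
  · exfalso
    refine hnostab W h0 (fun e => ?_) hle
    obtain ⟨-, x, hx⟩ := hQ.nondegenerate (Pi.single ⟨0, by omega⟩ 1) (by simp)
    refine hx ?_
    have hz : ∀ v, Q v = 0 := fun v => hts v (e ▸ Submodule.mem_top)
    simp [QuadraticMap.polar, hz]
  · exact absurd hle (hnostab W h0 h1)
  · have htk := decomp_card hD.decomp.decomp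
    have htle : t ≤ 9 := by
      have := Nat.le_mul_of_pos_right t hD.decomp.decomp.pos
      omega
    have := hD.decomp.decomp.two_le
    interval_cases t <;> try omega
    · obtain rfl : k = 3 := by omega
      by_cases h3 : Fintype.card F = 3
      · obtain ⟨D', hD', hle'⟩ := three_blocks_lines hn hQ h2 h3 hHI hD hle
        exact .inr (.inr (.inl ⟨h3 ▸ Nat.prime_three, lines D' hD' hle'⟩))
      · exact .inr (.inr (.inr (.inl ⟨h5 h3, D, hD,
          maximal_eq_inf hH hle (OrthEven.not_le_decomp hQ hn7 hD.decomp.decomp (by norm_num) (by omega))⟩)))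
    · obtain rfl : k = 1 := by omega
      rcases hk with hk | ⟨-, hp⟩
      · omega
      subst hn
      exact .inr (.inr (.inl ⟨hp, lines D hD hle⟩))
  · obtain rfl : r = 3 := by
      have h9 : r ∣ 3 ^ 2 := by
        have := field_dvd (by omega) hK
        rwa [hn] at this
      exact ((Nat.prime_dvd_prime_iff_eq hr Nat.prime_three).mp (hr.dvd_of_dvd_pow h9))
    exact .inr (.inr (.inr (.inr (.inl ⟨K, hK, hself,
      maximal_eq_inf hH hle (OrthEven.not_le_normalizer hQ hn7 hK (by norm_num))⟩))))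
  · exfalso
    have hprod : n₁ * n₂ = n := by simpa [Fintype.card_prod] using (Fintype.card_congr ε).symm
    have := Nat.mul_le_mul h3 (show 4 ≤ n₂ by omega)
    omega
  · refine .inr (.inr (.inr (.inr (.inr (.inl ⟨F₀, r, P, hr, hcard, hP,
      maximal_eq_inf hH hle (OrthEven.not_le_subfield hQ hn7 (fun e => ?_) P)⟩)))))
    subst e
    rw [← Nat.card_eq_fintype_card, Nat.card_congr (Subfield.topEquiv (K := F)).toEquiv] at hcard
    have h1 : Nat.card F ^ 1 < Nat.card F ^ r := Nat.pow_lt_pow_right Finite.one_lt_card hr.one_lt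
    rw [pow_one, ← hcard] at h1
    exact lt_irrefl _ h1
  · have hpow : k ^ t = n := by simpa using (Fintype.card_congr ε).symm
    have hkt : k = 3 ∧ t = 2 := by
      have h1 : k ^ 2 ≤ k ^ t := Nat.pow_le_pow_right (by omega) ht
      rw [pow_two] at h1
      have hk3 : k = 3 := by nlinarith
      subst hk3
      exact ⟨rfl, Nat.pow_right_injective (by norm_num) (hpow.trans (hn.trans (by norm_num : 9 = 3 ^ 2)))⟩
    obtain ⟨rfl, rfl⟩ := hkt
    refine .inr (.inr (.inr (.inr (.inr (.inr (.inl ⟨h5 fun h => h33 ⟨h, rfl⟩, ε, P, f₁, hs₁, hT,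
      maximal_eq_inf hH hle fun h => ?_⟩))))))
    exact OrthEven.not_le_tensor hQ hn7 _ P (by norm_num) le_rfl
      (((omega_perfect hQ hn7).trans (Subgroup.commutator_mono h h)).trans (wreath_commutator_le ε P))
  · exact .inr (.inr (.inr (.inr (.inr (.inr (.inr hres))))))

end CfsgLib.Classical.AschForm
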