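import Cfsg.Agent.Lib.Classical.AschForm.OddNine

/-!
# Maximal subgroups of `Ω₉(q)` for the standard form
-/

set_option autoImplicit false
set_option linter.unusedSectionVars false

namespace CfsgLib.Classical.AschForm

open Matrix Cfsg Cfsg.Geo CfsgLib.Classical.AschPrime CfsgLib.Classical.OrthPrime
open scoped MatrixGroups

variable {F : Type*} [Field F]

/-- `Ω` in new coordinates. -/
theorem omega_map {n : ℕ} {ι : Type} [Fintype ι] [DecidableEq ι] (e : ι ≃ Fin n) (Qf : (ι → F) → F) :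
    (omegaGL Qf).map (glReindex e).toMonoidHom = omegaGL (qt e Qf) := by
  have hiso : (Cfsg.isometryGroup F Qf).map (glReindex e).toMonoidHom = Cfsg.isometryGroup F (qt e Qf) := by
    ext g
    obtain ⟨x, rfl⟩ := (glReindex e).surjective g
    constructor
    · rintro ⟨y, hy, hye⟩ u v
      obtain rfl := (glReindex e).injective hye
      show Qf ((coord e).symm ((glReindex e y : Mat n F) *ᵥ u)) = Qf ((coord e).symm u)
      rw [← mulVec_coord_symm]
      exact hy ((coord e).symm u) ((coord e).symm u)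
    · refine fun h => ⟨x, fun u _ => ?_, rfl⟩
      have h' : Qf ((coord e).symm ((glReindex e x : Mat n F) *ᵥ coord e u)) =
          Qf ((coord e).symm (coord e u)) := h (coord e u) (coord e u)
      rw [← mulVec_coord_symm, LinearEquiv.symm_apply_apply] at h'
      exact h'
  have hcomm : ∀ {m : Type} [Fintype m] [DecidableEq m] (Q : (m → F) → F),
      omegaGL Q = ⁅Cfsg.isometryGroup F Q, Cfsg.isometryGroup F Q⁆ := fun Q => by
    rw [omegaGL, Omega, commutator_def, Subgroup.map_commutator, ← MonoidHom.range_eq_map, Subgroup.range_subtype]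
  rw [hcomm, hcomm, Subgroup.map_commutator, hiso]

/-- The maximal subgroups of `Ω₉(q)`. -/
theorem omega_nine_std [Fintype F] (hodd : Odd (Fintype.card F))
    {H : Subgroup (GL (Unit ⊕ (Fin 4 ⊕ Fin 4)) F)} (hH : IsMaximalIn (omegaGL (Cfsg.quadFormOdd 4 F)) H) :
    (∃ W : Submodule F (Unit ⊕ (Fin 4 ⊕ Fin 4) → F), W ≠ ⊥ ∧ IsTotallySingularQuad (Cfsg.quadFormOdd 4 F) W ∧
      H = subspaceStabilizer W ⊓ omegaGL (Cfsg.quadFormOdd 4 F)) ∨
    (∃ W : Submodule F (Unit ⊕ (Fin 4 ⊕ Fin 4) → F), W ≠ ⊥ ∧ Even (Module.finrank F W) ∧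
      IsNondegenerateOn (QuadraticMap.polar (Cfsg.quadFormOdd 4 F)) W ∧
      ¬ (Fintype.card F = 3 ∧ Module.finrank F W = 2 ∧ IsPlusTypeOn (Cfsg.quadFormOdd 4 F) W) ∧
      H = subspaceStabilizer W ⊓ omegaGL (Cfsg.quadFormOdd 4 F)) ∨
    ((Fintype.card F).Prime ∧ ∃ D : Fin 9 → Submodule F (Unit ⊕ (Fin 4 ⊕ Fin 4) → F),
      IsOrthogonalMDecomposition (Cfsg.quadFormOdd 4 F) 1 D ∧
      H = decompositionStabilizer D ⊓ omegaGL (Cfsg.quadFormOdd 4 F)) ∨
    (5 ≤ Fintype.card F ∧ ∃ D : Fin 3 → Submodule F (Unit ⊕ (Fin 4 ⊕ Fin 4) → F),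
      IsOrthogonalMDecomposition (Cfsg.quadFormOdd 4 F) 3 D ∧
      H = decompositionStabilizer D ⊓ omegaGL (Cfsg.quadFormOdd 4 F)) ∨
    (∃ K : Subalgebra F (Matrix (Unit ⊕ (Fin 4 ⊕ Fin 4)) (Unit ⊕ (Fin 4 ⊕ Fin 4)) F),
      IsFieldSubalgebra 3 K ∧ IsSelfAdjointFor (QuadraticMap.polar (Cfsg.quadFormOdd 4 F)) K ∧
      H = subalgebraNormalizer K ⊓ omegaGL (Cfsg.quadFormOdd 4 F)) ∨
    (∃ (F₀ : Subfield F) (r : ℕ) (P : GL (Unit ⊕ (Fin 4 ⊕ Fin 4)) F), r.Prime ∧
      Fintype.card F = Nat.card F₀ ^ r ∧ IsQuadFormRationalStructure (Cfsg.quadFormOdd 4 F) F₀ P ∧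
      H = subfieldSubgroup F₀ P ⊓ omegaGL (Cfsg.quadFormOdd 4 F)) ∨
    (5 ≤ Fintype.card F ∧ ∃ (e : (Unit ⊕ (Fin 4 ⊕ Fin 4)) ≃ (Fin 2 → Fin 3))
        (P : GL (Unit ⊕ (Fin 4 ⊕ Fin 4)) F) (f₁ : (Fin 3 → F) → (Fin 3 → F) → F), IsSymmetricForm f₁ ∧
      IsTensorPowerFormStructure id (QuadraticMap.polar (Cfsg.quadFormOdd 4 F)) f₁ e P ∧
      H = tensorWreathSubgroup 3 2 e P ⊓ omegaGL (Cfsg.quadFormOdd 4 F)) ∨
    InOrthogonalResidualClass H := by
  classical
  have h2 : (2 : F) ≠ 0 := Ring.two_ne_zero fun h => by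
    obtain ⟨k, hk⟩ := hodd
    have := FiniteField.even_card_of_char_two h
    omega
  let e : Unit ⊕ (Fin 4 ⊕ Fin 4) ≃ Fin 9 := Fintype.equivFinOfCardEq (by simp)
  set Qf := Cfsg.quadFormOdd 4 F
  have hQ0 := odd_isNondegenerate (F := F) 4 h2
  have hQ := qt_nondeg e hQ0
  set φ := (glReindex (F := F) e).toMonoidHom with hφ
  have hinj : Function.Injective φ := (glReindex e).injective
  have hd : ∀ F₁ : Subfield F, ∃ d0 ∈ F₁, ∃ s : F, (pgram (qt e Qf)).det = d0 * s ^ 2 := by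
    intro F₁
    refine ⟨_, ?_, 1, by rw [one_pow, mul_one]⟩
    have hent : ∀ i j, pgram (qt e Qf) i j ∈ F₁ := fun i j => by
      have h : ∀ k : Fin 9, (coord e).symm (Pi.single k (1 : F)) = Pi.single (e.symm k) 1 := fun k => by
        ext a
        simp [coord, LinearEquiv.funCongrLeft_symm, LinearMap.funLeft, Pi.single_apply,
          ← e.eq_symm_apply]
      show QuadraticMap.polar (qt e Qf) _ _ ∈ F₁
      rw [polar_qt, h, h]
      exact odd_gram_mem 4 F₁ _ _
    rw [show pgram (qt e Qf) =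
      (Matrix.of fun i j => (⟨pgram (qt e Qf) i j, hent i j⟩ : F₁)).map F₁.subtype from rfl,
      ← RingHom.mapMatrix_apply, ← RingHom.map_det]
    exact SetLike.coe_mem _
  have hmax : IsMaximalIn (omegaGL (qt e Qf)) (H.map φ) := by
    rw [← omega_map e]
    refine ⟨Subgroup.map_lt_map_iff_of_injective hinj |>.2 hH.1, fun M hM hMG => ?_⟩
    have e1 : (M.comap φ).map φ = M :=
      Subgroup.map_comap_eq_self_of_surjective (glReindex e).surjective _
    rcases hH.2 (M.comap φ) (Subgroup.map_le_iff_le_comap.mp hM) (fun x hx => by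
      obtain ⟨y, hy, hxy⟩ := hMG hx
      exact hinj hxy ▸ hy) with h | h
    · exact .inl (by rw [← e1, h])
    · exact .inr (by rw [← e1, h])
  have hback : ∀ (X : Subgroup (GL (Fin 9) F)) (Y : Subgroup (GL (Unit ⊕ (Fin 4 ⊕ Fin 4)) F)),
      (∀ g, glReindex e g ∈ X ↔ g ∈ Y) → H.map φ = X ⊓ omegaGL (qt e Qf) → H = Y ⊓ omegaGL Qf := by
    intro X Y hXY h
    rw [← omega_map e] at h
    ext g
    constructor
    · intro hg
      exact ⟨(hXY g).mp (h.le ⟨g, hg, rfl⟩).1, hH.1.le hg⟩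
    · rintro ⟨hg, hg'⟩
      obtain ⟨y, hy, hye⟩ := h.ge ⟨(hXY g).mpr hg, ⟨g, hg', rfl⟩⟩
      exact hinj hye ▸ hy
  let pull : Submodule F (Fin 9 → F) → Submodule F (Unit ⊕ (Fin 4 ⊕ Fin 4) → F) := fun U =>
    U.map ((coord (F := F) e).symm : (Fin 9 → F) →ₗ[F] (Unit ⊕ (Fin 4 ⊕ Fin 4) → F))
  have hpol : ∀ U : Submodule F (Fin 9 → F), IsNondegenerateOn (QuadraticMap.polar (qt e Qf)) U →
      IsNondegenerateOn (QuadraticMap.polar Qf) (pull U) := by
    rintro U hU _ ⟨u, hu, rfl⟩ h0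
    obtain ⟨⟨x, hx, hxu⟩, y, hy, hyu⟩ := hU u hu fun e0 => h0 (by rw [e0, map_zero])
    rw [polar_qt] at hxu hyu
    exact ⟨⟨_, ⟨x, hx, rfl⟩, hxu⟩, _, ⟨y, hy, rfl⟩, hyu⟩
  have hdec : ∀ {t k : ℕ} (D : Fin t → Submodule F (Fin 9 → F)), IsOrthogonalMDecomposition (qt e Qf) k D →
      IsOrthogonalMDecomposition Qf k fun i => pull (D i) := by
    intro t k D hD
    refine ⟨⟨?_, fun i => hpol _ (hD.decomp.nondegenerate i), ?_⟩, fun i j => ?_⟩
    · refine ⟨hD.decomp.decomp.two_le, hD.decomp.decomp.pos, fun i => ?_, ?_, ?_⟩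
      · rw [LinearEquiv.finrank_map_eq, hD.decomp.decomp.finrank_eq]
      · exact hD.decomp.decomp.indep.map_orderIso (f := Submodule.orderIsoMapComap (coord e).symm)
      · rw [← Submodule.map_iSup, hD.decomp.decomp.iSup_eq_top, Submodule.map_top]
        exact LinearMap.range_eq_top.mpr (coord e).symm.surjective
    · rintro i j hij _ ⟨u, hu, rfl⟩ _ ⟨v, hv, rfl⟩
      have := hD.decomp.orthogonal i j hij u hu v hv
      rwa [polar_qt] at this
    · obtain ⟨E, hE⟩ := hD.isometric i j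
      refine ⟨(((coord e).symm.submoduleMap (D i)).symm.trans E).trans
        ((coord e).symm.submoduleMap (D j)), ?_⟩
      intro w
      obtain ⟨w', rfl⟩ := ((coord e).symm.submoduleMap (D i)).surjective w
      simp only [LinearEquiv.trans_apply, LinearEquiv.symm_apply_apply]
      exact hE w'
  rcases omega_nine_cases hodd rfl hQ h2 hd hmax with
    ⟨U, h0, hts, h⟩ | ⟨U, h0, hev, hnd, hbad, h⟩ | ⟨hp, D, hD, h⟩ | ⟨h5, D, hD, h⟩ | ⟨K, hK, hself, h⟩ |
    ⟨F₀, r, P, hr, hcard, hP, h⟩ | ⟨h5, ε, P, f₁, hs₁, hT, h⟩ | hres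
  · refine .inl ⟨pull U, by simpa [pull] using h0, ?_, hback _ _ (fun g => mem_stab_iff e g U) h⟩
    rintro _ ⟨u, hu, rfl⟩
    exact hts u hu
  · refine .inr (.inl ⟨pull U, by simpa [pull] using h0, by rwa [LinearEquiv.finrank_map_eq], hpol U hnd, ?_,
      hback _ _ (fun g => mem_stab_iff e g U) h⟩)
    rintro ⟨h3, hd2, T, hT, hTs, hTd⟩
    rw [LinearEquiv.finrank_map_eq] at hd2
    refine hbad ⟨h3, hd2, T.map (coord (F := F) e : (Unit ⊕ (Fin 4 ⊕ Fin 4) → F) →ₗ[F] (Fin 9 → F)), ?_, ?_, ?_⟩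
    · rintro _ ⟨w, hw, rfl⟩
      obtain ⟨u, hu, rfl⟩ := hT hw
      simpa using hu
    · rintro _ ⟨w, hw, rfl⟩
      show Qf ((coord e).symm (coord e w)) = 0
      rw [LinearEquiv.symm_apply_apply]
      exact hTs w hw
    · rw [LinearEquiv.finrank_map_eq, hTd, LinearEquiv.finrank_map_eq]
  · exact .inr (.inr (.inl ⟨hp, _, hdec D hD, hback _ _ (fun g => mem_decomp_iff e g D) h⟩))
  · exact .inr (.inr (.inr (.inl ⟨h5, _, hdec D hD, hback _ _ (fun g => mem_decomp_iff e g D) h⟩)))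
  · let ψ := Matrix.reindexAlgEquiv F F e
    let K' : Subalgebra F (Matrix (Unit ⊕ (Fin 4 ⊕ Fin 4)) (Unit ⊕ (Fin 4 ⊕ Fin 4)) F) := K.comap ψ.toAlgHom
    have hK' : ∀ x, x ∈ K' ↔ ψ x ∈ K := fun x => Iff.rfl
    refine .inr (.inr (.inr (.inr (.inl ⟨K', ?_, ?_, hback _ _ ?_ h⟩))))
    · refine ⟨fun x hx y hy => ψ.injective ?_, fun x hx hx0 => ?_, ?_⟩
      · rw [map_mul, map_mul]; exact hK.comm _ hx _ hy
      · obtain ⟨y, hy, hxy⟩ := hK.inv _ hx fun h => hx0 (ψ.injective (h.trans (map_zero ψ).symm))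
        refine ⟨ψ.symm y, ?_, ψ.injective ?_⟩
        · rw [hK', ψ.apply_symm_apply]; exact hy
        · rw [map_mul, ψ.apply_symm_apply, map_one]; exact hxy
      · rw [← hK.finrank_eq]
        exact LinearEquiv.finrank_eq
          (LinearEquiv.ofBijective
            (LinearMap.codRestrict (Subalgebra.toSubmodule K)
              (ψ.toLinearMap.comp (Subalgebra.toSubmodule K').subtype) fun x => x.2)
            ⟨fun x y h => Subtype.ext (ψ.injective (congrArg Subtype.val h)),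
              fun y => ⟨⟨ψ.symm y, by
                show ψ (ψ.symm y) ∈ K
                rw [ψ.apply_symm_apply]; exact y.2⟩, Subtype.ext (ψ.apply_symm_apply _)⟩⟩)
    · intro x hx u v
      have hc : ∀ w, x *ᵥ w = (coord e).symm (ψ x *ᵥ coord e w) := fun w => by
        refine (coord e).injective ?_
        rw [LinearEquiv.apply_symm_apply]
        funext i
        simp only [coord, LinearEquiv.funCongrLeft_apply, LinearMap.funLeft, Matrix.mulVec,
          dotProduct, LinearMap.coe_mk, AddHom.coe_mk, Function.comp_apply]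
        exact Fintype.sum_equiv e _ _ fun j => by simp [ψ]
      have h' := hself _ hx (coord e u) (coord e v)
      rw [polar_qt, polar_qt, LinearEquiv.symm_apply_apply, LinearEquiv.symm_apply_apply] at h'
      rw [hc, hc]
      exact h'
    · intro g
      have hc : ∀ k, ψ ((g : Matrix _ _ F) * k *
          ((g⁻¹ : GL (Unit ⊕ (Fin 4 ⊕ Fin 4)) F) : Matrix _ _ F)) =
          (glReindex e g : Mat 9 F) * ψ k * (((glReindex e g)⁻¹ : GL (Fin 9) F) : Mat 9 F) := by
        intro k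
        rw [map_mul, map_mul, ← map_inv]
        rfl
      constructor
      · intro h k
        rw [hK', hK', hc]
        exact h (ψ k)
      · intro h k
        obtain ⟨k, rfl⟩ := ψ.surjective k
        rw [← hc, ← hK', ← hK']
        exact h k
  · refine .inr (.inr (.inr (.inr (.inr (.inl ⟨F₀, r, (glReindex e).symm P, hr, hcard, fun u hu => ?_,
      hback _ _ (fun g => mem_subfield_iff e g F₀ P) h⟩)))))
    have h' := hP (coord e u) (fun i => hu _)
    rwa [qt, ← coord_symm_mulVec, LinearEquiv.symm_apply_apply] at h'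
  · refine .inr (.inr (.inr (.inr (.inr (.inr (.inl ⟨h5, e.trans ε, (glReindex e).symm P, f₁, hs₁, ?_,
      hback _ _ (fun g => reindex_sandwich e ε _ P g) h⟩))))))
    obtain ⟨c, hc, hval⟩ := hT
    refine ⟨c, hc, fun x y => ?_⟩
    rw [← coord_symm_comp e ε, ← coord_symm_comp e ε, coord_symm_mulVec, coord_symm_mulVec,
      ← polar_qt]
    exact hval x y
  · exact .inr (.inr (.inr (.inr (.inr (.inr (.inr (residual_transport e hres)))))))

end CfsgLib.Classical.AschForm
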