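import Cfsg.Agent.Lib.Classical.AschForm.Common
import Cfsg.Agent.Lib.Classical.OrthPrime.Transport
import Cfsg.Agent.Lib.KnownC.GraphForms.Classify

/-!
# The classes for orthogonal groups in odd dimension
-/

set_option autoImplicit false
set_option linter.unusedSectionVars false

namespace CfsgLib.Classical.AschForm

open Matrix Cfsg Cfsg.Geo CfsgLib.Classical.AschPrime CfsgLib.Classical.AschGen
open scoped MatrixGroups Kronecker commutatorElement

variable {F : Type*} [Field F] [Fintype F] {n : ℕ}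

/-- The classes of subgroups of the isometry group of a quadratic form in odd dimension. -/
def OddOutcome (Q : (Fin n → F) → F) (H : Subgroup (GL (Fin n) F)) : Prop :=
  (∃ W : Submodule F (Fin n → F), W ≠ ⊥ ∧ IsTotallySingularQuad Q W ∧ H ≤ subspaceStabilizer W) ∨
  (∃ W : Submodule F (Fin n → F), W ≠ ⊥ ∧ W ≠ ⊤ ∧ IsNondegenerateOn (QuadraticMap.polar Q) W ∧
      H ≤ subspaceStabilizer W) ∨
  (∃ (t k : ℕ) (D : Fin t → Submodule F (Fin n → F)),
      (1 < k ∨ (k = 1 ∧ (Fintype.card F).Prime)) ∧ IsOrthogonalMDecomposition Q k D ∧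
      H ≤ decompositionStabilizer D) ∨
  (∃ (r : ℕ) (K : Subalgebra F (Mat n F)), r.Prime ∧ n ≠ r ∧ IsFieldSubalgebra r K ∧
      IsSelfAdjointFor (QuadraticMap.polar Q) K ∧ H ≤ subalgebraNormalizer K) ∨
  (∃ (n₁ n₂ : ℕ) (e : Fin n ≃ Fin n₁ × Fin n₂) (P : GL (Fin n) F)
      (f₁ : (Fin n₁ → F) → (Fin n₁ → F) → F) (f₂ : (Fin n₂ → F) → (Fin n₂ → F) → F),
      3 ≤ n₁ ∧ n₁ < n₂ ∧ IsSymmetricForm f₁ ∧ IsSymmetricForm f₂ ∧
      IsTensorFormStructure id (QuadraticMap.polar Q) f₁ f₂ e P ∧
      H ≤ tensorProductSubgroup n₁ n₂ e P) ∨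
  (∃ (F₀ : Subfield F) (r : ℕ) (P : GL (Fin n) F), r.Prime ∧ Fintype.card F = Nat.card F₀ ^ r ∧
      IsQuadFormRationalStructure Q F₀ P ∧ H ≤ subfieldSubgroup F₀ P) ∨
  (∃ (k t : ℕ) (e : Fin n ≃ (Fin t → Fin k)) (P : GL (Fin n) F)
      (f₁ : (Fin k → F) → (Fin k → F) → F), 3 ≤ k ∧ 2 ≤ t ∧ ¬ (Fintype.card F = 3 ∧ k = 3) ∧
      IsSymmetricForm f₁ ∧ IsTensorPowerFormStructure id (QuadraticMap.polar Q) f₁ e P ∧
      H ≤ tensorWreathSubgroup k t e P) ∨
  InOrthogonalResidualClass H

section Decomp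

variable {Q : (Fin n → F) → F}

theorem polar_herm (hQ : IsNondegenerateQuadraticForm Q) :
    Herm (RingHom.id F) 1 (QuadraticMap.polar Q) :=
  ⟨isSesq_of_bilinear hQ.polar_bilinear, hQ.nondegenerate,
    fun u v => by rw [one_mul]; exact QuadraticMap.polar_comm Q v u, fun _ => rfl⟩

theorem fixes_polar {H : Subgroup (GL (Fin n) F)} (hH : H ≤ Cfsg.isometryGroup F Q) :
    FixesForm (matrixSet H) (QuadraticMap.polar Q) := by
  rintro _ ⟨h, hh, rfl⟩ u v
  exact OrthPrime.polar_isometry (hH hh) u v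

theorem totallySingular_quad (hQ : IsNondegenerateQuadraticForm Q) (h2 : (2 : F) ≠ 0)
    {W : Submodule F (Fin n → F)} (hW : IsTotallySingularFor (QuadraticMap.polar Q) W) :
    IsTotallySingularQuad Q W := fun w hw => by
  have h := hW w hw w hw
  rw [OrthPrime.polar_eq hQ, ← OrthPrime.two_mul_quad hQ] at h
  exact (mul_eq_zero.mp h).resolve_left h2

/-- A transitive orthogonal decomposition: it is in class two, or the group is in a subfield
group. -/
theorem odd_decomp (hQ : IsNondegenerateQuadraticForm Q) (h2 : (2 : F) ≠ 0) (hodd : Odd n)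
    (hd : ∀ F₁ : Subfield F, ∃ d0 ∈ F₁, ∃ s : F, (OrthPrime.pgram Q).det = d0 * s ^ 2)
    {H : Subgroup (GL (Fin n) F)} (hH : H ≤ Cfsg.isometryGroup F Q) {t k : ℕ}
    {D : Fin t → Submodule F (Fin n → F)}
    (hD : IsNondegenerateMDecomposition (QuadraticMap.polar Q) k D)
    (hle : H ≤ decompositionStabilizer D)
    (htr : ∀ i j, ∃ h ∈ H, (D i).map (Matrix.toLin' (h : Mat n F)) = D j) : OddOutcome Q H := by
  have hDo : IsOrthogonalMDecomposition Q k D := ⟨hD, isometric_of_transitive hH htr⟩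
  by_cases hk : 1 < k
  · exact .inr (.inr (.inl ⟨t, k, D, .inl hk, hDo, hle⟩))
  have hk1 : k = 1 := by have := hD.decomp.pos; omega
  by_cases hp : (Fintype.card F).Prime
  · exact .inr (.inr (.inl ⟨t, k, D, .inr ⟨hk1, hp⟩, hDo, hle⟩))
  subst hk1
  obtain rfl : t = n := by simpa using decomp_card hD.decomp
  obtain ⟨F₁, l, -, hl, hcard⟩ := OrthPrime.exists_prime_index_bot hp
  obtain ⟨P, hP, hHP⟩ := OrthPrime.monomial_subfield hQ h2 hodd hd hH hDo hle htr (F₁ := F₁)
  exact .inr (.inr (.inr (.inr (.inr (.inl ⟨F₁, l, P, hl, hcard, hP, hHP⟩)))))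

end Decomp

/-- The elements of the wreath product are monomial in the pure tensors. -/
theorem wreath_normal_form {m t : ℕ} {w : GL (Fin t → Fin m) F}
    (hw : w ∈ tensorWreathStandard m t F) :
    ∃ (a : Fin t → GL (Fin m) F) (π : Equiv.Perm (Fin t)), w = pureUnit a * permUnit π := by
  classical
  have hmul : ∀ (a b : Fin t → GL (Fin m) F), pureUnit a * pureUnit b = pureUnit (a * b) := by
    intro a b
    refine Units.ext ?_
    show pureT _ * pureT _ = pureT _
    rw [← pureT_mul]
    congr 1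
  have hperm : ∀ (π ρ : Equiv.Perm (Fin t)),
      (permUnit π * permUnit ρ : GL (Fin t → Fin m) F) = permUnit (π * ρ) := by
    intro π ρ
    refine Units.ext ?_
    ext x y
    simp only [Units.val_mul, Matrix.mul_apply, permUnit, Matrix.of_apply, ite_mul, one_mul,
      zero_mul, Finset.sum_ite_eq', Finset.mem_univ, if_true]
    rfl
  have hswap : ∀ (π : Equiv.Perm (Fin t)) (a : Fin t → GL (Fin m) F),
      permUnit π * pureUnit a = pureUnit (fun i => a (π.symm i)) * permUnit π := fun π a =>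
    Units.ext (perm_pure π fun i => (a i : Mat m F))
  have h1 : (permUnit 1 : GL (Fin t → Fin m) F) = 1 := by
    refine Units.ext ?_
    ext x y
    simp [permUnit, Matrix.one_apply, eq_comm]
  have hp1 : (pureUnit 1 : GL (Fin t → Fin m) F) = 1 := Units.ext (by
    show pureT _ = 1
    exact pureT_one)
  induction hw using Subgroup.closure_induction with
  | mem g hg =>
    rcases hg with ⟨gs, hgs⟩ | ⟨π, hπ⟩
    · exact ⟨gs, 1, by rw [h1, mul_one]; exact Units.ext (Matrix.ext fun x y => hgs x y)⟩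
    · exact ⟨1, π, by rw [hp1, one_mul]; exact Units.ext (Matrix.ext fun x y => hπ x y)⟩
  | one => exact ⟨1, 1, by rw [h1, hp1, one_mul]⟩
  | mul x y _ _ hx hy =>
    obtain ⟨a, π, rfl⟩ := hx
    obtain ⟨b, ρ, rfl⟩ := hy
    exact ⟨a * fun i => b (π.symm i), π * ρ, by
      rw [← hmul, ← hperm, mul_assoc, ← mul_assoc (permUnit π), hswap, mul_assoc, mul_assoc]⟩
  | inv x _ hx =>
    obtain ⟨a, π, rfl⟩ := hx
    refine ⟨fun i => (a (π i))⁻¹, π⁻¹, ?_⟩
    have ea : (pureUnit a : GL (Fin t → Fin m) F)⁻¹ = pureUnit a⁻¹ :=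
      inv_eq_of_mul_eq_one_right (by rw [hmul, mul_inv_cancel, hp1])
    have ep : (permUnit π : GL (Fin t → Fin m) F)⁻¹ = permUnit π⁻¹ :=
      inv_eq_of_mul_eq_one_right (by rw [hperm, mul_inv_cancel, h1])
    rw [_root_.mul_inv_rev, ea, ep, hswap]
    rfl

/-- Over the field of three elements an orthogonal three by three matrix is monomial. -/
theorem orth_three_monomial {A : Mat 3 F} (hq : ∀ x : F, x = 0 ∨ x = 1 ∨ x = -1)
    (h3 : (3 : F) = 0) (h2 : (2 : F) ≠ 0) (hA : Aᵀ * A = 1) (j : Fin 3) :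
    ∃ (i : Fin 3) (c : F), ∀ l, A l j = if l = i then c else 0 := by
  have h := congrFun (congrFun hA j) j
  simp only [Matrix.mul_apply, Matrix.transpose_apply, Fin.sum_univ_three, Matrix.one_apply,
    if_true] at h
  have h21 : (1 : F) + 1 ≠ 1 := fun e => one_ne_zero (by linear_combination e)
  have sq : ∀ x : F, x ≠ 0 → x * x = 1 := fun x hx => by
    rcases hq x with e | e | e
    · exact absurd e hx
    · rw [e, one_mul]
    · rw [e]; ring
  by_cases h0 : A 0 j = 0 <;> by_cases h1 : A 1 j = 0 <;> by_cases h2' : A 2 j = 0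
  · simp [h0, h1, h2'] at h
  · exact ⟨2, A 2 j, fun l => by fin_cases l <;> simp [h0, h1]⟩
  · exact ⟨1, A 1 j, fun l => by fin_cases l <;> simp [h0, h2']⟩
  · rw [h0, sq _ h1, sq _ h2'] at h; simp at h
  · exact ⟨0, A 0 j, fun l => by fin_cases l <;> simp [h1, h2']⟩
  · rw [h1, sq _ h0, sq _ h2'] at h; simp at h
  · rw [h2', sq _ h0, sq _ h1] at h; simp at h
  · rw [sq _ h0, sq _ h1, sq _ h2'] at h
    exact absurd (show (1 : F) = 0 by linear_combination h3 - h) one_ne_zero

/-- The even permutations of three points commute. -/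
theorem even_perm_three_comm {a b : Equiv.Perm (Fin 3)} (ha : Equiv.Perm.sign a = 1)
    (hb : Equiv.Perm.sign b = 1) : a * b = b * a := by
  haveI : Fact (Nat.Prime 3) := ⟨Nat.prime_three⟩
  have hc : Nat.card (alternatingGroup (Fin 3)) = 3 := by
    rw [nat_card_alternatingGroup]; simp [Nat.factorial]
  haveI := isCyclic_of_prime_card hc
  letI := IsCyclic.commGroup (α := alternatingGroup (Fin 3))
  exact congrArg Subtype.val (mul_comm (⟨a, ha⟩ : alternatingGroup (Fin 3)) ⟨b, hb⟩)

/-- There is no perfect group of three by three orthogonal matrices over three elements. -/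
theorem perfect_orth_three {M : Subgroup (GL (Fin 3) F)} (hq : ∀ x : F, x = 0 ∨ x = 1 ∨ x = -1)
    (h3 : (3 : F) = 0) (h2 : (2 : F) ≠ 0) (hM : ∀ g ∈ M, (g : Mat 3 F)ᵀ * (g : Mat 3 F) = 1)
    (hperf : ⁅M, M⁆ = M) : M = ⊥ := by
  classical
  have hex : ∀ g : M, ∀ j, ∃ i, ∀ l, ((g.1 : Mat 3 F) l j ≠ 0 ↔ l = i) := by
    intro g j
    obtain ⟨i, c, hc⟩ := orth_three_monomial hq h3 h2 (hM g g.2) j
    have hc0 : c ≠ 0 := fun h => by
      have := congrFun (congrFun (Units.inv_mul g.1) j) j
      simp [Matrix.mul_apply, hc, h] at this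
    exact ⟨i, fun l => by rw [hc]; split <;> simp_all⟩
  choose π hπ using hex
  have hmul : ∀ g h : M, ∀ j, π (g * h) j = π g (π h j) := by
    intro g h j
    refine ((hπ (g * h) j _).mp ?_).symm
    show ((g.1 : Mat 3 F) * (h.1 : Mat 3 F)) (π g (π h j)) j ≠ 0
    rw [Matrix.mul_apply, Finset.sum_eq_single (π h j)]
    · exact mul_ne_zero ((hπ g _ _).mpr rfl) ((hπ h _ _).mpr rfl)
    · intro b _ hb
      have := (hπ h j b).not.mpr hb
      push Not at this
      simp [this]
    · simp
  have hone : ∀ j, π 1 j = j := fun j => ((hπ 1 j j).mp (by simp)).symm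
  let ρ : M →* Equiv.Perm (Fin 3) :=
    { toFun := fun g =>
        { toFun := π g
          invFun := π g⁻¹
          left_inv := fun j => by rw [← hmul, inv_mul_cancel, hone]
          right_inv := fun j => by rw [← hmul, mul_inv_cancel, hone] }
      map_one' := Equiv.ext hone
      map_mul' := fun g h => Equiv.ext (hmul g h) }
  set T : Subgroup M := ⊤
  have hT : ⁅T, T⁆ = T := by
    refine Subgroup.map_injective (f := M.subtype) Subtype.val_injective ?_
    rw [Subgroup.map_commutator, ← MonoidHom.range_eq_map, Subgroup.range_subtype, hperf]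
  have hdiag : ∀ g : M, ρ g = 1 := by
    have h1 : ∀ x ∈ (⊤ : Subgroup M), ρ x = 1 := by
      have hcomm : ∀ x ∈ ⁅T, T⁆, ∀ y ∈ ⁅T, T⁆, ρ x * ρ y = ρ y * ρ x := fun x hx y hy =>
        have hk : ⁅T, T⁆ ≤ (Equiv.Perm.sign.comp ρ).ker := by
          rw [Subgroup.commutator_le]
          intro u _ v _
          rw [MonoidHom.mem_ker, map_commutatorElement, commutatorElement_eq_one_iff_mul_comm]
          exact mul_comm _ _
        even_perm_three_comm (hk hx) (hk hy)
      intro x hx
      have hx' : x ∈ ⁅⁅T, T⁆, ⁅T, T⁆⁆ := by rw [hT, hT]; exact hx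
      have hle : ⁅⁅T, T⁆, ⁅T, T⁆⁆ ≤ ρ.ker := by
        rw [Subgroup.commutator_le]
        intro a ha b hb
        rw [MonoidHom.mem_ker, map_commutatorElement, commutatorElement_eq_one_iff_mul_comm]
        exact hcomm a ha b hb
      exact hle hx'
    exact fun g => h1 g trivial
  rw [eq_bot_iff, ← hperf, Subgroup.commutator_le]
  intro a ha b hb
  rw [Subgroup.mem_bot, commutatorElement_eq_one_iff_mul_comm]
  have hd : ∀ g : M, (g.1 : Mat 3 F) = Matrix.diagonal fun j => (g.1 : Mat 3 F) j j := by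
    intro g
    ext l j
    by_cases hlj : l = j
    · subst hlj; simp
    · rw [Matrix.diagonal_apply_ne _ hlj]
      have hj : π g j = j := congrArg (fun σ : Equiv.Perm (Fin 3) => σ j) (hdiag g)
      by_contra hne
      exact hlj (((hπ g j l).mp hne).trans hj)
  refine Units.ext ?_
  rw [Units.val_mul, Units.val_mul, hd ⟨a, ha⟩, hd ⟨b, hb⟩, Matrix.diagonal_mul_diagonal,
    Matrix.diagonal_mul_diagonal]
  simp only [mul_comm]

/-- The tensor square of a three dimensional orthogonal space over three elements preserves an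
orthogonal frame. -/
theorem three_square {Q : (Fin n → F) → F} (hQ : IsNondegenerateQuadraticForm Q)
    (h2 : (2 : F) ≠ 0) (hodd : Odd n) (hn : 3 ≤ n)
    (hd : ∀ F₁ : Subfield F, ∃ d0 ∈ F₁, ∃ s : F, (OrthPrime.pgram Q).det = d0 * s ^ 2)
    {H : Subgroup (GL (Fin n) F)} (hH : H ≤ Cfsg.isometryGroup F Q)
    (hirr : ActsIrreducibly (matrixSet H)) (hq : Fintype.card F = 3)
    {e : Fin n ≃ (Fin 2 → Fin 3)} {P : GL (Fin n) F} {f₁ : (Fin 3 → F) → (Fin 3 → F) → F}
    (hf₁ : IsSymmetricForm f₁)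
    (hT : IsTensorPowerFormStructure id (QuadraticMap.polar Q) f₁ e P)
    (hle : H ≤ tensorWreathSubgroup 3 2 e P) : OddOutcome Q H := by
  classical
  have h3 : (3 : F) = 0 := by
    have := FiniteField.cast_card_eq_zero F
    rwa [hq, Nat.cast_ofNat] at this
  have hq' : ∀ x : F, x = 0 ∨ x = 1 ∨ x = -1 := by
    intro x
    have hx := FiniteField.pow_card x
    rw [hq] at hx
    have : x * ((x - 1) * (x + 1)) = 0 := by linear_combination hx
    rcases mul_eq_zero.mp this with h | h
    · exact .inl h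
    rcases mul_eq_zero.mp h with h | h
    · exact .inr (.inl (sub_eq_zero.mp h))
    · exact .inr (.inr (eq_neg_of_add_eq_zero_left h))
  obtain ⟨c, hc, hval⟩ := hT
  set G := gramMatrix f₁ with hGdef
  have hGT : Gᵀ = G := Matrix.ext fun a b => hf₁.symm _ _
  have hGu : G.det ≠ 0 := ((Matrix.isUnit_iff_isUnit_det _).mp
    ((isSesq_of_bilinear hf₁.bilinear).isUnit_gram hf₁.nondegenerate)).ne_zero
  obtain ⟨B, B', c₁, hBB, hB'B, hB⟩ := KnownC.GraphForms.similar_of_odd h2 hGT
    (Matrix.transpose_one (n := Fin 3) (α := F)) rfl hGu (by simp) (by decide)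
  let Bu : GL (Fin 3) F := ⟨B, B', hBB, hB'B⟩
  -- the frame
  let v : (Fin 2 → Fin 3) → Fin n → F := fun a =>
    (P : Mat n F) *ᵥ ((fun x => ∏ i, B (x i) (a i)) ∘ e)
  have hvv : ∀ a b, QuadraticMap.polar Q (v a) (v b) =
      if a = b then c * (c₁ : F) * c₁ else 0 := by
    intro a b
    simp only [v]
    rw [hval]
    simp only [id_eq, ← Finset.prod_mul_distrib]
    have : ∀ i : Fin 2, (Bᵀ * G * B) (a i) (b i) = (c₁ : F) * if a i = b i then 1 else 0 := fun i => by
      rw [hB, Matrix.smul_apply, Matrix.one_apply, smul_eq_mul]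
    have hexp : ∀ i : Fin 2, (Bᵀ * G * B) (a i) (b i) =
        ∑ x : Fin 3, ∑ y : Fin 3, B x (a i) * G x y * B y (b i) := fun i => by
      simp only [Matrix.mul_apply, Matrix.transpose_apply, Finset.sum_mul]
      rw [Finset.sum_comm]
    rw [show (∑ x : Fin 2 → Fin 3, ∑ y : Fin 2 → Fin 3, ∏ i : Fin 2,
        B (x i) (a i) * G (x i) (y i) * B (y i) (b i)) =
      ∏ i : Fin 2, ∑ x : Fin 3, ∑ y : Fin 3, B x (a i) * G x y * B y (b i) by
        simp only [Finset.prod_univ_sum, Fintype.piFinset_univ]]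
    simp only [← hexp, this, Fin.prod_univ_two]
    by_cases hab : a = b
    · subst hab; simp [mul_assoc]
    · rw [if_neg hab]
      have : a 0 ≠ b 0 ∨ a 1 ≠ b 1 := by
        by_contra hh
        push Not at hh
        exact hab (funext fun i => by fin_cases i <;> [exact hh.1; exact hh.2])
      rcases this with h | h <;> simp [h]
  let D : Fin n → Submodule F (Fin n → F) := fun i => F ∙ v (e i)
  have hcc : c * (c₁ : F) * c₁ ≠ 0 := mul_ne_zero (mul_ne_zero hc c₁.ne_zero) c₁.ne_zero
  have hs := hQ.polar_bilinear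
  have hli : LinearIndependent F fun i => v (e i) := by
    rw [Fintype.linearIndependent_iff]
    intro g hg i
    have h := congrArg (fun u => QuadraticMap.polar Q u (v (e i))) hg
    have hlin : ∀ (s : Finset (Fin n)), QuadraticMap.polar Q (∑ j ∈ s, g j • v (e j)) (v (e i)) =
        ∑ j ∈ s, g j * QuadraticMap.polar Q (v (e j)) (v (e i)) := fun s => by
      induction s using Finset.induction with
      | empty => simpa using hs.smul_left 0 0 (v (e i))
      | insert a s ha ih => rw [Finset.sum_insert ha, Finset.sum_insert ha, hs.add_left, hs.smul_left, ih]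
    rw [hlin, show QuadraticMap.polar Q 0 (v (e i)) = 0 by simpa using hs.smul_left 0 0 (v (e i))] at h
    simpa [hvv, hcc, e.injective.eq_iff] using h
  have hrank : ∀ i, Module.finrank F (D i) = 1 := fun i => finrank_span_singleton (hli.ne_zero i)
  have hDm : IsMDecomposition 1 D := by
    refine ⟨by omega, one_pos, hrank, hli.iSupIndep_span_singleton, ?_⟩
    rw [← Submodule.span_range_eq_iSup]
    exact hli.span_eq_top_of_card_eq_finrank' (by simp)
  have hsw : ∀ (π : Equiv.Perm (Fin 2)) (a : Fin 2 → Fin 3) (u : Fin 3 → Fin 3 → F),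
      (permUnit (m := 3) (F := F) π : Matrix (Fin 2 → Fin 3) (Fin 2 → Fin 3) F) *ᵥ
        (fun x => ∏ i, u (a i) (x i)) = fun x => ∏ i, u (a (π.symm i)) (x i) := by
    intro π a u
    funext x
    simp only [permUnit, Matrix.mulVec, dotProduct, Matrix.of_apply, ite_mul, one_mul, zero_mul,
      Finset.sum_ite_eq', Finset.mem_univ, if_true]
    rw [← Equiv.prod_comp π fun i => u (a (π.symm i)) (x i)]
    simp
  have hmem : ∀ h ∈ H, ∀ a, ∃ b, (h : Mat n F) *ᵥ v a ∈ F ∙ v b := by
    intro h hh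
    obtain ⟨_, ⟨w, hw, rfl⟩, rfl⟩ := hle hh
    obtain ⟨A, π, rfl⟩ := wreath_normal_form hw
    set g := MulAut.conj P (glReindex e.symm (pureUnit A * permUnit π)) with hg
    change g ∈ H at hh
    have hact0 : ∀ (W : GL (Fin 2 → Fin 3) F) (z : (Fin 2 → Fin 3) → F),
        ((MulAut.conj P (glReindex e.symm W) : GL (Fin n) F) : Mat n F) *ᵥ
          ((P : Mat n F) *ᵥ (z ∘ e)) =
        (P : Mat n F) *ᵥ (((W : Matrix (Fin 2 → Fin 3) (Fin 2 → Fin 3) F) *ᵥ z) ∘ e) := by
      intro W z
      simp only [MulAut.conj_apply, Units.val_mul, ← Matrix.mulVec_mulVec]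
      rw [Matrix.mulVec_mulVec _ ((P⁻¹ : GL (Fin n) F) : Mat n F), Units.inv_mul, Matrix.one_mulVec]
      congr 1
      funext i
      simp only [Matrix.mulVec, dotProduct, Function.comp_apply]
      rw [← e.symm.sum_comp]
      refine Finset.sum_congr rfl fun p _ => ?_
      simp [glReindex]
    have hact : ∀ z : (Fin 2 → Fin 3) → F, (g : Mat n F) *ᵥ ((P : Mat n F) *ᵥ (z ∘ e)) =
        (P : Mat n F) *ᵥ ((((pureUnit A * permUnit π : GL (Fin 2 → Fin 3) F) :
          Matrix (Fin 2 → Fin 3) (Fin 2 → Fin 3) F) *ᵥ z) ∘ e) := hact0 _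
    -- the two matrices in the new basis
    let C : Fin 2 → Mat 3 F := fun i => B' * (A i : Mat 3 F) * B
    have himg : ∀ a, (g : Mat n F) *ᵥ v a =
        (P : Mat n F) *ᵥ ((fun x => ∏ i, (B * C i) (x i) (a (π.symm i))) ∘ e) := by
      intro a
      simp only [v]
      rw [hact, Units.val_mul, ← Matrix.mulVec_mulVec, hsw π a fun p q => B q p]
      congr 2
      funext x
      show ∑ y : Fin 2 → Fin 3, (∏ i, (A i : Mat 3 F) (x i) (y i)) * ∏ i, B (y i) (a (π.symm i)) = _
      have : ∀ i, B * C i = (A i : Mat 3 F) * B := fun i => by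
        simp only [C, ← mul_assoc, hBB, one_mul]
      simp only [this]
      simp only [Matrix.mul_apply, Finset.prod_univ_sum, Fintype.piFinset_univ,
        Finset.prod_mul_distrib]
    have hexpand : ∀ (u u' : Fin 2 → Fin 3 → F),
        QuadraticMap.polar Q ((P : Mat n F) *ᵥ ((fun x => ∏ i, u i (x i)) ∘ e))
          ((P : Mat n F) *ᵥ ((fun x => ∏ i, u' i (x i)) ∘ e)) =
        c * ∏ i, ∑ p, ∑ q, u i p * G p q * u' i q := by
      intro u u'
      rw [hval]
      simp only [id_eq, ← Finset.prod_mul_distrib, Finset.prod_univ_sum, Fintype.piFinset_univ]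
    have hGC : ∀ i p q, (∑ x, ∑ y, (B * C i) x p * G x y * (B * C i) y q) =
        (c₁ : F) * ((C i)ᵀ * C i) p q := by
      intro i p q
      have e1 : (B * C i)ᵀ * G * (B * C i) = (c₁ : F) • ((C i)ᵀ * C i) := by
        rw [Matrix.transpose_mul, show (C i)ᵀ * Bᵀ * G * (B * C i) = (C i)ᵀ * (Bᵀ * G * B) * C i by
          simp only [mul_assoc], hB, Matrix.mul_smul, mul_one, Matrix.smul_mul]
      have := congrFun (congrFun e1 p) q
      simp only [Matrix.mul_apply, Matrix.transpose_apply, Finset.sum_mul, Matrix.smul_apply,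
        smul_eq_mul] at this ⊢
      rw [Finset.sum_comm]
      exact this
    have hrel : ∀ p q p' q', ((C 0)ᵀ * C 0) p q * ((C 1)ᵀ * C 1) p' q' =
        (if p = q then 1 else 0) * (if p' = q' then 1 else 0) := by
      intro p q p' q'
      set a : Fin 2 → Fin 3 := fun i => ![p, p'] (π i)
      set b : Fin 2 → Fin 3 := fun i => ![q, q'] (π i)
      have h1 := OrthPrime.polar_isometry (hH hh) (v a) (v b)
      rw [himg, himg, hexpand (fun i x => (B * C i) x (a (π.symm i)))
        (fun i x => (B * C i) x (b (π.symm i))), hvv] at h1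
      simp only [hGC, Fin.prod_univ_two, a, b, Equiv.apply_symm_apply, Matrix.cons_val_zero,
        Matrix.cons_val_one] at h1
      have hab : (if a = b then c * (c₁ : F) * c₁ else 0) =
          c * c₁ * c₁ * ((if p = q then 1 else 0) * if p' = q' then 1 else 0) := by
        by_cases hpq : p = q ∧ p' = q'
        · obtain ⟨rfl, rfl⟩ := hpq
          simp [a, b]
        · rw [if_neg fun hab => hpq ⟨by simpa [a, b] using congrFun hab (π.symm 0),
            by simpa [a, b] using congrFun hab (π.symm 1)⟩]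
          by_cases hp : p = q
          · simp [show ¬ p' = q' from fun h => hpq ⟨hp, h⟩]
          · simp [hp]
      refine mul_left_cancel₀ hcc ?_
      linear_combination h1.trans hab
    have horth : ∀ i, (C i)ᵀ * C i = 1 := by
      have key : ∀ M N : Mat 3 F, (∀ p q p' q', M p q * N p' q' =
          (if p = q then (1 : F) else 0) * (if p' = q' then 1 else 0)) →
          (∀ R : Mat 3 F, M = Rᵀ * R → M = 1) := by
        intro M N hMN R hR
        have h00 := hMN 0 0 0 0
        simp at h00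
        have hM : M = M 0 0 • (1 : Mat 3 F) := by
          ext p q
          have hpq := hMN p q 0 0
          simp at hpq
          rw [Matrix.smul_apply, Matrix.one_apply, smul_eq_mul]
          linear_combination (M 0 0) * hpq - M p q * h00
        have hdet := congrArg Matrix.det hR
        rw [Matrix.det_mul, Matrix.det_transpose, hM, Matrix.det_smul, Matrix.det_one, mul_one,
          Fintype.card_fin] at hdet
        have hne : M 0 0 ≠ 0 := left_ne_zero_of_mul (h00 ▸ one_ne_zero)
        have : M 0 0 = 1 := by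
          rcases hq' (M 0 0) with h | h | h
          · exact absurd h hne
          · exact h
          · exfalso
            rw [h] at hdet
            rcases hq' R.det with e | e | e <;> rw [e] at hdet <;>
              first
                | exact h2 (by linear_combination -hdet)
                | exact one_ne_zero (α := F) (by linear_combination -hdet)
        rw [hM, this, one_smul]
      refine Fin.forall_fin_two.mpr ⟨?_, ?_⟩
      · exact key _ _ hrel (C 0) rfl
      · exact key _ ((C 0)ᵀ * C 0)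
          (fun p q p' q' => by rw [mul_comm, hrel, mul_comm]) (C 1) rfl
    intro a
    show ∃ b, (g : Mat n F) *ᵥ v a ∈ F ∙ v b
    choose i₀ d hd' using fun i => orth_three_monomial hq' h3 h2 (horth i) (a (π.symm i))
    refine ⟨i₀, Submodule.mem_span_singleton.mpr ⟨∏ i, d i, ?_⟩⟩
    rw [himg]
    simp only [v]
    rw [← Matrix.mulVec_smul]
    congr 1
    funext x
    simp only [Pi.smul_apply, Function.comp_apply, smul_eq_mul, ← Finset.prod_mul_distrib]
    refine Finset.prod_congr rfl fun i _ => ?_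
    simp [Matrix.mul_apply, hd', mul_comm]
  have hdec : H ≤ decompositionStabilizer D := by
    intro h hh
    have hb : ∀ i, ∃ j, (D i).map (Matrix.toLin' (h : Mat n F)) = D j := by
      intro i
      obtain ⟨b, hb⟩ := hmem h hh (e i)
      refine ⟨e.symm b, Submodule.eq_of_le_of_finrank_eq ?_ ?_⟩
      · rintro _ ⟨u, hu, rfl⟩
        obtain ⟨r, rfl⟩ := Submodule.mem_span_singleton.mp hu
        rw [Matrix.toLin'_apply, Matrix.mulVec_smul]
        refine Submodule.smul_mem _ _ ?_
        simpa [D] using hb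
      · rw [(Submodule.equivMapOfInjective _ (Matrix.mulVec_injective_iff_isUnit.2 h.isUnit) _).finrank_eq.symm,
          hrank, hrank]
    choose τ hτ using hb
    have hinj : Function.Injective τ := fun i j hij => by
      refine hDm.indep.injective (fun l h0 => ?_) ?_
      · have := hrank l; rw [h0, finrank_bot] at this; omega
      · exact Submodule.map_injective_of_injective (Matrix.mulVec_injective_iff_isUnit.2 h.isUnit)
          ((hτ i).trans (hij ▸ (hτ j).symm))
    exact ⟨Equiv.ofBijective τ ⟨hinj, Finite.injective_iff_surjective.mp hinj⟩, hτ⟩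
  refine odd_decomp hQ h2 hodd hd hH ⟨hDm, fun i w hw hw0 => ?_, fun i j hij u hu w hw => ?_⟩ hdec
    (transitive_of_irr hirr hDm hdec)
  · obtain ⟨r, rfl⟩ := Submodule.mem_span_singleton.mp hw
    have hr : r ≠ 0 := fun h => hw0 (by rw [h, zero_smul])
    refine ⟨⟨v (e i), Submodule.mem_span_singleton_self _, ?_⟩,
      ⟨v (e i), Submodule.mem_span_singleton_self _, ?_⟩⟩
    · rw [hs.smul_right, hvv, if_pos rfl]; exact mul_ne_zero hr hcc
    · rw [hs.smul_left, hvv, if_pos rfl]; exact mul_ne_zero hr hcc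
  · obtain ⟨r, rfl⟩ := Submodule.mem_span_singleton.mp hu
    obtain ⟨r', rfl⟩ := Submodule.mem_span_singleton.mp hw
    rw [hs.smul_left, hs.smul_right, hvv, if_neg (e.injective.ne hij), mul_zero, mul_zero]

/-- Aschbacher's theorem for orthogonal groups in odd dimension. -/
theorem odd_outcome {Q : (Fin n → F) → F} (hQ : IsNondegenerateQuadraticForm Q)
    (h2 : (2 : F) ≠ 0) (hodd : Odd n) (hn : 3 ≤ n)
    (hd : ∀ F₁ : Subfield F, ∃ d0 ∈ F₁, ∃ s : F, (OrthPrime.pgram Q).det = d0 * s ^ 2)
    {H : Subgroup (GL (Fin n) F)} (hH : H ≤ Cfsg.isometryGroup F Q) : OddOutcome Q H := by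
  classical
  have hf := polar_herm hQ
  have hfix := fixes_polar hH
  set f := QuadraticMap.polar Q
  by_cases hirr : ActsIrreducibly (matrixSet H)
  swap
  · rw [irr_iff] at hirr
    push Not at hirr
    obtain ⟨W, hW, h0, h1⟩ := hirr
    have hW' : ∀ h ∈ H, ∀ v ∈ W, (h : Mat n F) *ᵥ v ∈ W :=
      fun h hh v hv => hW _ (mem_matrixSet hh) v hv
    by_cases hrad : W ⊓ hf.perp W = ⊥
    · refine .inr (.inl ⟨W, h0, h1, fun w hw hw0 => ?_, le_subspaceStabilizer hW'⟩)
      have : ∃ x ∈ W, f w x ≠ 0 := by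
        by_contra hh
        push Not at hh
        exact hw0 ((Submodule.mem_bot F).mp (hrad ▸ ⟨hw, hh⟩))
      obtain ⟨x, hx, hxw⟩ := this
      exact ⟨⟨x, hx, (QuadraticMap.polar_comm Q x w).trans_ne hxw⟩,
        x, hx, hxw⟩
    · exact .inl ⟨_, hrad, totallySingular_quad hQ h2 fun u hu v hv => hu.2 v hv.1,
        le_subspaceStabilizer fun h hh v hv =>
          ⟨hW' h hh v hv.1, hf.perp_invariant hfix hW' h hh v hv.2⟩⟩
  rcases outcome hn hf hfix with
    ⟨W, h0, hts, hle⟩ | ⟨W, h0, hnd, hdim, hle⟩ | ⟨t, k, D, hD, hle, htr⟩ |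
    ⟨k, D, hk, -, -, -⟩ | ⟨r, K, hr, hK, htype, hle⟩ |
    ⟨n₁, n₂, e, P, ε₁, ε₂, f₁, f₂, h1, h2', hf₁, hf₂, hT, hle⟩ |
    ⟨k, t, e, P, ε₁, f₁, L, hk, ht, hf₁, hT, hLp, hL0, hLf, hle⟩ |
    ⟨F₀, l, P, c, hl, hcard, hc0, hP, -, hle⟩ |
    ⟨r, k, R, hk, hnk, hR, -, hsim, -, hle⟩ | ⟨M, hM, hMf⟩
  · exact .inl ⟨W, h0, totallySingular_quad hQ h2 hts, hle⟩
  · refine .inr (.inl ⟨W, h0, fun h => ?_, hnd, hle⟩)
    rw [h, finrank_top, Module.finrank_fintype_fun_eq_card, Fintype.card_fin] at hdim
    omega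
  · refine odd_decomp hQ h2 hodd hd hH hD hle (htr.resolve_right fun ht => ?_)
    have := decomp_card hD.decomp
    subst ht
    exact hodd.not_two_dvd_nat ⟨k, this.symm⟩
  · exact absurd ⟨k, hk.symm⟩ hodd.not_two_dvd_nat
  · have hdvd := field_dvd (by omega) hK
    have hself : IsSelfAdjointFor f K := by
      rcases htype with ⟨-, h⟩ | ⟨-, hr2, -, -⟩ | ⟨hne, -⟩
      · exact h
      · exact absurd (hr2 ▸ hdvd) hodd.not_two_dvd_nat
      · exact absurd rfl hne
    by_cases hrn : n = r
    · exact absurd (not_comm_irr hf hn hodd hfix hirr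
        (comm_of_full_field hf hn hodd hfix (hrn ▸ hK) hself hle)) id
    · exact .inr (.inr (.inr (.inl ⟨r, K, hr, hrn, hK, hself, hle⟩)))
  · have hprod : n₁ * n₂ = n := by
      simpa [Fintype.card_prod] using (Fintype.card_congr e).symm
    obtain ⟨ho1, ho2⟩ := Nat.odd_mul.mp (hprod ▸ hodd)
    have h31 : 3 ≤ n₁ := by obtain ⟨i, rfl⟩ := ho1; omega
    have h32 : 3 ≤ n₂ := by obtain ⟨i, rfl⟩ := ho2; omega
    have hs₁ := (hf₁.symmetric_of_odd h2 ho1).2
    have hs₂ := (hf₂.symmetric_of_odd h2 ho2).2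
    rcases lt_trichotomy n₁ n₂ with hlt | heq | hlt
    · exact .inr (.inr (.inr (.inr (.inl ⟨n₁, n₂, e, P, f₁, f₂, h31, hlt, hs₁, hs₂, hT, hle⟩))))
    · subst heq
      set G₁ := gramMatrix f₁
      set G₂ := gramMatrix f₂
      have hu₁ : G₁.det ≠ 0 := ((Matrix.isUnit_iff_isUnit_det _).mp
        (hf₁.sesq.isUnit_gram hf₁.nondeg)).ne_zero
      have hu₂ : G₂.det ≠ 0 := ((Matrix.isUnit_iff_isUnit_det _).mp
        (hf₂.sesq.isUnit_gram hf₂.nondeg)).ne_zero
      set a : F := G₁.det * G₂.det with hadef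
      have ha : a ≠ 0 := mul_ne_zero hu₁ hu₂
      obtain ⟨A, A', hAA, hA'A, hA⟩ := KnownC.GraphForms.congr_of_isSquare h2
        (M := G₂) (M' := a • G₁) (Matrix.ext fun x y => hs₂.symm _ _)
        (by rw [Matrix.transpose_smul]; congr 1; exact Matrix.ext fun x y => hs₁.symm _ _) rfl hu₂
        (by rw [Matrix.det_smul]; exact mul_ne_zero (pow_ne_zero _ ha) hu₁) (by
          rw [Matrix.det_smul, Fintype.card_fin]
          obtain ⟨i, hi⟩ := ho1
          refine ⟨a ^ (i + 1), ?_⟩
          rw [show a ^ n₁ = a ^ (2 * i + 1) from congrArg (a ^ ·) hi]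
          linear_combination -(a ^ (2 * i + 1)) * hadef)
      obtain ⟨e', P', hT', hle'⟩ := tensorPower_of_pair hf hT ⟨A, A', hAA, hA'A⟩ ha (by
        simpa using hA)
      by_cases h33 : Fintype.card F = 3 ∧ n₁ = 3
      · obtain ⟨h3, rfl⟩ := h33
        exact three_square hQ h2 hodd hn hd hH hirr h3 hs₁ hT' (hle.trans hle')
      · exact .inr (.inr (.inr (.inr (.inr (.inr (.inl
          ⟨n₁, 2, e', P', f₁, h31, le_rfl, h33, hs₁, hT', hle.trans hle'⟩))))))
    · exact .inr (.inr (.inr (.inr (.inl ⟨n₂, n₁, _, P, f₂, f₁, h32, hlt, hs₂, hs₁,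
        tensorForm_swap hT, hle.trans (tensor_swap e P)⟩))))
  · have hpow : k ^ t = n := by simpa using (Fintype.card_congr e).symm
    have hok : Odd k := (Nat.odd_pow_iff (by omega)).mp (hpow ▸ hodd)
    have hk3 : 3 ≤ k := by obtain ⟨i, rfl⟩ := hok; omega
    have hs₁ := (hf₁.symmetric_of_odd h2 hok).2
    by_cases h33 : Fintype.card F = 3 ∧ k = 3
    · exfalso
      obtain ⟨h3', rfl⟩ := h33
      have h3 : (3 : F) = 0 := by
        have := FiniteField.cast_card_eq_zero F
        rwa [h3', Nat.cast_ofNat] at this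
      have hq' : ∀ x : F, x = 0 ∨ x = 1 ∨ x = -1 := fun x => by
        have hx := FiniteField.pow_card x
        rw [h3'] at hx
        have : x * ((x - 1) * (x + 1)) = 0 := by linear_combination hx
        rcases mul_eq_zero.mp this with h | h
        · exact .inl h
        rcases mul_eq_zero.mp h with h | h
        · exact .inr (.inl (sub_eq_zero.mp h))
        · exact .inr (.inr (eq_neg_of_add_eq_zero_left h))
      set G := gramMatrix f₁
      have hGu : G.det ≠ 0 := ((Matrix.isUnit_iff_isUnit_det _).mp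
        (hf₁.sesq.isUnit_gram hf₁.nondeg)).ne_zero
      obtain ⟨B, B', c₁, hBB, hB'B, hB⟩ := KnownC.GraphForms.similar_of_odd h2
        (M := G) (M' := (1 : Mat 3 F)) (Matrix.ext fun x y => hs₁.symm _ _)
        Matrix.transpose_one rfl hGu (by simp) (by decide)
      let Bu : GL (Fin 3) F := ⟨B, B', hBB, hB'B⟩
      let φ := (MulAut.conj Bu⁻¹).toMonoidHom
      have hM : L.map φ = ⊥ := by
        refine perfect_orth_three hq' h3 h2 ?_ (by rw [← Subgroup.map_commutator, hLp])
        rintro _ ⟨g, hg, rfl⟩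
        have hiso := (hf₁.sesq.isometry (c := 1) (A := (g : Mat 3 F))).mp fun u v => by
          rw [one_mul]; exact hLf _ (mem_matrixSet hg) u v
        rw [one_smul, show (g : Mat 3 F).map (RingHom.id F) = (g : Mat 3 F) from rfl] at hiso
        have e1 : ((φ g : GL (Fin 3) F) : Mat 3 F) = B' * (g : Mat 3 F) * B := by simp [φ, Bu]
        have hc1 : (c₁ : F) ≠ 0 := c₁.ne_zero
        refine smul_right_injective (Mat 3 F) hc1 ?_
        show (c₁ : F) • _ = (c₁ : F) • _
        rw [e1, ← Matrix.mul_smul]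
        calc (B' * (g : Mat 3 F) * B)ᵀ * ((c₁ : F) • (B' * (g : Mat 3 F) * B))
            = (B' * (g : Mat 3 F) * B)ᵀ * (((c₁ : F) • (1 : Mat 3 F)) *
                (B' * (g : Mat 3 F) * B)) := by rw [Matrix.smul_mul, one_mul]
          _ = Bᵀ * ((g : Mat 3 F)ᵀ * ((B * B')ᵀ * G * (B * B')) * (g : Mat 3 F)) * B := by
              rw [← hB]; simp only [Matrix.transpose_mul, mul_assoc]
          _ = (c₁ : F) • 1 := by
              rw [hBB, Matrix.transpose_one, one_mul, mul_one, hiso, hB]
      refine hL0 (fun g hg => ?_)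
      have : φ g = 1 := (Subgroup.mem_bot).mp (hM ▸ ⟨g, hg, rfl⟩)
      rw [show g = 1 from (MulAut.conj Bu⁻¹).injective (this.trans (map_one _).symm)]
      exact one_mem _
    · exact .inr (.inr (.inr (.inr (.inr (.inr (.inl
        ⟨k, t, e, P, f₁, hk3, ht, h33, hs₁, hT, hle⟩))))))
  · obtain ⟨d0, hd0, s, hs⟩ := hd F₀
    have hrat : ∀ i j, (c * f ((P : Mat n F) *ᵥ Pi.single i 1) ((P : Mat n F) *ᵥ Pi.single j 1))
        ∈ F₀ := fun i j =>
      hP _ _ (fun a => by rw [Pi.single_apply]; split <;> [exact F₀.one_mem; exact F₀.zero_mem])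
        (fun a => by rw [Pi.single_apply]; split <;> [exact F₀.one_mem; exact F₀.zero_mem])
    obtain ⟨P', hP', hPB⟩ := OrthPrime.rational_structure hodd hQ h2 P⁻¹ hd0 hs (a := c⁻¹)
      (G₀ := Matrix.of fun i j => c * f ((P : Mat n F) *ᵥ Pi.single i 1)
        ((P : Mat n F) *ᵥ Pi.single j 1)) hrat (by
        rw [inv_inv]
        ext i j
        rw [Matrix.smul_apply, Matrix.of_apply, smul_eq_mul, ← mul_assoc, inv_mul_cancel₀ hc0,
          one_mul, Matrix.mulVec_single_one, Matrix.mulVec_single_one]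
        show _ = QuadraticMap.polar Q _ _
        rw [OrthPrime.polar_eq hQ, mul_assoc, Matrix.mul_apply, dotProduct]
        rfl)
    rw [inv_inv] at hPB
    exact .inr (.inr (.inr (.inr (.inr (.inl ⟨F₀, l, P', hl,
      by rw [← Nat.card_eq_fintype_card]; exact hcard, hP', hPB.symm ▸ hle⟩)))))
  · exfalso
    have hcomm : ∀ x ∈ R, ∀ y ∈ R, x * y = y * x := by
      intro x hx y hy
      obtain ⟨z, hz⟩ := (mem_scalars_iff _).mp (hR.comm x hx y hy)
      obtain ⟨a, ha, hax⟩ := hsim x hx
      obtain ⟨b, hb, hby⟩ := hsim y hy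
      have hzz : (z : F) * z = 1 := by
        obtain ⟨⟨p, hp⟩, -⟩ := hf.nondeg (Pi.single ⟨0, by omega⟩ 1) (by simp)
        have h := commutator_isometry (f := f) ha hb hax hby p (Pi.single ⟨0, by omega⟩ 1)
        rw [commutatorElement_def, hz, Matrix.smul_mulVec, Matrix.smul_mulVec, Matrix.one_mulVec,
          Matrix.one_mulVec, hf.sesq.smul_left, hf.sesq.smul_right, RingHom.id_apply, ← mul_assoc] at h
        exact mul_right_cancel₀ hp (h.trans (one_mul _).symm)
      have hdet : (z : F) ^ n = 1 := by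
        have hg : Matrix.GeneralLinearGroup.det (x * y * x⁻¹ * y⁻¹) = 1 := by
          rw [map_mul, map_mul, map_mul, map_inv, map_inv,
            mul_comm (Matrix.GeneralLinearGroup.det x)]
          simp
        have := congrArg Units.val hg
        rwa [Matrix.GeneralLinearGroup.val_det_apply, Units.val_one, hz, Matrix.det_smul,
          Matrix.det_one, mul_one, Fintype.card_fin] at this
      have hz1 : (z : F) = 1 := by
        obtain ⟨i, hi⟩ := hodd
        rw [show (z : F) ^ n = (z : F) ^ (2 * i + 1) from congrArg _ hi, pow_succ, pow_mul, pow_two,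
          hzz, one_pow, one_mul] at hdet
        exact hdet
      have : ⁅x, y⁆ = 1 := Units.ext (by
        rw [commutatorElement_def, hz, hz1, one_smul, Units.val_one])
      exact commutatorElement_eq_one_iff_mul_comm.mp this
    exact algOf_comm_false (by omega) hR.full hcomm
  · refine .inr (.inr (.inr (.inr (.inr (.inr (.inr ⟨M, hM, ?_⟩))))))
    rintro ⟨σ, g, hg, hgfix⟩
    obtain ⟨F₀, hF₀, hreal⟩ := OrthPrime.realisable_of_unitary (by omega) hM.absIrred hQ.polar_bilinear
      hQ.nondegenerate hMf hg hgfix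
    exact hM.no_subfield F₀ hF₀ hreal

end CfsgLib.Classical.AschForm
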