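import Cfsg.Agent.Lib.Classical.AschForm.OddOrtho
import Cfsg.Agent.Lib.Classical.OrthPrime.Odd

/-!
# The classes for orthogonal groups in odd dimension, on any index type
-/

set_option autoImplicit false
set_option linter.unusedSectionVars false

namespace CfsgLib.Classical.AschForm

open Matrix Cfsg Cfsg.Geo CfsgLib.Classical.AschPrime CfsgLib.Classical.OrthPrime
open scoped MatrixGroups Kronecker

variable {F : Type*} [Field F] {n : ℕ} {ι : Type} [Fintype ι] [DecidableEq ι] (e : ι ≃ Fin n)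

theorem coord_symm_mulVec (P : GL (Fin n) F) (v : Fin n → F) :
    (((glReindex e).symm P : GL ι F) : Matrix ι ι F) *ᵥ (coord e).symm v =
      (coord e).symm ((P : Mat n F) *ᵥ v) := by
  rw [mulVec_coord_symm, MulEquiv.apply_symm_apply]

theorem coord_symm_comp {κ : Type} (ε : Fin n ≃ κ) (x : κ → F) :
    (coord e).symm (x ∘ ε) = x ∘ (e.trans ε) := by
  refine (coord e).injective ?_
  rw [LinearEquiv.apply_symm_apply]
  funext i
  simp [coord, LinearMap.funLeft]

theorem reindex_sandwich {κ : Type} [Fintype κ] [DecidableEq κ] (ε : Fin n ≃ κ)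
    (X : Subgroup (GL κ F)) (P : GL (Fin n) F) (g : GL ι F) :
    glReindex e g ∈ ((X.map (glReindex ε.symm).toMonoidHom).map (MulAut.conj P).toMonoidHom) ↔
      g ∈ ((X.map (glReindex (e.trans ε).symm).toMonoidHom).map
        (MulAut.conj ((glReindex e).symm P)).toMonoidHom) := by
  have key : ∀ w : GL κ F, glReindex e (glReindex (ε.symm.trans e.symm) w) = glReindex ε.symm w :=
    fun w => Units.ext (by
      show Matrix.reindex _ _ (Matrix.reindex _ _ (w : Matrix κ κ F)) = Matrix.reindex _ _ (w : Matrix κ κ F)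
      ext i j
      simp)
  constructor
  · rintro ⟨_, ⟨w, hw, rfl⟩, hwe⟩
    refine ⟨_, ⟨w, hw, rfl⟩, (glReindex e).injective ?_⟩
    rw [← hwe]
    simp [MulAut.conj_apply, map_mul, key]
  · rintro ⟨_, ⟨w, hw, rfl⟩, rfl⟩
    refine ⟨_, ⟨w, hw, rfl⟩, ?_⟩
    simp [MulAut.conj_apply, map_mul, key]

variable [Fintype F]

/-- The classes for the isometry group of `x₀² + Σ xᵢ yᵢ`. -/
theorem omega_odd_structure (m : ℕ) (hm : 1 ≤ m) (hodd : Odd (Fintype.card F))
    {H : Subgroup (GL (Unit ⊕ (Fin m ⊕ Fin m)) F)}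
    (hH : H ≤ omegaGL (Cfsg.quadFormOdd m F)) :
    (∃ M : Subgroup (GL (Unit ⊕ (Fin m ⊕ Fin m)) F), InOrthogonalOddClass m F M ∧ H ≤ M) ∨
      InOrthogonalResidualClass H := by
  classical
  have h2 : (2 : F) ≠ 0 := Ring.two_ne_zero fun h => by
    obtain ⟨k, hk⟩ := hodd
    have := FiniteField.even_card_of_char_two h
    omega
  let n := 2 * m + 1
  let e : Unit ⊕ (Fin m ⊕ Fin m) ≃ Fin n :=
    (Fintype.equivFin _).trans (finCongr (by simp [n]; omega))
  set Qf := Cfsg.quadFormOdd m F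
  have hQ0 := odd_isNondegenerate (F := F) m h2
  have hQ := qt_nondeg e hQ0
  set I := Cfsg.isometryGroup F Qf
  have hI : H ≤ I := by
    intro g hg
    obtain ⟨x, -, rfl⟩ := hH hg
    exact x.2
  have hd : ∀ F₁ : Subfield F, ∃ d0 ∈ F₁, ∃ s : F, (pgram (qt e Qf)).det = d0 * s ^ 2 := by
    intro F₁
    refine ⟨_, ?_, 1, by rw [one_pow, mul_one]⟩
    have hent : ∀ i j, pgram (qt e Qf) i j ∈ F₁ := fun i j => by
      have h : ∀ k : Fin n, (coord e).symm (Pi.single k (1 : F)) = Pi.single (e.symm k) 1 := fun k => by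
        ext a
        simp [coord, LinearEquiv.funCongrLeft_symm, LinearMap.funLeft, Pi.single_apply,
          ← e.eq_symm_apply]
      show QuadraticMap.polar (qt e Qf) _ _ ∈ F₁
      rw [polar_qt, h, h]
      exact odd_gram_mem m F₁ _ _
    rw [show pgram (qt e Qf) =
      (Matrix.of fun i j => (⟨pgram (qt e Qf) i j, hent i j⟩ : F₁)).map F₁.subtype from rfl,
      ← RingHom.mapMatrix_apply, ← RingHom.map_det]
    exact SetLike.coe_mem _
  have hG : H.map (glReindex e).toMonoidHom ≤ Cfsg.isometryGroup F (qt e Qf) := by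
    rintro _ ⟨x, hx, rfl⟩ u v
    show Qf ((coord e).symm ((glReindex e x : Mat n F) *ᵥ u)) = Qf ((coord e).symm u)
    rw [← mulVec_coord_symm]
    exact hI hx ((coord e).symm u) ((coord e).symm u)
  have hmem : ∀ {X : Subgroup (GL (Fin n) F)} {Y : Subgroup (GL (Unit ⊕ (Fin m ⊕ Fin m)) F)},
      (∀ g, glReindex e g ∈ X ↔ g ∈ Y) → H.map (glReindex e).toMonoidHom ≤ X → H ≤ Y ⊓ I :=
    fun hXY h g hg => ⟨(hXY g).mp (h ⟨g, hg, rfl⟩), hI hg⟩
  let pull : Submodule F (Fin n → F) → Submodule F (Unit ⊕ (Fin m ⊕ Fin m) → F) := fun U =>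
    U.map ((coord (F := F) e).symm : (Fin n → F) →ₗ[F] (Unit ⊕ (Fin m ⊕ Fin m) → F))
  have hpol : ∀ U : Submodule F (Fin n → F), IsNondegenerateOn (QuadraticMap.polar (qt e Qf)) U →
      IsNondegenerateOn (QuadraticMap.polar Qf) (pull U) := by
    rintro U hU _ ⟨u, hu, rfl⟩ h0
    obtain ⟨⟨x, hx, hxu⟩, y, hy, hyu⟩ := hU u hu fun e0 => h0 (by rw [e0, map_zero])
    rw [polar_qt] at hxu hyu
    exact ⟨⟨_, ⟨x, hx, rfl⟩, hxu⟩, _, ⟨y, hy, rfl⟩, hyu⟩
  rcases odd_outcome hQ h2 (odd_two_mul_add_one m) (by omega) hd hG with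
    ⟨W, h0, hts, hle⟩ | ⟨W, h0, h1, hnd, hle⟩ | ⟨t, k, D, hk, hD, hle⟩ |
    ⟨r, K, hr, hnr, hK, hself, hle⟩ | ⟨n₁, n₂, ε, P, f₁, f₂, h3, hlt, hs₁, hs₂, hT, hle⟩ |
    ⟨F₀, r, P, hr, hcard, hP, hle⟩ | ⟨k, t, ε, P, f₁, hk, ht, h33, hs₁, hT, hle⟩ | hres
  · refine .inl ⟨_, .inl ⟨pull W, by simpa [pull] using h0, ?_, rfl⟩,
      hmem (fun g => mem_stab_iff e g W) hle⟩
    rintro _ ⟨u, hu, rfl⟩
    exact hts u hu
  · refine .inl ⟨_, .inr (.inl ⟨pull W, by simpa [pull] using h0, fun h => h1 ?_, hpol W hnd, rfl⟩),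
      hmem (fun g => mem_stab_iff e g W) hle⟩
    refine Submodule.map_injective_of_injective
      (f := ((coord (F := F) e).symm : (Fin n → F) →ₗ[F] (Unit ⊕ (Fin m ⊕ Fin m) → F))) (coord e).symm.injective ?_
    rw [Submodule.map_top]
    exact h.trans (LinearMap.range_eq_top.mpr (coord e).symm.surjective).symm
  · have hD' : IsOrthogonalMDecomposition Qf k fun i => pull (D i) := by
      refine ⟨⟨?_, fun i => hpol _ (hD.decomp.nondegenerate i), ?_⟩, fun i j => ?_⟩
      · refine ⟨hD.decomp.decomp.two_le, hD.decomp.decomp.pos, fun i => ?_, ?_, ?_⟩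
        · rw [LinearEquiv.finrank_map_eq, hD.decomp.decomp.finrank_eq]
        · exact hD.decomp.decomp.indep.map_orderIso (Submodule.orderIsoMapComap (coord e).symm)
        · rw [← Submodule.map_iSup, hD.decomp.decomp.iSup_eq_top, Submodule.map_top]
          exact LinearMap.range_eq_top.mpr (coord e).symm.surjective
      · rintro i j hij _ ⟨u, hu, rfl⟩ _ ⟨v, hv, rfl⟩
        have := hD.decomp.orthogonal i j hij u hu v hv
        rwa [polar_qt] at this
      · obtain ⟨E, hE⟩ := hD.isometric i j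
        refine ⟨(((coord e).symm.submoduleMap (D i)).symm.trans E).trans
          ((coord e).symm.submoduleMap (D j)), ?_⟩
        rintro ⟨_, u, hu, rfl⟩
        have h := hE ⟨u, hu⟩
        have e1 : ((coord e).symm.submoduleMap (D i)).symm ⟨_, u, hu, rfl⟩ = ⟨u, hu⟩ := by
          rw [LinearEquiv.symm_apply_eq]; rfl
        simp only [LinearEquiv.trans_apply, e1]
        exact h
    rcases hk with hk | ⟨rfl, hp⟩
    · exact .inl ⟨_, .inr (.inr (.inl ⟨t, k, _, hk, hD', rfl⟩)),
        hmem (fun g => mem_decomp_iff e g D) hle⟩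
    · exact .inl ⟨_, .inr (.inr (.inr (.inl ⟨t, _, hp, hD', rfl⟩))),
        hmem (fun g => mem_decomp_iff e g D) hle⟩
  · let φ := Matrix.reindexAlgEquiv F F e
    let K' : Subalgebra F (Matrix (Unit ⊕ (Fin m ⊕ Fin m)) (Unit ⊕ (Fin m ⊕ Fin m)) F) :=
      K.comap φ.toAlgHom
    have hK' : ∀ x, x ∈ K' ↔ φ x ∈ K := fun x => Iff.rfl
    have hcong : ∀ x ∈ K', ∀ u, (x *ᵥ u) = (coord e).symm (φ x *ᵥ coord e u) := by
      intro x _ u
      refine (coord e).injective ?_
      rw [LinearEquiv.apply_symm_apply]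
      funext i
      simp only [coord, LinearEquiv.funCongrLeft_apply, LinearMap.funLeft, Matrix.mulVec,
        dotProduct, LinearMap.coe_mk, AddHom.coe_mk, Function.comp_apply]
      exact Fintype.sum_equiv e _ _ fun j => by simp [φ]
    refine .inl ⟨_, .inr (.inr (.inr (.inr (.inl ⟨r, K', hr, hnr, ?_, ?_, rfl⟩)))), hmem ?_ hle⟩
    · refine ⟨fun x hx y hy => φ.injective ?_, fun x hx hx0 => ?_, ?_⟩
      · rw [map_mul, map_mul]; exact hK.comm _ hx _ hy
      · obtain ⟨y, hy, hxy⟩ := hK.inv _ hx fun h => hx0 (φ.injective (h.trans (map_zero φ).symm))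
        refine ⟨φ.symm y, ?_, φ.injective ?_⟩
        · rw [hK', φ.apply_symm_apply]; exact hy
        · rw [map_mul, φ.apply_symm_apply, map_one]; exact hxy
      · rw [← hK.finrank_eq]
        exact LinearEquiv.finrank_eq
          (LinearEquiv.ofBijective
            (LinearMap.codRestrict (Subalgebra.toSubmodule K)
              (φ.toLinearMap.comp (Subalgebra.toSubmodule K').subtype) fun x => x.2)
            ⟨fun x y h => Subtype.ext (φ.injective (congrArg Subtype.val h)),
              fun y => ⟨⟨φ.symm y, by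
                show φ (φ.symm y) ∈ K
                rw [φ.apply_symm_apply]; exact y.2⟩, Subtype.ext (φ.apply_symm_apply _)⟩⟩)
    · intro x hx u v
      have h := hself _ hx (coord e u) (coord e v)
      rw [polar_qt, polar_qt, LinearEquiv.symm_apply_apply, LinearEquiv.symm_apply_apply] at h
      rw [hcong x hx, hcong x hx]
      exact h
    · intro g
      have hc : ∀ k, φ ((g : Matrix _ _ F) * k *
          ((g⁻¹ : GL (Unit ⊕ (Fin m ⊕ Fin m)) F) : Matrix _ _ F)) =
          (glReindex e g : Mat n F) * φ k * (((glReindex e g)⁻¹ : GL (Fin n) F) : Mat n F) := by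
        intro k
        rw [map_mul, map_mul, ← map_inv]
        rfl
      constructor
      · intro h k
        rw [hK', hK', hc]
        exact h (φ k)
      · intro h k
        obtain ⟨k, rfl⟩ := φ.surjective k
        rw [← hc, ← hK', ← hK']
        exact h k
  · refine .inl ⟨_, .inr (.inr (.inr (.inr (.inr (.inl ⟨n₁, n₂, e.trans ε, (glReindex e).symm P, f₁, f₂, h3,
      hlt, hs₁, hs₂, ?_, rfl⟩))))), hmem (fun g => reindex_sandwich e ε _ P g) hle⟩
    obtain ⟨c, hc, hval⟩ := hT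
    refine ⟨c, hc, fun x y => ?_⟩
    rw [← coord_symm_comp e ε, ← coord_symm_comp e ε, coord_symm_mulVec, coord_symm_mulVec,
      ← polar_qt]
    exact hval x y
  · refine .inl ⟨_, .inr (.inr (.inr (.inr (.inr (.inr (.inl ⟨F₀, r, (glReindex e).symm P, hr, hcard,
      ?_, rfl⟩)))))), hmem (fun g => mem_subfield_iff e g F₀ P) hle⟩
    intro u hu
    have h := hP (coord e u) (fun i => hu _)
    rwa [qt, ← coord_symm_mulVec, LinearEquiv.symm_apply_apply] at h
  · refine .inl ⟨_, .inr (.inr (.inr (.inr (.inr (.inr (.inr ⟨k, t, e.trans ε, (glReindex e).symm P, f₁, hk, ht,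
      h33, hs₁, ?_, rfl⟩)))))), hmem (fun g => reindex_sandwich e ε _ P g) hle⟩
    obtain ⟨c, hc, hval⟩ := hT
    refine ⟨c, hc, fun x y => ?_⟩
    rw [← coord_symm_comp e ε, ← coord_symm_comp e ε, coord_symm_mulVec, coord_symm_mulVec,
      ← polar_qt]
    exact hval x y
  · exact .inr (residual_transport e hres)

end CfsgLib.Classical.AschForm
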