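import Cfsg.Agent.Lib.Classical.AschForm.Tensor
import Cfsg.Agent.Lib.Classical.AschPrime.UnitaryBasic

/-!
# Subfields and forms
-/

set_option autoImplicit false
set_option linter.unusedSectionVars false

namespace CfsgLib.Classical.AschForm

open Matrix Cfsg Cfsg.Geo CfsgLib.Classical.AschPrime CfsgLib.Classical.AschGen
open scoped MatrixGroups

variable {F : Type*} [Field F] [Finite F] {n : ℕ} {σ : F →+* F} {ε : F}
  {f : (Fin n → F) → (Fin n → F) → F}

/-- Every endomorphism of a finite field preserves every subfield. -/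
theorem map_mem_subfield (τ : F →+* F) (F₁ : Subfield F) {x : F} (hx : x ∈ F₁) : τ x ∈ F₁ := by
  haveI := Fintype.ofFinite F₁
  have hpow : ∀ y ∈ (F₁ : Set F), y ^ Nat.card F₁ = y := fun y hy => by
    rw [Nat.card_eq_fintype_card]
    exact congrArg Subtype.val (FiniteField.pow_card (⟨y, hy⟩ : F₁))
  exact mem_of_pow_eq Finite.one_lt_card hpow
    (le_of_eq (Nat.card_coe_set_eq (F₁ : Set F))) (by rw [← map_pow, hpow x hx])

/-- A form fixed by an absolutely irreducible rational group is rational up to a scalar. -/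
theorem rational_form (hf : Herm σ ε f) (hn : 0 < n) {S : Subgroup (GL (Fin n) F)}
    (hS : ActsAbsolutelyIrreducibly (matrixSet S)) (hfix : FixesForm (matrixSet S) f)
    {F₁ : Subfield F} {B : GL (Fin n) F} (hrat : ∀ s ∈ S, RatAt F₁ B s) :
    ∃ c : F, c ≠ 0 ∧ IsFormRationalStructure f F₁ c B⁻¹ := by
  classical
  set M := gramAt σ f B⁻¹ with hMdef
  obtain ⟨Mu, hMu'⟩ : ∃ Mu : (Mat n F)ˣ, (Mu : Mat n F) = M := hf.isUnit_gramAt B⁻¹
  have hfixS : ∀ s ∈ S, ((B * s * B⁻¹ : GL (Fin n) F) : Mat n F)ᵀ * M *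
      ((B * s * B⁻¹ : GL (Fin n) F) : Mat n F).map σ = M := by
    intro s hs
    have h1 : (s : Mat n F)ᵀ * gramMatrix f * (s : Mat n F).map σ = gramMatrix f := by
      rw [(hf.sesq.isometry (c := 1)).mp fun u v => by rw [one_mul]; exact hfix _ (mem_matrixSet hs) u v,
        one_smul]
    have e : ((B⁻¹ : GL (Fin n) F) : Mat n F) * ((B * s * B⁻¹ : GL (Fin n) F) : Mat n F) =
        (s : Mat n F) * ((B⁻¹ : GL (Fin n) F) : Mat n F) := by
      rw [← Units.val_mul, ← Units.val_mul]; congr 1; group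
    calc ((B * s * B⁻¹ : GL (Fin n) F) : Mat n F)ᵀ * M * ((B * s * B⁻¹ : GL (Fin n) F) : Mat n F).map σ
        = (((B⁻¹ : GL (Fin n) F) : Mat n F) * ((B * s * B⁻¹ : GL (Fin n) F) : Mat n F))ᵀ * gramMatrix f *
          (((B⁻¹ : GL (Fin n) F) : Mat n F) * ((B * s * B⁻¹ : GL (Fin n) F) : Mat n F)).map σ := by
          rw [hMdef, gramAt, Matrix.transpose_mul, Matrix.map_mul]; simp only [mul_assoc]
      _ = ((B⁻¹ : GL (Fin n) F) : Mat n F)ᵀ * ((s : Mat n F)ᵀ * gramMatrix f * (s : Mat n F).map σ) *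
          ((B⁻¹ : GL (Fin n) F) : Mat n F).map σ := by
          rw [e, Matrix.transpose_mul, Matrix.map_mul]; simp only [mul_assoc]
      _ = M := by rw [h1, hMdef, gramAt]
  obtain ⟨τ, hτ⟩ := exists_frob_fixed F₁
  set X := M.map τ * ((Mu⁻¹ : (Mat n F)ˣ) : Mat n F) with hX
  have hXM : X * M = M.map τ := by rw [hX, ← hMu', mul_assoc, Units.inv_mul, mul_one]
  have hfixτ : ∀ s ∈ S, ((B * s * B⁻¹ : GL (Fin n) F) : Mat n F)ᵀ * M.map τ *
      ((B * s * B⁻¹ : GL (Fin n) F) : Mat n F).map σ = M.map τ := by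
    intro s hs
    set A := ((B * s * B⁻¹ : GL (Fin n) F) : Mat n F)
    have hA : A.map τ = A := by ext i j; exact (hτ _).mpr (hrat s hs i j)
    have hAσ : (A.map σ).map τ = A.map σ := by
      ext i j; exact (hτ _).mpr (map_mem_subfield σ F₁ (hrat s hs i j))
    conv_rhs => rw [← hfixS s hs, Matrix.map_mul, Matrix.map_mul, Matrix.transpose_map, hA, hAσ]
  obtain ⟨c, hc'⟩ := hS.2 (((B⁻¹ : GL (Fin n) F) : Mat n F) * Xᵀ * (B : Mat n F)) (by
    rintro _ ⟨s, hs, rfl⟩
    set s' := B * s * B⁻¹ with hs'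
    have hunit : IsUnit (M * (s' : Mat n F).map σ) := by
      rw [← hMu']
      exact Mu.isUnit.mul (s'.isUnit.map (RingHom.mapMatrix σ))
    have e : (s' : Mat n F)ᵀ * X * (M * (s' : Mat n F).map σ) =
        X * (s' : Mat n F)ᵀ * (M * (s' : Mat n F).map σ) := by
      calc (s' : Mat n F)ᵀ * X * (M * (s' : Mat n F).map σ)
          = (s' : Mat n F)ᵀ * (X * M) * (s' : Mat n F).map σ := by simp only [mul_assoc]
        _ = X * M := by rw [hXM, hfixτ s hs]
        _ = X * ((s' : Mat n F)ᵀ * M * (s' : Mat n F).map σ) := by rw [hfixS s hs]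
        _ = _ := by simp only [mul_assoc]
    have h2 := congrArg Matrix.transpose (hunit.mul_left_injective e)
    simp only [Matrix.transpose_mul, Matrix.transpose_transpose] at h2
    have e1 : (s : Mat n F) = ((B⁻¹ : GL (Fin n) F) : Mat n F) * (s' : Mat n F) * (B : Mat n F) := by
      rw [← Units.val_mul, ← Units.val_mul, hs']
      congr 1
      group
    change ((B⁻¹ : GL (Fin n) F) : Mat n F) * Xᵀ * (B : Mat n F) * (s : Mat n F) =
      (s : Mat n F) * (((B⁻¹ : GL (Fin n) F) : Mat n F) * Xᵀ * (B : Mat n F))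
    rw [e1]
    calc ((B⁻¹ : GL (Fin n) F) : Mat n F) * Xᵀ * (B : Mat n F) *
          (((B⁻¹ : GL (Fin n) F) : Mat n F) * (s' : Mat n F) * (B : Mat n F))
        = ((B⁻¹ : GL (Fin n) F) : Mat n F) * (Xᵀ * (s' : Mat n F)) * (B : Mat n F) := by
          simp only [mul_assoc, Units.mul_inv_cancel_left]
      _ = ((B⁻¹ : GL (Fin n) F) : Mat n F) * ((s' : Mat n F) * Xᵀ) * (B : Mat n F) := by
          rw [h2]
      _ = _ := by simp only [mul_assoc, Units.mul_inv_cancel_left])
  have hcX : X = c • 1 := by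
    have h1 := congrArg (fun Y => (B : Mat n F) * Y * ((B⁻¹ : GL (Fin n) F) : Mat n F)) hc'
    simp only [mul_assoc, Units.mul_inv, mul_one, Units.mul_inv_cancel_left, Matrix.mul_smul,
      Matrix.smul_mul, one_mul] at h1
    simpa using congrArg Matrix.transpose h1
  have hτM : ∀ i j, τ (M i j) = c * M i j := fun i j => by
    have := congrFun (congrFun (hXM.symm.trans (by rw [hcX, Matrix.smul_mul, one_mul])) i) j
    simpa using this
  obtain ⟨i₀, j₀, hij⟩ : ∃ i j, M i j ≠ 0 := by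
    by_contra hall
    push Not at hall
    haveI : NeZero n := ⟨hn.ne'⟩
    exact Mu.ne_zero (hMu'.trans (Matrix.ext hall))
  have hc0 : c ≠ 0 := by
    rintro rfl
    have := hτM i₀ j₀
    rw [zero_mul, map_eq_zero] at this
    exact hij this
  have hmem : ∀ i j, (M i₀ j₀)⁻¹ * M i j ∈ F₁ := fun i j => by
    rw [← hτ, map_mul, map_inv₀, hτM, hτM, mul_inv, mul_mul_mul_comm, inv_mul_cancel₀ hc0, one_mul]
  refine ⟨(M i₀ j₀)⁻¹, inv_ne_zero hij, fun u v hu hv => ?_⟩
  rw [hf.apply_at]
  simp only [dotProduct, Matrix.mulVec, Function.comp_apply, Finset.mul_sum]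
  refine F₁.sum_mem fun i _ => F₁.sum_mem fun j _ => ?_
  rw [show (M i₀ j₀)⁻¹ * (u i * (gramAt σ f B⁻¹ i j * σ (v j))) =
    (M i₀ j₀)⁻¹ * M i j * (u i * σ (v j)) by rw [hMdef]; ring]
  exact F₁.mul_mem (hmem i j) (F₁.mul_mem (hu i) (map_mem_subfield σ F₁ (hv j)))

/-- A group commuting with an invertible semilinear map is realised over the fixed field. -/
theorem realisable_of_semilinear (hc : IsConjugation σ) (hn : 0 < n)
    {S : Subgroup (GL (Fin n) F)} (hS : ActsAbsolutelyIrreducibly (matrixSet S))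
    {C₀ : Mat n F} (hC₀ : IsUnit C₀)
    (hcomm : ∀ s ∈ S, (s : Mat n F) * C₀ = C₀ * (s : Mat n F).map σ) :
    ∃ F₀ : Subfield F, F₀ ≠ ⊤ ∧ RealisableOver F₀ (matrixSet S) := by
  classical
  have hσσ : ∀ A : Mat n F, (A.map σ).map σ = A := fun A => by ext i j; simp [hc.invol]
  haveI : NeZero n := ⟨hn.ne'⟩
  set D := C₀ * C₀.map σ with hDdef
  obtain ⟨t, ht⟩ := hS.2 D (by
    rintro _ ⟨s, hs', rfl⟩
    have h := congrArg (fun A : Mat n F => A.map σ) (hcomm s hs')
    simp only [Matrix.map_mul, hσσ] at h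
    calc D * (s : Mat n F) = C₀ * (C₀.map σ * (s : Mat n F)) := mul_assoc _ _ _
      _ = C₀ * ((s : Mat n F).map σ * C₀.map σ) := by rw [h]
      _ = (s : Mat n F) * D := by rw [← mul_assoc, ← hcomm s hs', mul_assoc])
  obtain ⟨Cu, hCu⟩ := hC₀
  have hDσ : C₀.map σ * C₀ = t • 1 := by
    refine Cu.isUnit.mul_right_injective ?_
    show (Cu : Mat n F) * _ = (Cu : Mat n F) * _
    rw [hCu, ← mul_assoc, ← hDdef, ht, Matrix.smul_mul, one_mul, Matrix.mul_smul, mul_one]
  have htσ : σ t = t := by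
    have h := congrArg (fun A : Mat n F => A.map σ) hDσ
    simp only [Matrix.map_mul, hσσ] at h
    rw [← hDdef, ht] at h
    simpa using (congrFun (congrFun h 0) 0).symm
  have ht0 : t ≠ 0 := by
    rintro rfl
    have hu : IsUnit D := (hCu ▸ Cu.isUnit).mul ((hCu ▸ Cu.isUnit : IsUnit C₀).map (RingHom.mapMatrix σ))
    rw [ht, zero_smul] at hu
    exact not_isUnit_zero hu
  obtain ⟨b, hb⟩ := hc.exists_norm_eq (a := t⁻¹) (by rw [map_inv₀, htσ])
  set C := b • C₀
  have hCC : C * C.map σ = 1 := by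
    have : C.map σ = σ b • C₀.map σ := by ext i j; simp [C]
    rw [this, Matrix.smul_mul, Matrix.mul_smul, smul_smul, ← hDdef, ht,
      smul_smul, hb, inv_mul_cancel₀ ht0, one_smul]
  have hCs : ∀ s ∈ S, (s : Mat n F) * C = C * (s : Mat n F).map σ := fun s hs' => by
    rw [Matrix.mul_smul, Matrix.smul_mul, hcomm s hs']
  -- the fixed vectors of `v ↦ C σ(v)` span
  let J : (Fin n → F) → (Fin n → F) := fun v => C *ᵥ (σ ∘ v)
  have hJJ : ∀ v, J (J v) = v := fun v => by
    have e : σ ∘ (C *ᵥ (σ ∘ v)) = C.map σ *ᵥ (σ ∘ σ ∘ v) := by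
      funext i; exact RingHom.map_mulVec σ C _ i
    have e2 : σ ∘ σ ∘ v = v := funext fun i => hc.invol _
    simp only [J, e, e2, Matrix.mulVec_mulVec, hCC, Matrix.one_mulVec]
  have hJadd : ∀ v w, J (v + w) = J v + J w := fun v w => by
    simp only [J]
    rw [← Matrix.mulVec_add]; congr 1; funext i; simp
  have hJsmul : ∀ (c : F) v, J (c • v) = σ c • J v := fun c v => by
    simp only [J]
    rw [← Matrix.mulVec_smul]; congr 1; funext i; simp
  set E : Set (Fin n → F) := {v | J v = v}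
  have hspan : Submodule.span F E = ⊤ := by
    refine eq_top_iff.mpr fun v _ => ?_
    obtain ⟨a, ha⟩ := hc.exists_not_fixed
    have h1 : v + J v ∈ Submodule.span F E :=
      Submodule.subset_span (show J (v + J v) = v + J v by rw [hJadd, hJJ, add_comm])
    have h2 : a • v + J (a • v) ∈ Submodule.span F E :=
      Submodule.subset_span (show J _ = _ by rw [hJadd, hJJ, add_comm])
    have h3 := Submodule.sub_mem _ h2 (Submodule.smul_mem _ (σ a) h1)
    rw [hJsmul, smul_add, add_sub_add_right_eq_sub, ← sub_smul] at h3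
    have := Submodule.smul_mem _ (a - σ a)⁻¹ h3
    rwa [smul_smul, inv_mul_cancel₀ (sub_ne_zero.mpr (Ne.symm ha)), one_smul] at this
  obtain ⟨Bs, hBE, hBspan, hBli⟩ := exists_linearIndependent F E
  haveI : Fintype Bs := (hBli.setFinite).fintype
  let b0 : Module.Basis Bs F (Fin n → F) := Module.Basis.mk hBli (by
    rw [Subtype.range_coe, hBspan, hspan])
  have hBcard : Fintype.card Bs = n := by
    have := Module.finrank_eq_card_basis b0
    rw [Module.finrank_fintype_fun_eq_card, Fintype.card_fin] at this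
    exact this.symm
  let col : Fin n → (Fin n → F) := fun i => ((Fintype.equivFinOfCardEq hBcard).symm i).1
  have hcol : LinearIndependent F col :=
    hBli.comp _ (Fintype.equivFinOfCardEq hBcard).symm.injective
  let P : Mat n F := Matrix.of fun i j => col j i
  obtain ⟨Pu, hPu⟩ : IsUnit P := by
    rw [← Matrix.linearIndependent_cols_iff_isUnit]; exact hcol
  have hCP : C * P.map σ = P := by
    ext i j
    exact congrFun (show J (col j) = col j from hBE ((Fintype.equivFinOfCardEq hBcard).symm j).2) i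
  refine ⟨RingHom.eqLocusField σ (RingHom.id F), fun htop => ?_,
    realisableOver_iff.mpr ⟨Pu⁻¹, fun s hs' i j => ?_⟩⟩
  · obtain ⟨a, ha⟩ := hc.exists_not_fixed
    have h : a ∈ RingHom.eqLocusField σ (RingHom.id F) := htop ▸ Subfield.mem_top a
    exact ha h
  · change σ _ = _
    set X := ((Pu⁻¹ * s * Pu⁻¹⁻¹ : GL (Fin n) F) : Mat n F) with hX
    suffices h : X.map σ = X from congrFun (congrFun h i) j
    have hP1 : P * X = (s : Mat n F) * P := by
      rw [hX, inv_inv, Units.val_mul, Units.val_mul, ← hPu, mul_assoc, Units.mul_inv_cancel_left]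
    refine Pu.isUnit.mul_right_injective ?_
    change (Pu : Mat n F) * _ = (Pu : Mat n F) * _
    rw [hPu]
    calc P * X.map σ = C * P.map σ * X.map σ := by rw [hCP]
      _ = C * (P * X).map σ := by rw [Matrix.map_mul, mul_assoc]
      _ = (s : Mat n F) * (C * P.map σ) := by
        rw [hP1, Matrix.map_mul, ← mul_assoc, ← hCs s hs', mul_assoc]
      _ = P * X := by rw [hCP, hP1]

/-- The forms fixed by an absolutely irreducible group that is realised over no subfield: they are
multiples of one form. -/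
theorem forms_unique (hn : 0 < n) {S : Subgroup (GL (Fin n) F)}
    (hS : ActsAbsolutelyIrreducibly (matrixSet S))
    (hno : ∀ F₀ : Subfield F, F₀ ≠ ⊤ → ¬ RealisableOver F₀ (matrixSet S))
    {σ τ : F →+* F} (hσ : ∀ a, σ (σ a) = a) (hτ : ∀ a, τ (τ a) = a)
    {f g : (Fin n → F) → (Fin n → F) → F} (hf : IsSesq σ f) (hfnd : IsNondegenerateForm f)
    (hffix : FixesForm (matrixSet S) f) (hg : IsSesq τ g) (hgnd : IsNondegenerateForm g)
    (hgfix : FixesForm (matrixSet S) g) :
    σ = τ ∧ ∃ c : F, c ≠ 0 ∧ ∀ u v, g u v = c * f u v := by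
  classical
  haveI : NeZero n := ⟨hn.ne'⟩
  obtain ⟨A, hA⟩ : ∃ A : GL (Fin n) F, (A : Mat n F) = gramMatrix f := hf.isUnit_gram hfnd
  obtain ⟨B, hB⟩ : ∃ B : GL (Fin n) F, (B : Mat n F) = gramMatrix g := hg.isUnit_gram hgnd
  have hiso : ∀ {ρ : F →+* F} {k : (Fin n → F) → (Fin n → F) → F}, IsSesq ρ k →
      FixesForm (matrixSet S) k → ∀ s ∈ S,
        (s : Mat n F)ᵀ * gramMatrix k * (s : Mat n F).map ρ = gramMatrix k := by
    intro ρ k hk hkfix s hs
    rw [(hk.isometry (c := 1)).mp fun u v => by rw [one_mul]; exact hkfix _ (mem_matrixSet hs) u v,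
      one_smul]
  set C : Mat n F := ((A⁻¹ : GL (Fin n) F) : Mat n F) * (B : Mat n F) with hC
  have hcomm : ∀ s ∈ S, (s : Mat n F).map σ * C = C * (s : Mat n F).map τ := by
    intro s hs
    refine (((Matrix.isUnit_transpose _).mpr s.isUnit).mul A.isUnit).mul_right_injective ?_
    show (s : Mat n F)ᵀ * (A : Mat n F) * _ = (s : Mat n F)ᵀ * (A : Mat n F) * _
    have h1 : (s : Mat n F)ᵀ * (A : Mat n F) * (s : Mat n F).map σ = A := hA ▸ hiso hf hffix s hs
    have h2 : (s : Mat n F)ᵀ * (B : Mat n F) * (s : Mat n F).map τ = B := hB ▸ hiso hg hgfix s hs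
    calc (s : Mat n F)ᵀ * (A : Mat n F) * ((s : Mat n F).map σ * C)
        = (s : Mat n F)ᵀ * (A : Mat n F) * (s : Mat n F).map σ * C := by simp only [mul_assoc]
      _ = (B : Mat n F) := by rw [h1, hC, Units.mul_inv_cancel_left]
      _ = (s : Mat n F)ᵀ * (B : Mat n F) * (s : Mat n F).map τ := h2.symm
      _ = _ := by rw [hC]; simp only [mul_assoc, Units.mul_inv_cancel_left]
  set ρ : F →+* F := σ.comp τ with hρ
  have hρapp : ∀ a, ρ a = σ (τ a) := fun a => rfl
  have hcomm' : ∀ s ∈ S, (s : Mat n F) * C.map σ = C.map σ * (s : Mat n F).map ρ := by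
    intro s hs
    have h := congrArg (fun X : Mat n F => X.map σ) (hcomm s hs)
    simp only [Matrix.map_mul] at h
    have e : ((s : Mat n F).map σ).map σ = (s : Mat n F) := by ext i j; exact hσ _
    rw [e] at h
    rw [h]
    rfl
  have hρinv : ∀ a, ρ (ρ a) = a := by
    intro a
    -- endomorphisms of a finite field commute
    haveI := Fintype.ofFinite F
    obtain ⟨p, hp⟩ := CharP.exists F
    haveI : Fact p.Prime := ⟨CharP.char_is_prime F p⟩
    have hcomm'' : ∀ a, σ (τ a) = τ (σ a) := by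
      intro a
      obtain ⟨u, hu⟩ := IsCyclic.exists_generator (α := Fˣ)
      by_cases h0 : a = 0
      · simp [h0]
      obtain ⟨i, hi⟩ := hu (Units.mk0 a h0)
      obtain ⟨j, hj⟩ := hu (Units.map τ.toMonoidHom u)
      obtain ⟨k, hk⟩ := hu (Units.map σ.toMonoidHom u)
      have e : ∀ (ρ' : F →+* F) (l : ℤ), Units.map ρ'.toMonoidHom (u ^ l) = (Units.map ρ'.toMonoidHom u) ^ l :=
        fun ρ' l => map_zpow _ _ _
      have h1 : Units.map σ.toMonoidHom (Units.map τ.toMonoidHom (u ^ i)) =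
          Units.map τ.toMonoidHom (Units.map σ.toMonoidHom (u ^ i)) := by
        simp only [e, ← hj, ← hk, ← _root_.zpow_mul]
        congr 1; ring
      change u ^ i = _ at hi
      rw [hi] at h1
      exact congrArg Units.val h1
    rw [hρapp, hρapp, ← hcomm'', hσ, hτ]
  by_cases hid : ρ = RingHom.id F
  · refine ⟨RingHom.ext fun a => by
      have := RingHom.congr_fun hid (τ a)
      rw [hρapp, hτ] at this
      exact this, ?_⟩
    obtain ⟨c, hc⟩ := hS.2 (C.map σ) (by
      rintro _ ⟨s, hs, rfl⟩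
      rw [hcomm' s hs, hid]
      congr 1)
    have hC' : C = σ c • 1 := by
      have h := congrArg (fun X : Mat n F => X.map σ) hc
      have e : (C.map σ).map σ = C := by ext i j; exact hσ _
      simp only [e] at h
      rw [h]
      ext i j
      by_cases hij : i = j
      · subst hij; simp
      · simp [Matrix.one_apply_ne hij]
    have hgram : gramMatrix g = σ c • gramMatrix f := by
      rw [← hA, ← hB]
      calc (B : Mat n F) = (A : Mat n F) * C := by rw [hC, Units.mul_inv_cancel_left]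
        _ = _ := by rw [hC', Matrix.mul_smul, mul_one]
    refine ⟨σ c, fun h0 => B.ne_zero (by rw [hB, hgram, h0, zero_smul]), fun u v => ?_⟩
    have hστ : τ = σ := RingHom.ext fun a => by
      have := RingHom.congr_fun hid (τ a)
      rw [hρapp, hτ] at this
      exact this.symm
    rw [hg.apply, hf.apply, hgram, hστ, Matrix.smul_mulVec, dotProduct_smul, smul_eq_mul]
  · exfalso
    obtain ⟨F₀, h0, h1⟩ := realisable_of_semilinear ⟨hρinv, hid⟩ hn hS
      (C₀ := C.map σ) (((A⁻¹).isUnit.mul B.isUnit).map (RingHom.mapMatrix σ)) hcomm'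
    exact hno F₀ h0 h1

end CfsgLib.Classical.AschForm
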