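import Cfsg.Agent.Lib.Classical.AschForm.TensorPower
import Cfsg.Agent.Lib.Classical.AschForm.Subfield
import Cfsg.Agent.Lib.Classical.AschGen.Linear

/-!
# Aschbacher's theorem relative to a form
-/

set_option autoImplicit false
set_option linter.unusedSectionVars false

namespace CfsgLib.Classical.AschForm

open Matrix Cfsg Cfsg.Geo CfsgLib.Classical.AschPrime CfsgLib.Classical.AschGen
open scoped MatrixGroups

variable {F : Type*} [Field F] [Fintype F] {n : ℕ} {σ : F →+* F} {ε : F}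
  {f : (Fin n → F) → (Fin n → F) → F}

theorem similitude_of_mem_sup (hf : Herm σ ε f) {M : Subgroup (GL (Fin n) F)}
    (hM : FixesForm (matrixSet M) f) {x : GL (Fin n) F} (hx : x ∈ M ⊔ scalars (Fin n) F) :
    ∃ c : F, c ≠ 0 ∧ ∀ u v, f ((x : Mat n F) *ᵥ u) ((x : Mat n F) *ᵥ v) = c * f u v := by
  obtain ⟨a, ha, s, hs, rfl⟩ := Subgroup.mem_sup_of_normal_right.mp hx
  obtain ⟨d, hd⟩ := (mem_scalars_iff s).mp hs
  refine ⟨(d : F) * σ d, mul_ne_zero d.ne_zero ((map_ne_zero σ).mpr d.ne_zero), fun u v => ?_⟩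
  rw [Units.val_mul, ← Matrix.mulVec_mulVec, ← Matrix.mulVec_mulVec, hM _ (mem_matrixSet ha), hd,
    Matrix.smul_mulVec, Matrix.smul_mulVec, Matrix.one_mulVec, Matrix.one_mulVec, hf.sesq.smul_left,
    hf.sesq.smul_right, mul_assoc]

/-- Aschbacher's theorem for a group of isometries of a symmetric, alternating or hermitian form. -/
theorem outcome (hn : 3 ≤ n) (hf : Herm σ ε f) {H : Subgroup (GL (Fin n) F)}
    (hH : FixesForm (matrixSet H) f) : FormOutcome σ f H := by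
  classical
  have hn0 : 0 < n := by omega
  by_cases hirr : ActsIrreducibly (matrixSet H)
  swap
  · exact reducible_cases hf hH hirr
  by_cases hall : AllFull H
  swap
  · simp only [AllFull, not_forall] at hall
    obtain ⟨N, hN, hnorm, hN0, hfull⟩ := hall
    exact not_full_form_cases hf hn0 hH hirr hN hnorm hN0 hfull
  have hH0 : ¬ H ≤ scalars (Fin n) F := by
    intro hle
    let v : Fin n → F := Pi.single ⟨0, hn0⟩ 1
    rcases irr_iff.mp hirr (F ∙ v) (by
      rintro _ ⟨x, hx, rfl⟩ w hw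
      obtain ⟨c, hc⟩ := (mem_scalars_iff x).mp (hle hx)
      show (x : Mat n F) *ᵥ w ∈ _
      rw [hc, Matrix.smul_mulVec, Matrix.one_mulVec]
      exact Submodule.smul_mem _ _ hw) with h | h
    · have := congrFun (Submodule.span_singleton_eq_bot.mp h) ⟨0, hn0⟩
      simp [v] at this
    · have hmem : (Pi.single ⟨1, by omega⟩ 1 : Fin n → F) ∈ F ∙ v := h ▸ Submodule.mem_top
      obtain ⟨c, hc⟩ := Submodule.mem_span_singleton.mp hmem
      have := congrFun hc ⟨1, by omega⟩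
      simp [v] at this
  have hex : ∃ d, ∃ L ≤ H, (∀ h ∈ H, ∀ x ∈ L, h * x * h⁻¹ ∈ L) ∧
      ¬ L ≤ scalars (Fin n) F ∧ Nat.card L = d :=
    ⟨_, H, le_rfl, fun h hh x hx => H.mul_mem (H.mul_mem hh hx) (H.inv_mem hh), hH0, rfl⟩
  obtain ⟨M, hM, hMn, hM0, hMd⟩ := Nat.find_spec hex
  have hmin : ∀ L ≤ M, (∀ h ∈ H, ∀ x ∈ L, h * x * h⁻¹ ∈ L) → ¬ L ≤ scalars (Fin n) F → L = M :=
    fun L h1 h2 h3 => Subgroup.eq_of_le_of_card_ge h1
      (hMd ▸ Nat.find_min' hex ⟨L, h1.trans hM, h2, h3, rfl⟩)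
  have hMf : FixesForm (matrixSet M) f := fun s hs => hH s (matrixSet_mono hM hs)
  by_cases hMM : ⁅M, M⁆ ≤ scalars (Fin n) F
  · obtain ⟨r, R, hR, hRle, hnorm, hab⟩ := exists_symType_data (by omega) hall hM hMn hM0 hmin hMM
    obtain ⟨m, hm, hnm⟩ := hR.exists_dim (by omega)
    refine .inr (.inr (.inr (.inr (.inr (.inr (.inr (.inr (.inl ⟨r, m, R, hm, hnm, hR,
      hR.symplecticType (by omega) hnorm hab, fun x hx => similitude_of_mem_sup hf hMf (hRle hx), hab,
      fun g hg => ?_⟩))))))))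
    refine Subgroup.mem_normalizer_iff.mpr fun x => ⟨fun hx => hnorm g hg x hx, fun hx => ?_⟩
    simpa [mul_assoc] using hnorm g⁻¹ (H.inv_mem hg) _ hx
  have hperf : ⁅M, M⁆ = M :=
    hmin _ (Subgroup.commutator_le_self M) (fun h hh => conj_commutator_mem (hMn h hh)) hMM
  rcases tensor_power_data hn0 hall hM hMn hM0 hmin hperf with
    hsimple | ⟨m, t, e, P, hm, ht, hle, N, φ₀, g, hNM, hNperf, hN0, hinj, hrange, hg, hφ⟩
  · have habs := full_absIrred hn0 (hall M hM hMn hM0)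
    by_cases hsub : ∃ F₀ : Subfield F, F₀ ≠ ⊤ ∧ RealisableOver F₀ (matrixSet M)
    · obtain ⟨F₀, hF₀, hreal⟩ := hsub
      obtain ⟨B, hB⟩ := realisableOver_iff.mp hreal
      obtain ⟨F₁, l, hle', -, hl, hcard⟩ := exists_prime_index _ hF₀
      obtain ⟨c, hc0, hc⟩ := rational_form hf hn0 habs hMf (fun s hs => (hB s hs).mono hle')
      exact .inr (.inr (.inr (.inr (.inr (.inr (.inr (.inl ⟨F₁, l, B⁻¹, c, hl,
        (Nat.card_eq_fintype_card).trans hcard, hc0, hc, hirr,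
        fun x hx => mem_subfieldSubgroup hn0 habs (fun s hs => (hB s hs).mono hle') (hMn x hx)⟩)))))))
    push Not at hsub
    exact .inr (.inr (.inr (.inr (.inr (.inr (.inr (.inr (.inr ⟨M,
      residualCore_of hn0 hM hMn hM0 hperf habs hsimple hsub, hMf⟩))))))))
  · obtain ⟨ε₁, f₁, L, h1, h2, h3, h4, h5⟩ :=
      tensorPower_forms hf hn0 hm ht hH (hNM.trans hM) hNperf hN0 hinj hrange hg hφ
    exact .inr (.inr (.inr (.inr (.inr (.inr (.inl
      ⟨m, t, e, P, ε₁, f₁, L, hm, ht, h1, h2, h3, h4, h5, hle⟩))))))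

end CfsgLib.Classical.AschForm
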