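import Cfsg.Agent.Lib.Classical.AschGen.SymTypeProps
import Cfsg.Agent.Lib.Classical.AschGen.Full

/-!
# The symplectic-type groups of the geometric class

An absolutely irreducible group of symplectic type whose centre is as large as its exponent spans the
matrix algebra, has central commutators, and so has the expected order and degree.
-/

set_option autoImplicit false
set_option linter.unusedSectionVars false

namespace CfsgLib.Classical.AschForm

open Matrix Cfsg Cfsg.Geo CfsgLib.Classical.AschPrime CfsgLib.Classical.AschGen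
open scoped MatrixGroups commutatorElement

variable {F : Type*} [Field F] {n : ℕ}

/-- Burnside's theorem for absolutely irreducible matrix groups. -/
theorem algOf_eq_top_of_absIrr (hn : 0 < n) {R : Subgroup (GL (Fin n) F)}
    (hR : ActsAbsolutelyIrreducibly (matrixSet R)) : algOf R = ⊤ := by
  classical
  haveI : NeZero n := ⟨hn.ne'⟩
  let ψ : Mat n F ≃ₐ[F] Module.End F (Fin n → F) := Matrix.toLinAlgEquiv'
  set S := (algOf R).map ψ.toAlgHom with hS
  have hmem : ∀ x ∈ R, ψ (x : Mat n F) ∈ S := fun x hx =>
    Subalgebra.mem_map.mpr ⟨(x : Mat n F), Algebra.subset_adjoin (mem_matrixSet hx), rfl⟩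
  haveI : IsSimpleModule S (Fin n → F) := by
    rw [isSimpleModule_iff]
    refine { exists_pair_ne := ⟨⊥, ⊤, bot_ne_top⟩, eq_bot_or_eq_top := fun W => ?_ }
    let W' : Submodule F (Fin n → F) :=
      { carrier := W
        add_mem' := fun ha hb => W.add_mem ha hb
        zero_mem' := W.zero_mem
        smul_mem' := fun c v hv => by
          have : (algebraMap F S c) • v = c • v := rfl
          exact this ▸ W.smul_mem _ hv }
    rcases irr_iff.mp hR.1 W' (by
      rintro _ ⟨x, hx, rfl⟩ v hv
      exact W.smul_mem (⟨_, hmem x hx⟩ : S) (show v ∈ W from hv)) with h | h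
    · exact .inl (SetLike.ext fun v => (SetLike.ext_iff.mp h v : _))
    · exact .inr (SetLike.ext fun v => (SetLike.ext_iff.mp h v : _))
  have hend : ∀ f : Module.End S (Fin n → F), ∃ c : F, ∀ v, f v = c • v := by
    intro f
    let f' : Module.End F (Fin n → F) :=
      { toFun := f
        map_add' := f.map_add
        map_smul' := fun c v => f.map_smul (algebraMap F S c) v }
    obtain ⟨c, hc⟩ := hR.2 (ψ.symm f') (by
      rintro _ ⟨x, hx, rfl⟩
      refine ψ.injective ?_
      rw [map_mul, map_mul, AlgEquiv.apply_symm_apply]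
      exact LinearMap.ext fun v => f.map_smul (⟨_, hmem x hx⟩ : S) v)
    refine ⟨c, fun v => ?_⟩
    have h : ψ (ψ.symm f') v = ψ (c • 1) v := by rw [hc]
    rw [AlgEquiv.apply_symm_apply, map_smul, map_one] at h
    exact h
  rw [eq_top_iff]
  rintro M -
  set L := ψ M with hL
  let L' : Module.End (Module.End S (Fin n → F)) (Fin n → F) :=
    { toFun := L
      map_add' := L.map_add
      map_smul' := fun f v => by
        obtain ⟨c, hc⟩ := hend f
        show L (f v) = f (L v)
        rw [hc, hc, map_smul] }
  obtain ⟨s, hs⟩ := jacobson_density (R := S) L'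
    (Finset.univ.image fun i : Fin n => (Pi.single i 1 : Fin n → F))
  obtain ⟨A, hA, hAs⟩ := Subalgebra.mem_map.mp s.2
  suffices A = M from this ▸ hA
  refine ψ.injective (LinearMap.pi_ext' fun i => LinearMap.ext_ring ?_)
  have := hs (Pi.single i 1) (Finset.mem_image_of_mem _ (Finset.mem_univ _))
  simp only [LinearMap.comp_apply, LinearMap.coe_single]
  rw [show ψ A = (s : Module.End F (Fin n → F)) from hAs]
  exact this.symm

set_option maxHeartbeats 800000 in
/-- A group of symplectic type of the geometric class has central commutators and is full. -/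
theorem symType_of_data [Fintype F] (hn : 2 ≤ n) {r : ℕ} {R : Subgroup (GL (Fin n) F)}
    (hST : IsSymplecticTypeGroup r R) (habs : ActsAbsolutelyIrreducibly (matrixSet R))
    (hz : Nat.card (Subgroup.center R) = r * Nat.gcd 2 r)
    (hdvd : Nat.card (Subgroup.center R) ∣ Nat.card F - 1) : SymType r R := by
  classical
  have hn0 : 0 < n := by omega
  haveI : NeZero n := ⟨hn0.ne'⟩
  haveI := Fact.mk hST.prime
  set ε := r * Nat.gcd 2 r with hε
  have hexp : ∀ x : R, x ^ ε = 1 := fun x => by
    have := Monoid.pow_exponent_eq_one x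
    rwa [hST.exponent_eq] at this
  have hcen : ∀ x : R, x ∈ Subgroup.center R → x.1 ∈ scalars (Fin n) F := fun x hx => by
    obtain ⟨c, hc⟩ := habs.2 (x.1 : Mat n F) (by
      rintro _ ⟨y, hy, rfl⟩
      exact congrArg (fun z : R => ((z : GL (Fin n) F) : Mat n F))
        (Subgroup.mem_center_iff.mp hx ⟨y, hy⟩).symm)
    exact mem_scalars_of_eq hn0 hc
  -- characteristic abelian subgroups are central
  have hchar : ∀ A : Subgroup R, A.Characteristic → (∀ a ∈ A, ∀ b ∈ A, a * b = b * a) →
      A ≤ Subgroup.center R := by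
    intro A hA hcom
    set B := A ⊔ Subgroup.center R with hB
    haveI hBc : B.Characteristic := by
      rw [Subgroup.characteristic_iff_map_eq]
      intro φ
      rw [hB, Subgroup.map_sup, Subgroup.characteristic_iff_map_eq.mp hA φ,
        Subgroup.characteristic_iff_map_eq.mp Subgroup.centerCharacteristic φ]
    have hmem : ∀ x : R, x ∈ B → ∃ a ∈ A, ∃ z ∈ Subgroup.center R, a * z = x := fun x hx =>
      Subgroup.mem_sup_of_normal_right.mp hx
    have hBcomm : IsMulCommutative B := ⟨⟨fun a b => Subtype.ext (by
      obtain ⟨a', ha, z, hz', e⟩ := hmem _ a.2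
      obtain ⟨b', hb, w, hw, e'⟩ := hmem _ b.2
      rw [Subgroup.coe_mul, Subgroup.coe_mul, ← e, ← e']
      have h1 := Subgroup.mem_center_iff.mp hz'
      have h2 := Subgroup.mem_center_iff.mp hw
      calc a' * z * (b' * w) = a' * (z * b') * w := by group
        _ = (a' * b') * (z * w) := by rw [← h1]; group
        _ = (b' * a') * (w * z) := by rw [hcom a' ha b' hb, h1 w, ← h1 w]
        _ = b' * (a' * w) * z := by group
        _ = b' * w * (a' * z) := by rw [h2 a']; group)⟩⟩
    haveI := hST.cyclic_of_characteristic B hBc hBcomm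
    obtain ⟨g, hg⟩ := IsCyclic.exists_ofOrder_eq_natCard (α := B)
    have hBle : Nat.card B ≤ ε := by
      rw [← hg]
      refine Nat.le_of_dvd ?_ (orderOf_dvd_of_pow_eq_one (Subtype.ext (by
        rw [Subgroup.coe_pow, hexp, Subgroup.coe_one])))
      exact Nat.mul_pos hST.prime.pos (Nat.gcd_pos_of_pos_left _ two_pos)
    have : Subgroup.center R = B :=
      Subgroup.eq_of_le_of_card_ge le_sup_right (hBle.trans hz.ge)
    exact le_sup_left.trans this.ge
  -- the commutator subgroup is central
  have hclass : commutator R ≤ Subgroup.center R := by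
    by_contra hne
    haveI : Group.IsNilpotent R := hST.pGroup.isNilpotent
    set π := QuotientGroup.mk' (Subgroup.center R)
    set N := (commutator R).map π with hN
    haveI : N.Normal := Subgroup.Normal.map inferInstance π (QuotientGroup.mk'_surjective _)
    have hN0 : N ≠ ⊥ := fun h => hne (fun x hx => (QuotientGroup.eq_one_iff x).mp
      ((Subgroup.eq_bot_iff_forall _).mp h _ (Subgroup.mem_map_of_mem π hx)))
    obtain ⟨y, hyN, hyc, hy1⟩ : ∃ y, y ∈ N ∧ y ∈ Subgroup.center (R ⧸ Subgroup.center R) ∧ y ≠ 1 := by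
      have hp : IsPGroup r (R ⧸ Subgroup.center R) := hST.pGroup.to_quotient _
      haveI : Nontrivial N := (Subgroup.nontrivial_iff_ne_bot N).mpr hN0
      have h1 : IsPGroup r (ConjAct (R ⧸ Subgroup.center R)) := hp
      have hdvdN : r ∣ Nat.card N := by
        obtain ⟨d, hd⟩ := IsPGroup.iff_card.mp (hp.to_subgroup N)
        rcases d with - | d
        · rw [pow_zero] at hd
          exact absurd hd (Finite.one_lt_card).ne'
        · exact hd ▸ dvd_pow_self r d.succ_ne_zero
      obtain ⟨b, hb, hb1⟩ := h1.exists_fixed_point_of_prime_dvd_card_of_fixed_point N hdvdN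
        (a := 1) (fun g => Subtype.ext (by simp [ConjAct.smul_def]))
      refine ⟨b, b.2, Subgroup.mem_center_iff.mpr fun g => ?_, fun h => hb1 (Subtype.ext h.symm)⟩
      have := congrArg Subtype.val (hb (ConjAct.toConjAct g))
      change g * (b : R ⧸ Subgroup.center R) * g⁻¹ = b at this
      exact mul_inv_eq_iff_eq_mul.mp this
    obtain ⟨x, hx, rfl⟩ := hyN
    set A := commutator R ⊓ Subgroup.upperCentralSeries R 2 with hA
    haveI : A.Characteristic := by
      rw [Subgroup.characteristic_iff_map_eq]
      intro φ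
      rw [hA, Subgroup.map_inf _ _ _ φ.injective,
        Subgroup.characteristic_iff_map_eq.mp inferInstance φ,
        Subgroup.characteristic_iff_map_eq.mp inferInstance φ]
    have hZ2 : ∀ a, a ∈ Subgroup.upperCentralSeries R 2 ↔
        ∀ g : R, ⁅a, g⁆ ∈ Subgroup.center R := fun a => by
      rw [show (2 : ℕ) = 1 + 1 from rfl, Subgroup.mem_upperCentralSeries_succ_iff]
      simp [Subgroup.upperCentralSeries_one, commutatorElement_def]
    have hAcomm : ∀ a ∈ A, ∀ b ∈ A, a * b = b * a := by
      intro a ha b hb
      let φ : R →* Subgroup.center R := MonoidHom.mk' (fun g => ⟨⁅a, g⁆, (hZ2 a).mp ha.2 g⟩)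
        fun g h => Subtype.ext (by
          show ⁅a, g * h⁆ = ⁅a, g⁆ * ⁅a, h⁆
          have hc := Subgroup.mem_center_iff.mp ((hZ2 a).mp ha.2 h) g
          calc ⁅a, g * h⁆ = ⁅a, g⁆ * (g * ⁅a, h⁆ * g⁻¹) := by
                simp only [commutatorElement_def]; group
            _ = _ := by rw [hc, mul_inv_cancel_right])
      letI : CommGroup (Subgroup.center R) :=
        { (inferInstance : Group (Subgroup.center R)) with
          mul_comm := fun u v => Subtype.ext (Subgroup.mem_center_iff.mp v.2 u) }
      have : b ∈ φ.ker := Abelianization.commutator_subset_ker φ hb.1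
      have h1 : ⁅a, b⁆ = 1 := congrArg Subtype.val this
      exact commutatorElement_eq_one_iff_mul_comm.mp h1
    refine hy1 ((QuotientGroup.eq_one_iff x).mpr (hchar A ‹_› hAcomm ⟨hx, ?_⟩))
    show x ∈ Subgroup.upperCentralSeries R 2
    rw [hZ2]
    intro g
    rw [← QuotientGroup.eq_one_iff]
    show π ⁅x, g⁆ = 1
    rw [map_commutatorElement, commutatorElement_eq_one_iff_mul_comm]
    exact (Subgroup.mem_center_iff.mp hyc (π g)).symm
  refine
    { prime := hST.prime
      comm := fun a ha b hb => ?_
      pow_eq := fun x hx => congrArg Subtype.val (hexp ⟨x, hx⟩)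
      full := algOf_eq_top_of_absIrr hn0 habs
      dvd := (dvd_mul_right r (Nat.gcd 2 r)).trans ((dvd_of_eq hz.symm).trans hdvd)
      mem_of_pow := fun x hx hxp => ?_ }
  · exact hcen (⁅(⟨a, ha⟩ : R), ⟨b, hb⟩⁆)
      (hclass (Subgroup.commutator_mem_commutator (Subgroup.mem_top _) (Subgroup.mem_top _)))
  · let s : Fˣ →* GL (Fin n) F := Units.map (Matrix.scalar (Fin n) : F →+* Mat n F).toMonoidHom
    have hs : Function.Injective s := fun a b h => Units.ext (by
      have := congrArg (fun z : GL (Fin n) F => (z : Mat n F) 0 0) h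
      simpa [s] using this)
    have hle : (Subgroup.center R).map R.subtype ≤ (powMonoidHom ε : Fˣ →* Fˣ).ker.map s := by
      rintro _ ⟨y, hy, rfl⟩
      obtain ⟨c, hc⟩ := hcen y hy
      refine ⟨c, hs ?_, hc⟩
      rw [powMonoidHom_apply, map_pow, show s c = y.1 from hc, map_one]
      exact congrArg Subtype.val (hexp y)
    have heq := Subgroup.eq_of_le_of_card_ge hle (by
      rw [Subgroup.card_map_of_injective R.subtype_injective, Subgroup.card_map_of_injective hs, hz,
        IsCyclic.card_powMonoidHom_ker]
      exact Nat.le_of_dvd (Nat.mul_pos hST.prime.pos (Nat.gcd_pos_of_pos_left _ two_pos))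
        (Nat.gcd_dvd_right _ _))
    obtain ⟨c, hc⟩ := hx
    have hmemx : x ∈ (powMonoidHom ε : Fˣ →* Fˣ).ker.map s := by
      refine ⟨c, hs ?_, hc⟩
      rw [powMonoidHom_apply, map_pow, show s c = x from hc, map_one]
      exact hxp
    rw [← heq] at hmemx
    obtain ⟨y, -, rfl⟩ := hmemx
    exact y.2

end CfsgLib.Classical.AschForm
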