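import Cfsg.Agent.Lib.Classical.AschForm.Field
import Cfsg.Agent.Lib.Classical.AschGen.Full

/-!
# Adjoint-closed algebras normalised by an irreducible group of isometries
-/

set_option autoImplicit false
set_option linter.unusedSectionVars false

namespace CfsgLib.Classical.AschForm

open Matrix Cfsg Cfsg.Geo CfsgLib.Classical.AschPrime CfsgLib.Classical.AschGen
open scoped MatrixGroups Kronecker

variable {F : Type*} [Field F] [Finite F] {n : ℕ} {σ : F →+* F} {ε : F}
  {f : (Fin n → F) → (Fin n → F) → F}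

/-- The Gram matrix in the basis given by the columns of `P`. -/
def gramAt (σ : F →+* F) (f : (Fin n → F) → (Fin n → F) → F) (P : GL (Fin n) F) : Mat n F :=
  (P : Mat n F)ᵀ * gramMatrix f * (P : Mat n F).map σ

theorem Herm.gramAt_transpose (hf : Herm σ ε f) (P : GL (Fin n) F) :
    (gramAt σ f P)ᵀ = ε • (gramAt σ f P).map σ := by
  have hPσ : ((P : Mat n F).map σ).map σ = (P : Mat n F) := by ext i j; exact hf.invol _
  simp only [gramAt, Matrix.transpose_mul, Matrix.transpose_transpose, hf.gram_transpose,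
    Matrix.map_mul, ← Matrix.transpose_map, hPσ, Matrix.mul_smul, Matrix.smul_mul, mul_assoc]

theorem Herm.isUnit_gramAt (hf : Herm σ ε f) (P : GL (Fin n) F) :
    IsUnit (gramAt σ f P) :=
  (((Matrix.isUnit_transpose _).mpr P.isUnit).mul (hf.sesq.isUnit_gram hf.nondeg)).mul
    (P.isUnit.map (RingHom.mapMatrix σ))

theorem Herm.apply_at (hf : Herm σ ε f) (P : GL (Fin n) F) (x y : Fin n → F) :
    f ((P : Mat n F) *ᵥ x) ((P : Mat n F) *ᵥ y) = x ⬝ᵥ (gramAt σ f P *ᵥ (σ ∘ y)) := by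
  have hmap : σ ∘ ((P : Mat n F) *ᵥ y) = (P : Mat n F).map σ *ᵥ (σ ∘ y) := by
    funext i; exact RingHom.map_mulVec σ _ y i
  rw [hf.sesq.apply, hmap, gramAt, Matrix.mul_assoc, ← Matrix.mulVec_mulVec, ← Matrix.mulVec_mulVec,
    Matrix.dotProduct_mulVec x (P : Mat n F)ᵀ, Matrix.vecMul_transpose]

/-- Adjoints in the basis given by `P`. -/
theorem Herm.transpose_at (hf : Herm σ ε f) (P : GL (Fin n) F) (X Y : Mat n F)
    (h : adj σ f ((P : Mat n F) * X * ((P⁻¹ : GL (Fin n) F) : Mat n F)) =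
      (P : Mat n F) * Y * ((P⁻¹ : GL (Fin n) F) : Mat n F)) :
    Xᵀ * gramAt σ f P = gramAt σ f P * Y.map σ := by
  set X' := (P : Mat n F) * X * ((P⁻¹ : GL (Fin n) F) : Mat n F)
  set Y' := (P : Mat n F) * Y * ((P⁻¹ : GL (Fin n) F) : Mat n F)
  have e : X'ᵀ * gramMatrix f = gramMatrix f * Y'.map σ := by
    rw [← h]
    have hG := (Matrix.isUnit_iff_isUnit_det _).mp (hf.sesq.isUnit_gram hf.nondeg)
    have : (adj σ f X').map σ = (gramMatrix f)⁻¹ * X'ᵀ * gramMatrix f := by
      ext i j; exact hf.invol _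
    rw [this, mul_assoc, Matrix.mul_nonsing_inv_cancel_left _ _ hG]
  have e1 : X' * (P : Mat n F) = (P : Mat n F) * X := by
    simp only [X', mul_assoc, Units.inv_mul, mul_one]
  have e2 : Y' * (P : Mat n F) = (P : Mat n F) * Y := by
    simp only [Y', mul_assoc, Units.inv_mul, mul_one]
  clear_value X' Y'
  calc Xᵀ * gramAt σ f P = ((P : Mat n F) * X)ᵀ * gramMatrix f * (P : Mat n F).map σ := by
        rw [gramAt, Matrix.transpose_mul]; simp only [mul_assoc]
    _ = (P : Mat n F)ᵀ * (X'ᵀ * gramMatrix f) * (P : Mat n F).map σ := by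
        rw [← e1, Matrix.transpose_mul]; simp only [mul_assoc]
    _ = (P : Mat n F)ᵀ * gramMatrix f * (Y' * (P : Mat n F)).map σ := by
        rw [e, Matrix.map_mul]; simp only [mul_assoc]
    _ = gramAt σ f P * Y.map σ := by
        rw [e2, Matrix.map_mul, gramAt]; simp only [mul_assoc]

theorem stdHom_mul {m k : ℕ} (e : Fin n ≃ Fin m × Fin k) (X Y : Mat m F) :
    stdHom e X * stdHom e Y = stdHom e (X * Y) := by
  rw [stdHom, stdHom, stdHom, Matrix.reindex_apply, Matrix.reindex_apply, Matrix.reindex_apply,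
    Matrix.submatrix_mul_equiv, ← Matrix.mul_kronecker_mul, mul_one]

theorem stdHom_one {m k : ℕ} (e : Fin n ≃ Fin m × Fin k) : stdHom e (1 : Mat m F) = 1 := by
  rw [stdHom, Matrix.one_kronecker_one, Matrix.reindex_apply, Matrix.submatrix_one_equiv]

theorem stdHom_transpose {m k : ℕ} (e : Fin n ≃ Fin m × Fin k) (X : Mat m F) :
    (stdHom e X)ᵀ = stdHom e Xᵀ := by
  ext i j
  rw [Matrix.transpose_apply, stdHom_apply, stdHom_apply, Matrix.transpose_apply]
  congr 1
  simp [Matrix.one_apply, eq_comm]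

theorem stdHom_map {m k : ℕ} (e : Fin n ≃ Fin m × Fin k) (X : Mat m F) (τ : F →+* F) :
    (stdHom e X).map τ = stdHom e (X.map τ) := by
  ext i j
  rw [Matrix.map_apply, stdHom_apply, stdHom_apply, Matrix.map_apply, map_mul]
  congr 1
  simp [Matrix.one_apply, apply_ite τ]

/-- An adjoint-closed full matrix subalgebra splits the form as a tensor product. -/
theorem tensor_forms (hf : Herm σ ε f) (hn : 0 < n) {m : ℕ} (hm : 0 < m)
    {Φ : Mat m F →ₐ[F] Mat n F} {k : ℕ} {e : Fin n ≃ Fin m × Fin k} {P : GL (Fin n) F}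
    (hΦ : ∀ X, Φ X = (P : Mat n F) * stdHom e X * ((P⁻¹ : GL (Fin n) F) : Mat n F))
    (hc : AdjClosed σ f Φ.range) :
    ∃ (ε₁ ε₂ : F) (f₁ : (Fin m → F) → (Fin m → F) → F) (f₂ : (Fin k → F) → (Fin k → F) → F),
      Herm σ ε₁ f₁ ∧ Herm σ ε₂ f₂ ∧ IsTensorFormStructure σ f f₁ f₂ e P := by
  classical
  haveI : NeZero m := ⟨hm.ne'⟩
  have hk : 0 < k := k_pos (e := e) hn
  haveI : NeZero k := ⟨hk.ne'⟩
  set G := gramAt σ f P with hG
  obtain ⟨Gu, hGu⟩ : ∃ Gu : (Mat n F)ˣ, (Gu : Mat n F) = G := hf.isUnit_gramAt P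
  have hex : ∀ Z : Mat m F, ∃ W : Mat m F, stdHom e Z * G = G * stdHom e W := by
    intro Z
    obtain ⟨Y, hY⟩ : adj σ f (Φ Zᵀ) ∈ Φ.range := hc _ ⟨_, rfl⟩
    refine ⟨Y.map σ, ?_⟩
    have h := hf.transpose_at P (stdHom e Zᵀ) (stdHom e Y) (by rw [← hΦ, ← hΦ]; exact hY.symm)
    rwa [stdHom_transpose, Matrix.transpose_transpose, stdHom_map] at h
  choose ψ hψ using hex
  have hinj : ∀ W W' : Mat m F, G * stdHom e W = G * stdHom e W' → W = W' := fun W W' h => by
    rw [← hGu] at h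
    exact stdHom_injective hk (Gu.isUnit.mul_right_injective h)
  have hsmul : ∀ (c : F) (X : Mat m F), stdHom e (c • X) = c • stdHom e X := fun c X => by
    ext i j; simp [stdHom_apply, mul_assoc]
  have hadd : ∀ (X Y : Mat m F), stdHom e (X + Y) = stdHom e X + stdHom e Y := fun X Y => by
    ext i j; simp [stdHom_apply, add_mul]
  let ψa : Mat m F →ₐ[F] Mat m F :=
    { toFun := ψ
      map_one' := hinj _ _ (by rw [← hψ, stdHom_one, one_mul, mul_one])
      map_mul' := fun X Y => hinj _ _ (by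
        rw [← hψ, ← stdHom_mul, ← stdHom_mul, mul_assoc, hψ, ← mul_assoc, hψ, mul_assoc])
      map_zero' := hinj _ _ (by
        have h0 : stdHom e (0 : Mat m F) = 0 := by ext i j; simp [stdHom_apply]
        rw [← hψ, h0, zero_mul, mul_zero])
      map_add' := fun X Y => hinj _ _ (by
        rw [← hψ, hadd, hadd, add_mul, mul_add, hψ, hψ])
      commutes' := fun c => hinj _ _ (by
        rw [← hψ, Algebra.algebraMap_eq_smul_one, hsmul, stdHom_one, Matrix.smul_mul, one_mul,
          Matrix.mul_smul, mul_one]) }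
  obtain ⟨a, ha⟩ := exists_inner hm ψa
  have hcomm : ∀ X, (G * stdHom e (a : Mat m F)) * stdHom e X =
      stdHom e X * (G * stdHom e (a : Mat m F)) := fun X => by
    rw [← mul_assoc (stdHom e X), hψ, show ψ X = _ from ha X, mul_assoc, mul_assoc, stdHom_mul,
      stdHom_mul]
    congr 2
    rw [mul_assoc, Units.inv_mul, mul_one]
  obtain ⟨b, hb⟩ := exists_right (e := e) hcomm
  set G₁ : Mat m F := ((a⁻¹ : GL (Fin m) F) : Mat m F) with hG₁
  have hsplit : G = Matrix.reindex e.symm e.symm (G₁ ⊗ₖ b) := by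
    have e1 : G * stdHom e (a : Mat m F) = Matrix.reindex e.symm e.symm ((1 : Mat m F) ⊗ₖ b) :=
      Matrix.ext hb
    calc G = G * stdHom e (a : Mat m F) * stdHom e G₁ := by
          rw [mul_assoc, stdHom_mul, hG₁, Units.mul_inv, stdHom_one, mul_one]
      _ = _ := by
          rw [e1, stdHom, Matrix.reindex_apply, Matrix.reindex_apply, Matrix.reindex_apply,
            Matrix.submatrix_mul_equiv, ← Matrix.mul_kronecker_mul, mul_one, one_mul]
  have hentry : ∀ p q, G (e.symm p) (e.symm q) = G₁ p.1 q.1 * b p.2 q.2 := fun p q => by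
    rw [hsplit]
    simp [Matrix.reindex_apply, Matrix.kroneckerMap_apply]
  have hbu : IsUnit b := by
    rw [Matrix.isUnit_iff_isUnit_det, isUnit_iff_ne_zero]
    intro h0
    have hu : IsUnit G := hGu ▸ Gu.isUnit
    rw [hsplit, Matrix.isUnit_iff_isUnit_det, Matrix.det_reindex_self, Matrix.det_kronecker, h0,
      Fintype.card_fin, Fintype.card_fin, zero_pow hm.ne', mul_zero] at hu
    exact not_isUnit_zero hu
  have hG₁u : IsUnit G₁ := (a⁻¹).isUnit
  have hsym : ∀ p q : Fin m × Fin k,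
      G₁ q.1 p.1 * b q.2 p.2 = ε * (σ (G₁ p.1 q.1) * σ (b p.2 q.2)) := fun p q => by
    rw [← hentry, ← map_mul, ← hentry]
    exact congrFun (congrFun (hf.gramAt_transpose P) (e.symm p)) (e.symm q)
  obtain ⟨c₀, d₀, hcd⟩ : ∃ c d, b d c ≠ 0 := by
    by_contra hall
    push Not at hall
    exact hbu.ne_zero (Matrix.ext fun d c => hall c d)
  obtain ⟨a₀, b₀, hab⟩ : ∃ x y, G₁ y x ≠ 0 := by
    by_contra hall
    push Not at hall
    exact hG₁u.ne_zero (Matrix.ext fun y x => hall x y)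
  refine ⟨ε * σ (b c₀ d₀) / b d₀ c₀, ε * σ (G₁ a₀ b₀) / G₁ b₀ a₀, AschGen.mForm σ G₁,
    AschGen.mForm σ b, Herm.mForm hf.invol hG₁u ?_, Herm.mForm hf.invol hbu ?_,
    1, one_ne_zero, fun x y => ?_⟩
  · ext i j
    rw [Matrix.transpose_apply, Matrix.smul_apply, Matrix.map_apply, smul_eq_mul, div_mul_eq_mul_div,
      eq_div_iff hcd]
    linear_combination hsym (i, c₀) (j, d₀)
  · ext i j
    rw [Matrix.transpose_apply, Matrix.smul_apply, Matrix.map_apply, smul_eq_mul, div_mul_eq_mul_div,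
      eq_div_iff hab]
    linear_combination hsym (a₀, i) (b₀, j)
  · rw [one_mul, hf.apply_at, mForm_gram, mForm_gram, formOfGram]
    simp only [dotProduct, Matrix.mulVec, Function.comp_apply, Finset.mul_sum]
    rw [← e.symm.sum_comp]
    refine Finset.sum_congr rfl fun p _ => ?_
    rw [← e.symm.sum_comp]
    refine Finset.sum_congr rfl fun q _ => ?_
    simp only [e.apply_symm_apply, Matrix.kroneckerMap_apply, ← hG, hentry]
    ring

/-- An adjoint-closed algebra normalised by an irreducible group of isometries, neither scalar nor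
everything, gives one of the first classes. -/
theorem algebra_cases [Fintype F] (hf : Herm σ ε f) (hn : 0 < n) {H : Subgroup (GL (Fin n) F)}
    (hH : FixesForm (matrixSet H) f) (hirr : ActsIrreducibly (matrixSet H))
    {A : Subalgebra F (Mat n F)} (hA : NormalisedBy A H) (hAc : AdjClosed σ f A)
    (hns : ∃ a ∈ A, ∀ c : F, a ≠ c • 1) (htop : A ≠ ⊤) : FormOutcome σ f H := by
  classical
  haveI := isSemisimple hirr hA
  by_cases hidem : ∃ e ∈ centre A, e * e = e ∧ e ≠ 0 ∧ e ≠ 1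
  · obtain ⟨e, he, hee, he0, he1⟩ := hidem
    exact decomp_cases hf hH hirr hA hAc he hee he0 he1
  push Not at hidem
  by_cases hsc : ∀ z ∈ centre A, ∃ c : F, z = c • 1
  swap
  · push Not at hsc
    exact field_cases hf hn hA hAc hidem hsc
  obtain ⟨m, Φ, hm, hinj, hrange⟩ := exists_matrixHom hn fun z hz hzc =>
    hsc z (mem_centre.mpr ⟨hz, fun a ha => (hzc a ha).symm⟩)
  haveI : NeZero m := ⟨hm.ne'⟩
  obtain ⟨k, e, P, hP⟩ := exists_std Φ
  have hcard : m * k = n := by
    have := Fintype.card_congr e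
    rw [Fintype.card_prod, Fintype.card_fin, Fintype.card_fin, Fintype.card_fin] at this
    exact this.symm
  have hm1 : m ≠ 1 := by
    rintro rfl
    obtain ⟨x, hx, hxc⟩ := hns
    obtain ⟨X, hX⟩ : x ∈ Φ.range := hrange ▸ hx
    have hX1 : X = X 0 0 • (1 : Mat 1 F) := by
      ext i j
      obtain rfl : i = 0 := Subsingleton.elim _ _
      obtain rfl : j = 0 := Subsingleton.elim _ _
      simp
    refine hxc (X 0 0) ?_
    rw [← hX]
    show Φ X = _
    conv_lhs => rw [hX1, map_smul, map_one]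
  have hk1 : k ≠ 1 := by
    intro hk
    apply htop
    rw [← hrange, AlgHom.range_eq_top]
    refine (LinearMap.injective_iff_surjective_of_finrank_eq_finrank (f := Φ.toLinearMap) ?_).mp hinj
    rw [Module.finrank_matrix, Module.finrank_matrix, Fintype.card_fin, Fintype.card_fin, ← hcard,
      hk, mul_one]
  have hk0 : 0 < k := k_pos (e := e) hn
  obtain ⟨ε₁, ε₂, f₁, f₂, h1, h2, hT⟩ := tensor_forms hf hn hm hP (hrange.symm ▸ hAc)
  refine .inr (.inr (.inr (.inr (.inr (.inl ⟨m, k, e, P, ε₁, ε₂, f₁, f₂, by omega, by omega, h1, h2, hT,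
    fun h hh => mem_tensor hm hn hP fun X => ?_⟩)))))
  obtain ⟨Y, hY⟩ : conjHom h (Φ X) ∈ Φ.range :=
    hrange.symm ▸ hA h hh _ (hrange ▸ (⟨X, rfl⟩ : Φ X ∈ Φ.range))
  exact ⟨Y, hY.symm⟩

/-- A normal subgroup that does not span. -/
theorem not_full_form_cases [Fintype F] (hf : Herm σ ε f) (hn : 0 < n)
    {H N : Subgroup (GL (Fin n) F)} (hH : FixesForm (matrixSet H) f)
    (hirr : ActsIrreducibly (matrixSet H)) (hN : N ≤ H)
    (hnorm : ∀ h ∈ H, ∀ x ∈ N, h * x * h⁻¹ ∈ N) (hN0 : ¬ N ≤ scalars (Fin n) F)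
    (hfull : algOf N ≠ ⊤) : FormOutcome σ f H := by
  have hNf : FixesForm (matrixSet N) f := fun s hs => hH s (matrixSet_mono hN hs)
  refine algebra_cases hf hn hH hirr (algOf_normalised hnorm) (hf.algOf_adjClosed hNf) ?_ hfull
  by_contra hall
  push Not at hall
  refine hN0 fun x hx => ?_
  obtain ⟨c, hc⟩ := hall _ (mem_algOf hx)
  exact mem_scalars_of_eq hn hc

end CfsgLib.Classical.AschForm
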