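import Cfsg.Agent.Lib.Classical.AschForm.Tensor
import Cfsg.Agent.Lib.Classical.AschGen.SimpleProd

/-!
# Tensor powers compatible with a form
-/

set_option autoImplicit false
set_option linter.unusedSectionVars false

namespace CfsgLib.Classical.AschForm

open Matrix Cfsg Cfsg.Geo CfsgLib.Classical.AschPrime CfsgLib.Classical.AschGen
open scoped MatrixGroups

variable {F : Type*} [Field F] [Finite F] {n : ℕ} {σ : F →+* F} {ε : F}
  {f : (Fin n → F) → (Fin n → F) → F}

theorem emb_transpose {m t : ℕ} (i : Fin t) (X : Mat m F) : (emb i X)ᵀ = emb i Xᵀ := by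
  ext x y
  simp only [emb, Matrix.transpose_apply, pureT_apply]
  refine Finset.prod_congr rfl fun j _ => ?_
  by_cases hj : j = i
  · subst hj; simp
  · simp [Pi.mulSingle_eq_of_ne hj, Matrix.one_apply, eq_comm]

theorem emb_map {m t : ℕ} (i : Fin t) (X : Mat m F) (τ : F →+* F) :
    (emb i X).map τ = emb i (X.map τ) := by
  ext x y
  simp only [emb, Matrix.map_apply, pureT_apply, map_prod]
  refine Finset.prod_congr rfl fun j _ => ?_
  by_cases hj : j = i
  · subst hj; simp
  · simp [Pi.mulSingle_eq_of_ne hj, Matrix.one_apply, apply_ite τ]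

/-- The copies of the matrix algebra in the tensor power have only scalars as commutant. -/
theorem pure_commutant {m t : ℕ} (hm : 0 < m) {z : Matrix (Fin t → Fin m) (Fin t → Fin m) F}
    (hz : ∀ i X, Commute z (emb i X)) : ∃ c : F, z = c • 1 := by
  classical
  have h1 : ∀ p q, Commute z (Matrix.single p q (1 : F)) := by
    intro p q
    have e1 : Matrix.single p q (1 : F) = pureT fun i => Matrix.single (p i) (q i) (1 : F) := by
      ext x y
      simp only [pureT_apply, Matrix.single_apply]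
      by_cases hxy : p = x ∧ q = y
      · obtain ⟨rfl, rfl⟩ := hxy; simp
      · rw [if_neg hxy]
        obtain ⟨i, hi⟩ : ∃ i, ¬ (p i = x i ∧ q i = y i) := by
          by_contra hall'
          push Not at hall'
          exact hxy ⟨funext fun i => (hall' i).1, funext fun i => (hall' i).2⟩
        exact (Finset.prod_eq_zero (Finset.mem_univ i) (if_neg hi)).symm
    have e2 : ∀ b : Fin t → Mat m F, Commute z (pureT b) := by
      intro b
      suffices hs : ∀ s : Finset (Fin t), Commute z (pureT fun i => if i ∈ s then b i else 1) by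
        simpa using hs Finset.univ
      intro s
      induction s using Finset.induction_on with
      | empty =>
        simp only [Finset.notMem_empty, if_false]
        rw [show (fun _ => 1 : Fin t → Mat m F) = 1 from rfl, pureT_one]
        exact Commute.one_right z
      | insert i s his ih =>
        have e3 : (fun j => if j ∈ insert i s then b j else 1) =
            Pi.mulSingle i (b i) * fun j => if j ∈ s then b j else 1 := by
          funext j
          by_cases hj : j = i
          · subst hj; simp [his]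
          · simp [hj, Pi.mulSingle_eq_of_ne hj]
        rw [e3, pureT_mul, ← emb]
        exact (hz i (b i)).mul_right ih
    rw [e1]
    exact e2 _
  obtain ⟨c, hc⟩ := (Matrix.mem_range_scalar_of_commute_single (M := z) fun p q _ => (h1 p q).symm)
  refine ⟨c, ?_⟩
  rw [← hc, Matrix.scalar_apply, ← Matrix.smul_one_eq_diagonal]

/-- The data of a tensor power and a form give a tensor power of forms. -/
theorem tensorPower_forms (hf : Herm σ ε f) (hn : 0 < n) {m t : ℕ} (hm : 2 ≤ m) (ht : 2 ≤ t)
    {H N : Subgroup (GL (Fin n) F)} (hH : FixesForm (matrixSet H) f) (hNH : N ≤ H)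
    {e : Fin n ≃ (Fin t → Fin m)} {P : GL (Fin n) F}
    (hNperf : ⁅N, N⁆ = N) (hN0 : ¬ N ≤ scalars (Fin n) F)
    {φ₀ : Mat m F →ₐ[F] Mat n F} (hinj : Function.Injective φ₀) (hrange : φ₀.range = algOf N)
    {g : Fin t → GL (Fin n) F} (hg : ∀ i, g i ∈ H)
    (hφ : ∀ i X, conjHom (g i) (φ₀ X) =
      (P : Mat n F) * Matrix.reindex e.symm e.symm (emb i X) * ((P⁻¹ : GL (Fin n) F) : Mat n F)) :
    ∃ (ε₁ : F) (f₁ : (Fin m → F) → (Fin m → F) → F) (L : Subgroup (GL (Fin m) F)),
      Herm σ ε₁ f₁ ∧ IsTensorPowerFormStructure σ f f₁ e P ∧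
      ⁅L, L⁆ = L ∧ ¬ L ≤ scalars (Fin m) F ∧ FixesForm (matrixSet L) f₁ := by
  classical
  haveI : NeZero m := ⟨by omega⟩
  have hNf : FixesForm (matrixSet N) f := fun s hs => hH s (matrixSet_mono hNH hs)
  have hex : ∀ X : Mat m F, ∃ Y, φ₀ Y = adj σ f (φ₀ X) := fun X => by
    have := hf.algOf_adjClosed hNf (φ₀ X) (hrange ▸ ⟨X, rfl⟩)
    rw [← hrange] at this
    exact this
  choose θ hθ using hex
  let ψ : Mat m F →ₐ[F] Mat m F :=
    { toFun := fun Z => (θ Zᵀ).map σ
      map_one' := by
        have : θ 1 = 1 := hinj (by rw [hθ, map_one, hf.adj_one])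
        rw [Matrix.transpose_one, this, Matrix.map_one _ (map_zero σ) (map_one σ)]
      map_mul' := fun X Y => by
        have : θ (Yᵀ * Xᵀ) = θ Xᵀ * θ Yᵀ := hinj (by rw [hθ, map_mul, map_mul, hf.adj_mul, hθ, hθ])
        rw [Matrix.transpose_mul, this, Matrix.map_mul]
      map_zero' := by
        have : θ 0 = 0 := hinj (by rw [hθ, map_zero, hf.adj_zero])
        rw [Matrix.transpose_zero, this, Matrix.map_zero _ (map_zero σ)]
      map_add' := fun X Y => by
        have : θ (Xᵀ + Yᵀ) = θ Xᵀ + θ Yᵀ := hinj (by rw [hθ, map_add, map_add, hf.adj_add, hθ, hθ])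
        rw [Matrix.transpose_add, this, Matrix.map_add σ (map_add σ)]
      commutes' := fun c => by
        have : θ (c • (1 : Mat m F)) = σ c • (1 : Mat m F) := hinj (by
          rw [hθ, map_smul, map_one, map_smul, map_one, hf.adj_smul, hf.adj_one])
        rw [Algebra.algebraMap_eq_smul_one, Matrix.transpose_smul, Matrix.transpose_one, this]
        ext i j
        by_cases hij : i = j
        · subst hij; simp [hf.invol]
        · simp [Matrix.one_apply_ne hij] }
  obtain ⟨a, ha⟩ := exists_inner (by omega) ψ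
  have hψ : ∀ Z, (θ Zᵀ).map σ = (a : Mat m F) * Z * ((a⁻¹ : GL (Fin m) F) : Mat m F) := ha
  set G := gramAt σ f P with hG
  set T : Matrix (Fin t → Fin m) (Fin t → Fin m) F := Matrix.reindex e e G with hT
  have hcopy : ∀ i Z, emb i Z * T =
      T * emb i ((a : Mat m F) * Z * ((a⁻¹ : GL (Fin m) F) : Mat m F)) := by
    intro i Z
    have h := hf.transpose_at P (Matrix.reindex e.symm e.symm (emb i Zᵀ))
      (Matrix.reindex e.symm e.symm (emb i (θ Zᵀ))) (by
        rw [← hφ, ← hφ, hf.adj_conj (fun u v => hH _ (mem_matrixSet (hg i)) u v), hθ])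
    have h' := congrArg (Matrix.reindexAlgEquiv F F e) h
    rw [map_mul, map_mul] at h'
    have hL : Matrix.reindexAlgEquiv F F e (Matrix.reindex e.symm e.symm (emb i Zᵀ))ᵀ = emb i Z := by
      rw [Matrix.coe_reindexAlgEquiv, Matrix.transpose_reindex, emb_transpose, Matrix.transpose_transpose]
      ext x y; simp
    have hR : Matrix.reindexAlgEquiv F F e ((Matrix.reindex e.symm e.symm (emb i (θ Zᵀ))).map σ) =
        emb i ((a : Mat m F) * Z * ((a⁻¹ : GL (Fin m) F) : Mat m F)) := by
      rw [← hψ, ← emb_map]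
      ext x y; simp
    rwa [hL, hR] at h'
  set A := pureUnit (t := t) fun _ => a with hA
  obtain ⟨c, hc⟩ := pure_commutant (by omega) (z := T * (A : Matrix _ _ F)) (fun i X => by
    show T * _ * emb i X = emb i X * (T * _)
    rw [← mul_assoc (emb i X), hcopy, mul_assoc, mul_assoc]
    congr 1
    exact pure_emb _ i X)
  set G₁ : Mat m F := ((a⁻¹ : GL (Fin m) F) : Mat m F) with hG₁
  have hTG : ∀ x y, T x y = c * ∏ i, G₁ (x i) (y i) := fun x y => by
    have e1 : T = (c • 1 : Matrix (Fin t → Fin m) (Fin t → Fin m) F) *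
        ((A⁻¹ : GL (Fin t → Fin m) F) : Matrix (Fin t → Fin m) (Fin t → Fin m) F) := by
      rw [← hc, Units.mul_inv_cancel_right]
    rw [e1, Matrix.smul_mul, one_mul]
    rfl
  have hTu : IsUnit T := by
    rw [hT, ← Matrix.coe_reindexAlgEquiv (R := F) (A := F)]
    exact (hf.isUnit_gramAt P).map (Matrix.reindexAlgEquiv F F e)
  have hc0 : c ≠ 0 := fun h0 => hTu.ne_zero (Matrix.ext fun x y => by rw [hTG, h0, zero_mul]; rfl)
  have hsym : ∀ x y, T y x = ε * σ (T x y) := fun x y => by
    have := congrFun (congrFun (hf.gramAt_transpose P) (e.symm x)) (e.symm y)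
    rw [hT, Matrix.reindex_apply, Matrix.submatrix_apply, Matrix.submatrix_apply]
    exact this
  obtain ⟨a₀, b₀, hab⟩ : ∃ x y, G₁ y x ≠ 0 := by
    by_contra hall
    push Not at hall
    exact (a⁻¹).isUnit.ne_zero (Matrix.ext fun y x => hall x y)
  let i₀ : Fin t := ⟨0, by omega⟩
  have hprod : ∀ (p q : Fin m) (u v : Fin m),
      ∏ i, G₁ (Function.update (fun _ : Fin t => u) i₀ p i) (Function.update (fun _ : Fin t => v) i₀ q i) =
        G₁ p q * G₁ u v ^ (t - 1) := fun p q u v => by
    rw [← Finset.mul_prod_erase _ _ (Finset.mem_univ i₀), Function.update_self, Function.update_self,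
      Finset.prod_congr rfl (fun i hi => by
        rw [Function.update_of_ne (Finset.ne_of_mem_erase hi),
          Function.update_of_ne (Finset.ne_of_mem_erase hi)]),
      Finset.prod_const, Finset.card_erase_of_mem (Finset.mem_univ _), Finset.card_univ, Fintype.card_fin]
  set K₁ := c * G₁ b₀ a₀ ^ (t - 1)
  have hK₁ : K₁ ≠ 0 := mul_ne_zero hc0 (pow_ne_zero _ hab)
  have hG₁s : G₁ᵀ = (ε * (σ c * σ (G₁ a₀ b₀) ^ (t - 1)) / K₁) • G₁.map σ := by
    ext p q
    have h := hsym (Function.update (fun _ => a₀) i₀ p) (Function.update (fun _ => b₀) i₀ q)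
    rw [hTG, hTG, hprod, hprod, map_mul, map_mul, map_pow] at h
    rw [Matrix.transpose_apply, Matrix.smul_apply, Matrix.map_apply, smul_eq_mul, div_mul_eq_mul_div,
      eq_div_iff hK₁]
    simp only [K₁]
    linear_combination h
  refine ⟨_, AschGen.mForm σ G₁, N.comap (Units.map φ₀.toMonoidHom), Herm.mForm hf.invol (a⁻¹).isUnit hG₁s,
    ⟨c, hc0, fun x y => ?_⟩, ?_, ?_, ?_⟩
  · rw [hf.apply_at, mForm_gram]
    simp only [dotProduct, Matrix.mulVec, Function.comp_apply, Finset.mul_sum]
    rw [← e.symm.sum_comp]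
    refine Finset.sum_congr rfl fun p _ => ?_
    rw [← e.symm.sum_comp]
    refine Finset.sum_congr rfl fun q _ => ?_
    rw [e.apply_symm_apply, e.apply_symm_apply, show gramAt σ f P (e.symm p) (e.symm q) = T p q from rfl,
      hTG]
    ring
  · -- perfect
    set j := Units.map φ₀.toMonoidHom
    have hj : Function.Injective j := fun x y h => Units.ext (hinj (congrArg Units.val h))
    have hmap : (N.comap j).map j = N := by
      refine le_antisymm (Subgroup.map_comap_le _ _) fun x hx => ?_
      obtain ⟨X, hX⟩ : (x : Mat n F) ∈ φ₀.range := hrange ▸ mem_algOf hx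
      obtain ⟨Y, hY⟩ : ((x⁻¹ : GL (Fin n) F) : Mat n F) ∈ φ₀.range := hrange ▸ mem_algOf (N.inv_mem hx)
      have h1 : X * Y = 1 := hinj (by
        rw [map_mul, map_one]; show φ₀ X * φ₀ Y = 1
        rw [show φ₀ X = _ from hX, show φ₀ Y = _ from hY, Units.mul_inv])
      have h2 : Y * X = 1 := hinj (by
        rw [map_mul, map_one]; show φ₀ Y * φ₀ X = 1
        rw [show φ₀ X = _ from hX, show φ₀ Y = _ from hY, Units.inv_mul])
      have e1 : j ⟨X, Y, h1, h2⟩ = x := Units.ext hX
      exact ⟨⟨X, Y, h1, h2⟩, show j _ ∈ N by rw [e1]; exact hx, e1⟩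
    refine Subgroup.map_injective hj ?_
    rw [Subgroup.map_commutator, hmap, hNperf]
  · intro hle
    refine hN0 fun x hx => ?_
    obtain ⟨X, hX⟩ : (x : Mat n F) ∈ φ₀.range := hrange ▸ mem_algOf hx
    obtain ⟨Y, hY⟩ : ((x⁻¹ : GL (Fin n) F) : Mat n F) ∈ φ₀.range := hrange ▸ mem_algOf (N.inv_mem hx)
    have h1 : X * Y = 1 := hinj (by
      rw [map_mul, map_one]; show φ₀ X * φ₀ Y = 1
      rw [show φ₀ X = _ from hX, show φ₀ Y = _ from hY, Units.mul_inv])
    have e1 : Units.map φ₀.toMonoidHom ⟨X, Y, h1, mul_eq_one_comm.mp h1⟩ = x := Units.ext hX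
    obtain ⟨d, hd⟩ := (mem_scalars_iff _).mp
      (hle (show Units.map φ₀.toMonoidHom ⟨X, Y, h1, mul_eq_one_comm.mp h1⟩ ∈ N by rw [e1]; exact hx))
    refine mem_scalars_of_eq hn (c := (d : F)) ?_
    rw [← hX]
    show φ₀ X = _
    rw [show X = (d : F) • 1 from hd, map_smul, map_one]
  · rintro _ ⟨x, hx, rfl⟩ u v
    have hx' : Units.map φ₀.toMonoidHom x ∈ N := hx
    have h1 : θ (x : Mat m F) = ((x⁻¹ : GL (Fin m) F) : Mat m F) := hinj (by
      rw [hθ, show φ₀ (x : Mat m F) = ((Units.map φ₀.toMonoidHom x : GL (Fin n) F) : Mat n F) from rfl,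
        hf.adj_of_isometry (fun u v => hNf _ (mem_matrixSet hx') u v), ← map_inv]
      rfl)
    have h2 := hψ (x : Mat m F)ᵀ
    rw [Matrix.transpose_transpose, h1] at h2
    have hxx : ((x⁻¹ : GL (Fin m) F) : Mat m F).map σ * (x : Mat m F).map σ = 1 := by
      rw [← Matrix.map_mul, Units.inv_mul, Matrix.map_one _ (map_zero σ) (map_one σ)]
    have hiso : (x : Mat m F)ᵀ * G₁ * (x : Mat m F).map σ = G₁ := by
      have e2 : (x : Mat m F)ᵀ * G₁ = G₁ * ((x⁻¹ : GL (Fin m) F) : Mat m F).map σ := by
        rw [h2, hG₁]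
        simp [← mul_assoc]
      rw [e2, mul_assoc, hxx, mul_one]
    have h := (mForm_sesq σ G₁).isometry (A := (x : Mat m F)) (c := 1)
    rw [mForm_gram, one_smul] at h
    have := h.mpr hiso u v
    rwa [one_mul] at this

end CfsgLib.Classical.AschForm
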