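import Cfsg.Agent.Lib.Classical.AschForm.UnitaryTensor
import Cfsg.Agent.Lib.Classical.AschGen.Extraspecial

/-!
# Tensor powers of the unitary space of dimension three over four elements

A group of isometries in such a tensor power normalises the tensor power of the extraspecial
group of order `27`, which is a group of symplectic type.
-/

set_option autoImplicit false
set_option linter.unusedSectionVars false

namespace CfsgLib.Classical.AschForm

open Matrix Cfsg Cfsg.Geo CfsgLib.Classical.AschPrime CfsgLib.Classical.AschGen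
open scoped MatrixGroups Kronecker commutatorElement

variable {F : Type*} [Field F]

namespace Heis

/-- The powers of `ω`. -/
def chi (ω : F) (i : Fin 3) : F := ω ^ (i : ℕ)

/-- A shift twisted by a character. -/
def gmat (ω : F) (a e : Fin 3) (c : F) : Mat 3 F :=
  Matrix.of fun i j => if j = i + a then c * chi ω (e * i) else 0

/-- The matrices of the extraspecial group. -/
def InE (ω : F) (M : Mat 3 F) : Prop := ∃ a e c, c ^ 3 = 1 ∧ M = gmat ω a e c

/-- The discrete Fourier matrix. -/
def dft (ω : F) : Mat 3 F := Matrix.of fun i j => chi ω (i * j)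

variable {ω : F} (hω : ω ^ 3 = 1) (hω1 : ω ≠ 1) (h2 : (2 : F) = 0)

section
include hω

theorem omega_ne : ω ≠ 0 := fun h => by simp [h] at hω

theorem chi_ne (i : Fin 3) : chi ω i ≠ 0 := pow_ne_zero _ (omega_ne hω)

theorem chi_add (i j : Fin 3) : chi ω (i + j) = chi ω i * chi ω j := by
  rw [chi, chi, chi, ← pow_add, Fin.val_add, ← pow_mod_orderOf]
  conv_rhs => rw [← pow_mod_orderOf]
  congr 1
  exact Nat.mod_mod_of_dvd _ (orderOf_dvd_of_pow_eq_one hω)

theorem chi_pow_three (i : Fin 3) : chi ω i ^ 3 = 1 := by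
  rw [chi, ← pow_mul, mul_comm, pow_mul, hω, one_pow]

theorem chi_zero : chi ω 0 = 1 := by simp [chi]

theorem gmat_mul (a e b f : Fin 3) (c d : F) :
    gmat ω a e c * gmat ω b f d = gmat ω (a + b) (e + f) (c * d * chi ω (f * a)) := by
  ext i j
  simp only [gmat, Matrix.mul_apply, Matrix.of_apply]
  rw [Finset.sum_eq_single (i + a) (fun k _ hk => by rw [if_neg hk, zero_mul]) (by simp),
    if_pos rfl, add_assoc i a b]
  by_cases h : j = i + (a + b)
  · rw [if_pos h, if_pos h,
      show (e + f) * i = e * i + f * i from (by decide : ∀ e f i : Fin 3, (e + f) * i = e * i + f * i) e f i,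
      show f * (i + a) = f * i + f * a from (by decide : ∀ f i a : Fin 3, f * (i + a) = f * i + f * a) f i a,
      chi_add hω, chi_add hω]
    ring
  · rw [if_neg h, if_neg h, mul_zero]

theorem gmat_one : gmat ω 0 0 1 = (1 : Mat 3 F) := by
  ext i j
  simp [gmat, Matrix.one_apply, chi, eq_comm]

theorem inE_mul {M N : Mat 3 F} (hM : InE ω M) (hN : InE ω N) : InE ω (M * N) := by
  obtain ⟨a, e, c, hc, rfl⟩ := hM
  obtain ⟨b, f, d, hd, rfl⟩ := hN
  exact ⟨_, _, _, by rw [mul_pow, mul_pow, hc, hd, chi_pow_three hω, one_mul, one_mul],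
    gmat_mul hω a e b f c d⟩

theorem inE_cube {M : Mat 3 F} (hM : InE ω M) : M * M * M = 1 := by
  obtain ⟨a, e, c, hc, rfl⟩ := hM
  rw [gmat_mul hω, gmat_mul hω, (by decide : ∀ a : Fin 3, a + a + a = 0) a,
    (by decide : ∀ a : Fin 3, a + a + a = 0) e]
  have h : chi ω (e * a) * chi ω (e * (a + a)) = 1 := by
    rw [← chi_add hω, (by decide : ∀ e a : Fin 3, e * a + e * (a + a) = 0) e a, chi_zero hω]
  rw [show c * c * chi ω (e * a) * c * chi ω (e * (a + a)) = 1 by linear_combination hc + c ^ 3 * h,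
    gmat_one hω]

theorem inE_scalar {c : F} (hc : c ^ 3 = 1) : InE ω (c • (1 : Mat 3 F)) := by
  refine ⟨0, 0, c, hc, ?_⟩
  ext i j
  simp [gmat, Matrix.one_apply, chi, eq_comm]

theorem inE_comm {M N : Mat 3 F} (hM : InE ω M) (hN : InE ω N) :
    ∃ z : F, M * N = z • (N * M) := by
  obtain ⟨a, e, c, hc, rfl⟩ := hM
  obtain ⟨b, f, d, hd, rfl⟩ := hN
  refine ⟨chi ω (f * a) * (chi ω (e * b))⁻¹, ?_⟩
  rw [gmat_mul hω, gmat_mul hω, add_comm b a, add_comm f e]
  ext i j
  simp only [gmat, Matrix.of_apply, Matrix.smul_apply, smul_eq_mul, mul_ite, mul_zero]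
  refine if_congr Iff.rfl ?_ rfl
  field_simp [chi_ne hω]

theorem eq_of_commute {a e b f : Fin 3} {c d : F} (hc : c ≠ 0) (hd : d ≠ 0) (hω1 : ω ≠ 1)
    (h : gmat ω a e c * gmat ω b f d = gmat ω b f d * gmat ω a e c) : f * a = e * b := by
  rw [gmat_mul hω, gmat_mul hω, add_comm b a, add_comm f e] at h
  have h0 := congrFun (congrFun h 0) (a + b)
  simp only [gmat, Matrix.of_apply, zero_add, if_true] at h0
  have h1 : chi ω (f * a) = chi ω (e * b) := by
    have hcd : c * d * chi ω ((e + f) * 0) ≠ 0 := mul_ne_zero (mul_ne_zero hc hd) (chi_ne hω _)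
    refine mul_left_cancel₀ hcd ?_
    linear_combination h0
  haveI : Fact (Nat.Prime 3) := ⟨Nat.prime_three⟩
  have ho : orderOf ω = 3 := orderOf_eq_prime hω hω1
  refine Fin.ext ?_
  exact pow_injOn_Iio_orderOf (by rw [Set.mem_Iio, ho]; exact Fin.is_lt _)
    (by rw [Set.mem_Iio, ho]; exact Fin.is_lt _) h1

end

section
include hω hω1 h2

theorem sum_chi (m : Fin 3) : ∑ j : Fin 3, chi ω (j * m) = if m = 0 then 1 else 0 := by
  have hs : 1 + ω + ω ^ 2 = 0 := by
    have h : (ω - 1) * (1 + ω + ω ^ 2) = 0 := by linear_combination hω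
    exact (mul_eq_zero.mp h).resolve_left (sub_ne_zero.mpr hω1)
  fin_cases m <;> simp [Fin.sum_univ_three, chi]
  · linear_combination h2
  · linear_combination hs
  · linear_combination hs

theorem dft_gmat (a e : Fin 3) (c : F) :
    dft ω * gmat ω a e c = gmat ω e (-a) (c * chi ω (-(e * a))) * dft ω := by
  ext i j
  simp only [dft, gmat, Matrix.mul_apply, Matrix.of_apply, ite_mul, zero_mul, Finset.sum_ite_eq',
    Finset.mem_univ, if_true, mul_ite, mul_zero]
  rw [Finset.sum_eq_single (j - a)]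
  · rw [if_pos (by simp)]
    rw [show chi ω (i * (j - a)) * (c * chi ω (e * (j - a))) =
        c * chi ω (i * (j - a) + e * (j - a)) by rw [chi_add hω]; ring,
      show c * chi ω (-(e * a)) * chi ω (-a * i) * chi ω ((i + e) * j) =
        c * chi ω (-(e * a) + -a * i + (i + e) * j) by rw [chi_add hω, chi_add hω]; ring,
      (by decide : ∀ i j a e : Fin 3,
        i * (j - a) + e * (j - a) = -(e * a) + -a * i + (i + e) * j) i j a e]
  · intro b _ hb
    rw [if_neg fun h => hb (by rw [h]; simp)]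
  · simp

theorem single_eq_sum (i a : Fin 3) :
    (Matrix.single i (i + a) 1 : Mat 3 F) = ∑ b : Fin 3, chi ω (-(b * i)) • gmat ω a b 1 := by
  ext k l
  rw [Matrix.sum_apply]
  simp only [gmat, Matrix.smul_apply, Matrix.of_apply, smul_eq_mul, mul_ite, mul_zero, one_mul]
  by_cases hl : l = k + a
  · subst hl
    simp only [if_true]
    rw [Finset.sum_congr rfl fun b _ => show chi ω (-(b * i)) * chi ω (b * k) = chi ω (b * (k - i)) by
      rw [← chi_add hω, (by decide : ∀ b i k : Fin 3, -(b * i) + b * k = b * (k - i)) b i k],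
      sum_chi hω hω1 h2]
    by_cases hk : k = i
    · subst hk; simp
    · rw [if_neg fun h => hk (sub_eq_zero.mp h), Matrix.single_apply, if_neg fun h => hk h.1.symm]
  · simp only [if_neg hl, Finset.sum_const_zero]
    rw [Matrix.single_apply, if_neg fun h => hl (by rw [← h.1, ← h.2])]

end

end Heis

open Heis

section Conj

variable [Fintype F] (hF : Fintype.card F = 4)
include hF

theorem four_cube {x : F} (hx : x ≠ 0) : x ^ 3 = 1 := by
  have h := FiniteField.pow_card_sub_one_eq_one x hx
  rwa [hF] at h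

theorem four_two : (2 : F) = 0 := by
  have h4 : (Fintype.card F : F) = 0 := Nat.cast_card_eq_zero F
  rw [hF] at h4
  exact pow_eq_zero_iff two_ne_zero |>.1 (show (2 : F) ^ 2 = 0 by rw [← h4]; norm_num)

theorem four_root {ω : F} (hω : ω ^ 3 = 1) (hω1 : ω ≠ 1) {x : F} (hx : x ≠ 0) :
    ∃ e, x = chi ω e := by
  have hx3 := four_cube hF hx
  have hs : 1 + ω + ω ^ 2 = 0 := by
    have h : (ω - 1) * (1 + ω + ω ^ 2) = 0 := by linear_combination hω
    exact (mul_eq_zero.mp h).resolve_left (sub_ne_zero.mpr hω1)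
  have h : (x - 1) * ((x - ω) * (x - ω ^ 2)) = 0 := by
    linear_combination hx3 - hω + (x * ω - x ^ 2) * hs
  rcases mul_eq_zero.mp h with h | h
  · exact ⟨0, by rw [chi, sub_eq_zero.mp h]; simp⟩
  rcases mul_eq_zero.mp h with h | h
  · exact ⟨1, by rw [chi, sub_eq_zero.mp h]; simp⟩
  · exact ⟨2, by rw [chi, sub_eq_zero.mp h]; rfl⟩

/-- A monomial matrix along a shift whose entries have product one. -/
theorem inE_of_prod {ω : F} (hω : ω ^ 3 = 1) (hω1 : ω ≠ 1) {a : Fin 3} {α : Fin 3 → F}
    (hprod : α 0 * α 1 * α 2 = 1) {M : Mat 3 F}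
    (hM : ∀ i j, M i j = if j = i + a then α i else 0) : InE ω M := by
  have h0 : α 0 ≠ 0 := left_ne_zero_of_mul (left_ne_zero_of_mul (hprod ▸ one_ne_zero))
  have h1 : α 1 ≠ 0 := right_ne_zero_of_mul (left_ne_zero_of_mul (hprod ▸ one_ne_zero))
  obtain ⟨e, he⟩ := four_root hF hω hω1 (div_ne_zero h1 h0)
  have hα1 : α 1 = α 0 * chi ω e := by rw [← he, mul_div_cancel₀ _ h0]
  have hα2 : α 2 = α 0 * chi ω (e + e) := by
    refine mul_left_cancel₀ (mul_ne_zero h0 h1) ?_
    rw [hprod, hα1, chi_add hω]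
    have := four_cube hF h0
    have := chi_pow_three hω e
    linear_combination -(chi ω e ^ 3) * four_cube hF h0 - chi_pow_three hω e
  refine ⟨a, e, α 0, four_cube hF h0, Matrix.ext fun i j => ?_⟩
  rw [hM]
  simp only [gmat, Matrix.of_apply]
  refine if_congr Iff.rfl ?_ rfl
  fin_cases i
  · simp [chi_zero hω]
  · simpa using hα1
  · have e2 : e * (2 : Fin 3) = e + e := (by decide : ∀ e : Fin 3, e * 2 = e + e) e
    simpa [e2] using hα2

/-- Similitudes of the standard unitary space normalise the extraspecial group. -/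
theorem conj_inE {σ : F →+* F} (hσ : ∀ x, σ x = x ^ 2) {ω : F} (hω : ω ^ 3 = 1) (hω1 : ω ≠ 1)
    {A : GL (Fin 3) F} {μ : F} (hμ : μ ≠ 0)
    (hA : (A : Mat 3 F)ᵀ * (A : Mat 3 F).map σ = μ • 1) {M : Mat 3 F} (hM : InE ω M) :
    InE ω ((A : Mat 3 F) * M * ((A⁻¹ : GL (Fin 3) F) : Mat 3 F)) := by
  classical
  have h2 := four_two hF
  have hnorm : ∀ x : F, x * σ x = if x = 0 then 0 else 1 := fun x => by
    rw [hσ]
    split
    · next h => simp [h]
    · next h => linear_combination four_cube hF h
  have hcol : ∀ j k, ∑ i, (A : Mat 3 F) i j * σ ((A : Mat 3 F) i k) = if j = k then μ else 0 := by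
    intro j k
    have := congrFun (congrFun hA j) k
    simpa [Matrix.mul_apply, Matrix.one_apply] using this
  have hμ1 : μ = 1 := by
    have h := hcol 0 0
    simp only [Fin.sum_univ_three, hnorm, if_true] at h
    have h11 : (1 : F) + 1 = 0 := by linear_combination h2
    split_ifs at h <;> simp [h11] at h <;> first | exact absurd h.symm hμ | exact h.symm
  subst hμ1
  have hinv : ((A⁻¹ : GL (Fin 3) F) : Mat 3 F) = ((A : Mat 3 F).map σ)ᵀ := by
    have e : ((A : Mat 3 F).map σ)ᵀ * (A : Mat 3 F) = 1 := by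
      simpa [Matrix.transpose_mul] using congrArg Matrix.transpose hA
    calc ((A⁻¹ : GL (Fin 3) F) : Mat 3 F)
        = ((A : Mat 3 F).map σ)ᵀ * (A : Mat 3 F) * ((A⁻¹ : GL (Fin 3) F) : Mat 3 F) := by
          rw [e, one_mul]
      _ = _ := by rw [mul_assoc, Units.mul_inv, mul_one]
  obtain ⟨a, e, c, hc, rfl⟩ := hM
  set g := gmat ω a e c
  -- weights of the columns
  have hw : ∀ j, (∀ i, (A : Mat 3 F) i j ≠ 0) ∨ ∃ i, ∀ l, ((A : Mat 3 F) l j ≠ 0 ↔ l = i) := by
    intro j
    have h := hcol j j
    simp only [Fin.sum_univ_three, hnorm, if_true] at h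
    have h11 : (1 : F) + 1 = 0 := by linear_combination h2
    by_cases h0 : (A : Mat 3 F) 0 j = 0 <;> by_cases h1 : (A : Mat 3 F) 1 j = 0 <;>
      by_cases h3 : (A : Mat 3 F) 2 j = 0 <;> simp [h0, h1, h3, h11] at h
    · exact .inr ⟨2, fun l => by fin_cases l <;> simp [h0, h1, h3]⟩
    · exact .inr ⟨1, fun l => by fin_cases l <;> simp [h0, h1, h3]⟩
    · exact .inr ⟨0, fun l => by fin_cases l <;> simp [h0, h1, h3]⟩
    · exact .inl fun l => by fin_cases l <;> simp [h0, h1, h3]
  rcases Classical.em (∀ j i, (A : Mat 3 F) i j ≠ 0) with hfull | hnfull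
  · -- no zero entries: a twisted Fourier matrix
    set d : Fin 3 → F := fun i => (A : Mat 3 F) i 0
    have hd : ∀ i, d i ≠ 0 := hfull 0
    set r : Fin 3 → Fin 3 → F := fun j i => (A : Mat 3 F) i j / d i
    have hr : ∀ j i, r j i ≠ 0 := fun j i => div_ne_zero (hfull j i) (hd i)
    have hA' : ∀ i j, (A : Mat 3 F) i j = d i * r j i := fun i j => (mul_div_cancel₀ _ (hd i)).symm
    have horth : ∀ j k, j ≠ k → r j 0 * σ (r k 0) + r j 1 * σ (r k 1) + r j 2 * σ (r k 2) = 0 := by
      intro j k hjk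
      have h := hcol j k
      simp only [Fin.sum_univ_three, hA', map_mul, if_neg hjk] at h
      have hn : ∀ i, d i * σ (d i) = 1 := fun i => by rw [hnorm, if_neg (hd i)]
      linear_combination h - r j 0 * σ (r k 0) * hn 0 - r j 1 * σ (r k 1) * hn 1 -
        r j 2 * σ (r k 2) * hn 2
    have hdist : ∀ x y z : F, x ≠ 0 → y ≠ 0 → z ≠ 0 → x + y + z = 0 →
        ∃ f : Fin 3, f ≠ 0 ∧ y = x * chi ω f ∧ z = x * chi ω (f + f) := by
      intro x y z hx hy hz hsum
      obtain ⟨f, hf⟩ := four_root hF hω hω1 (div_ne_zero hy hx)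
      obtain ⟨f', hf'⟩ := four_root hF hω hω1 (div_ne_zero hz hx)
      have hy' : y = x * chi ω f := by rw [← hf, mul_div_cancel₀ _ hx]
      have hz' : z = x * chi ω f' := by rw [← hf', mul_div_cancel₀ _ hx]
      have h1 : 1 + chi ω f + chi ω f' = 0 := by
        refine (mul_eq_zero.mp (?_ : x * (1 + chi ω f + chi ω f') = 0)).resolve_left hx
        linear_combination hsum - hy' - hz'
      have hs : 1 + ω + ω ^ 2 = 0 := by
        have := sum_chi hω hω1 h2 1
        simpa [Fin.sum_univ_three, chi] using this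
      have hω0 := omega_ne hω
      refine ⟨f, fun h0 => ?_, hy', ?_⟩
      · rw [h0, chi_zero hω] at h1
        exact chi_ne hω f' (by linear_combination h1 - h2)
      · rw [hz']
        congr 1
        rw [chi_add hω]
        by_cases h0 : f = 0
        · rw [h0, chi_zero hω] at h1
          exact absurd (by linear_combination h1 - h2) (chi_ne hω f')
        · fin_cases f
          · exact absurd rfl h0
          · simp [chi] at h1 ⊢; linear_combination h1 - hs
          · simp [chi] at h1 ⊢
            linear_combination h1 - hs - ω * hω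
    have hr0 : ∀ i, r 0 i = 1 := fun i => div_self (hd i)
    obtain ⟨f₁, hf₁, h11, h12⟩ := hdist _ _ _ (hr 1 0) (hr 1 1) (hr 1 2) (by
      have h := horth 1 0 (by decide)
      simpa [hr0] using h)
    obtain ⟨f₂, hf₂, h21, h22⟩ := hdist _ _ _ (hr 2 0) (hr 2 1) (hr 2 2) (by
      have h := horth 2 0 (by decide)
      simpa [hr0] using h)
    have hf12 : f₁ ≠ f₂ := by
      intro hff
      have h := horth 1 2 (by decide)
      rw [h11, h12, h21, h22, ← hff] at h
      simp only [map_mul] at h
      have hn : ∀ i, chi ω i * σ (chi ω i) = 1 := fun i => by rw [hnorm, if_neg (chi_ne hω i)]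
      have : r 1 0 * σ (r 2 0) * (1 + 1 + 1) = 0 := by
        linear_combination h - r 1 0 * σ (r 2 0) * hn f₁ - r 1 0 * σ (r 2 0) * hn (f₁ + f₁)
      exact mul_ne_zero (mul_ne_zero (hr 1 0) ((map_ne_zero σ).mpr (hr 2 0)))
        (fun h3 => one_ne_zero (α := F) (by linear_combination h3 - h2)) this
    set w := chi ω f₁
    have hw : w ^ 3 = 1 := chi_pow_three hω f₁
    have hw1 : w ≠ 1 := by
      intro hw
      refine hf₁ (Fin.ext ?_)
      haveI : Fact (Nat.Prime 3) := ⟨Nat.prime_three⟩
      have ho : orderOf ω = 3 := orderOf_eq_prime hω hω1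
      exact pow_injOn_Iio_orderOf (by rw [Set.mem_Iio, ho]; exact Fin.is_lt _)
        (by rw [Set.mem_Iio, ho]; exact Fin.is_lt _) (hw.trans (chi_zero hω).symm)
    set b : Fin 3 → F := fun j => r j 0
    have hb : ∀ j, b j ≠ 0 := fun j => hr j 0
    have hchi : ∀ i j : Fin 3, chi ω (f₁ * (i * j)) = chi w (i * j) := by
      intro i j
      generalize i * j = k
      fin_cases k
      · simp [chi]
      · simp [w, chi]
      · show chi ω (f₁ * 2) = chi w 2
        rw [(by decide : ∀ f : Fin 3, f * 2 = f + f) f₁, chi_add hω]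
        simp [chi, w, pow_two]
    have hf₂' : f₂ = f₁ + f₁ :=
      (by decide : ∀ x y : Fin 3, x ≠ 0 → y ≠ 0 → x ≠ y → y = x + x) f₁ f₂ hf₁ hf₂ hf12
    have hAform : ∀ i j, (A : Mat 3 F) i j = d i * b j * chi w (i * j) := by
      intro i j
      rw [hA', mul_assoc, ← hchi]
      congr 1
      obtain ⟨k0, k01, k02, k11, k21, k12, k22⟩ := (by decide : ∀ f : Fin 3,
        (∀ i, f * (i * 0) = 0) ∧ f * (0 * 1) = 0 ∧ f * (0 * 2) = 0 ∧ f * (1 * 1) = f ∧
        f * (2 * 1) = f + f ∧ f * (1 * 2) = f + f ∧ f * (2 * 2) = f + f + (f + f)) f₁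
      have hb0 : r 0 0 = 1 := hr0 0
      rcases (by decide : ∀ i : Fin 3, i = 0 ∨ i = 1 ∨ i = 2) i with rfl | rfl | rfl <;>
        rcases (by decide : ∀ j : Fin 3, j = 0 ∨ j = 1 ∨ j = 2) j with rfl | rfl | rfl <;>
        simp only [b, w, hr0, k0, k01, k02, k11, k21, k12, k22, h11, h12, h21, h22, hf₂', chi_zero hω,
          mul_one, one_mul, mul_zero, zero_mul, (by decide : ∀ f : Fin 3, f * 2 = f + f) f₁]
    -- the diagonal parts
    obtain ⟨e', c', hc', hγ⟩ : ∃ (e' : Fin 3) (c' : F), c' ^ 3 = 1 ∧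
        ∀ j, b j * (c * chi ω (e * j)) * σ (b (j + a)) = c' * chi w (e' * j) := by
      set γ : Fin 3 → F := fun j => b j * (c * chi ω (e * j)) * σ (b (j + a))
      have hprod : γ 0 * γ 1 * γ 2 = 1 := by
        have hsh : σ (b (0 + a)) * σ (b (1 + a)) * σ (b (2 + a)) = σ (b 0) * σ (b 1) * σ (b 2) := by
          fin_cases a <;> simp <;> ring
        have hn : ∀ j, b j * σ (b j) = 1 := fun j => by rw [hnorm, if_neg (hb j)]
        have hχ : chi ω (e * 0) * chi ω (e * 1) * chi ω (e * 2) = 1 := by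
          rw [← chi_add hω, ← chi_add hω, (by decide : ∀ e : Fin 3, e * 0 + e * 1 + e * 2 = 0) e,
            chi_zero hω]
        calc γ 0 * γ 1 * γ 2 = c ^ 3 * (chi ω (e * 0) * chi ω (e * 1) * chi ω (e * 2)) *
              (b 0 * b 1 * b 2 * (σ (b (0 + a)) * σ (b (1 + a)) * σ (b (2 + a)))) := by
              simp only [γ]; ring
          _ = 1 := by
              rw [hc, hχ, hsh]
              linear_combination (b 1 * σ (b 1)) * (b 2 * σ (b 2)) * hn 0 + (b 2 * σ (b 2)) * hn 1 + hn 2
      obtain ⟨a₀, e', c', hc', hM'⟩ := inE_of_prod hF hw hw1 (a := (0 : Fin 3)) hprod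
        (M := Matrix.diagonal γ) (fun i j => by simp [Matrix.diagonal_apply, eq_comm])
      refine ⟨e', c', hc', fun j => ?_⟩
      have h := congrFun (congrFun hM' j) j
      rw [Matrix.diagonal_apply_eq] at h
      simp only [gmat, Matrix.of_apply] at h
      split at h
      · exact h
      · exact absurd h (mul_ne_zero (mul_ne_zero (hb j) (mul_ne_zero (fun hc0 => by simp [hc0] at hc)
          (chi_ne hω _))) ((map_ne_zero σ).mpr (hb _)))
    have hσχ : ∀ k, σ (chi w k) = chi w (-k) := fun k => by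
      refine mul_left_cancel₀ (chi_ne hw k) ?_
      rw [hnorm, if_neg (chi_ne hw k), ← chi_add hw, add_neg_cancel, chi_zero hw]
    refine inE_of_prod hF hω hω1 (a := e')
      (α := fun i => d i * σ (d (i + e')) * c' * chi w (-((i + e') * a))) ?_ ?_
    · have hn : ∀ i, d i * σ (d i) = 1 := fun i => by rw [hnorm, if_neg (hd i)]
      have hsh : σ (d (0 + e')) * σ (d (1 + e')) * σ (d (2 + e')) = σ (d 0) * σ (d 1) * σ (d 2) := by
        fin_cases e' <;> simp <;> ring
      have hχ : chi w (-((0 + e') * a)) * chi w (-((1 + e') * a)) * chi w (-((2 + e') * a)) = 1 := by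
        rw [← chi_add hw, ← chi_add hw,
          (by decide : ∀ e a : Fin 3, -((0 + e) * a) + -((1 + e) * a) + -((2 + e) * a) = 0) e' a,
          chi_zero hw]
      calc _ = c' ^ 3 * (chi w (-((0 + e') * a)) * chi w (-((1 + e') * a)) * chi w (-((2 + e') * a))) *
            (d 0 * d 1 * d 2 * (σ (d (0 + e')) * σ (d (1 + e')) * σ (d (2 + e')))) := by ring
        _ = 1 := by
            rw [hc', hχ, hsh]
            linear_combination (d 1 * σ (d 1)) * (d 2 * σ (d 2)) * hn 0 + (d 2 * σ (d 2)) * hn 1 + hn 2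
    intro i l
    rw [hinv]
    simp only [g, gmat, Matrix.mul_apply, Matrix.of_apply, Matrix.transpose_apply, Matrix.map_apply,
      mul_ite, mul_zero, Finset.sum_mul, ite_mul, zero_mul]
    rw [Finset.sum_comm]
    simp only [Finset.sum_ite_eq', Finset.mem_univ, if_true]
    rw [Finset.sum_congr rfl fun j _ => show
        (A : Mat 3 F) i j * (c * chi ω (e * j)) * σ ((A : Mat 3 F) l (j + a)) =
          d i * σ (d l) * c' * chi w (-(l * a)) * chi w (j * (i + e' - l)) by
      rw [hAform, hAform, map_mul, map_mul, hσχ,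
        show d i * b j * chi w (i * j) * (c * chi ω (e * j)) *
            (σ (d l) * σ (b (j + a)) * chi w (-(l * (j + a)))) =
          d i * σ (d l) * (b j * (c * chi ω (e * j)) * σ (b (j + a))) *
            (chi w (i * j) * chi w (-(l * (j + a)))) by ring,
        hγ, show d i * σ (d l) * (c' * chi w (e' * j)) * (chi w (i * j) * chi w (-(l * (j + a)))) =
          d i * σ (d l) * c' * chi w (e' * j + i * j + -(l * (j + a))) by
            rw [chi_add hw, chi_add hw]; ring,
        (by decide : ∀ e i l j a : Fin 3,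
          e * j + i * j + -(l * (j + a)) = -(l * a) + j * (i + e - l)) e' i l j a, chi_add hw]
      ring]
    rw [← Finset.mul_sum, sum_chi hw hw1 h2]
    by_cases hl : l = i + e'
    · subst hl; simp
    · rw [if_neg hl, if_neg fun h => hl (sub_eq_zero.mp h).symm, mul_zero]
  · -- monomial
    have hmono : ∀ j, ∃ i, ∀ l, ((A : Mat 3 F) l j ≠ 0 ↔ l = i) := by
      intro k
      rcases hw k with hk | hk
      swap
      · exact hk
      exfalso
      refine hnfull fun j => ?_
      rcases hw j with hj | ⟨i, hi⟩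
      · exact hj
      exfalso
      have hjk : j ≠ k := fun h => by
        subst h
        exact absurd ((hi (i + 1)).mp (hk _)) ((by decide : ∀ i : Fin 3, i + 1 ≠ i) i)
      have h := hcol j k
      rw [if_neg hjk, Finset.sum_eq_single i] at h
      · exact mul_ne_zero ((hi i).mpr rfl) ((map_ne_zero σ).mpr (hk i)) h
      · intro l _ hl
        have := (hi l).not.mpr hl
        push Not at this
        rw [this, zero_mul]
      · simp
    choose π hπ using hmono
    have hβ : ∀ j, (A : Mat 3 F) (π j) j ≠ 0 := fun j => (hπ j _).mpr rfl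
    have hzero : ∀ {l j}, l ≠ π j → (A : Mat 3 F) l j = 0 := fun {l j} h => by
      have := (hπ j l).not.mpr h
      push Not at this
      exact this
    have hinj : Function.Injective π := by
      intro j k hjk
      by_contra hne
      have h := hcol j k
      rw [if_neg hne, Finset.sum_eq_single (π j)] at h
      · exact mul_ne_zero (hβ j) ((map_ne_zero σ).mpr (hjk ▸ hβ k)) h
      · intro l _ hl; rw [hzero hl, zero_mul]
      · simp
    obtain ⟨b, hb⟩ : ∃ b, ∀ j, π (j + a) = π j + b := by
      have key : ∀ x y z a : Fin 3, x ≠ y → x ≠ z → y ≠ z →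
          ∃ b, ∀ j, ![x, y, z] (j + a) = ![x, y, z] j + b := by decide
      obtain ⟨b, hb⟩ := key (π 0) (π 1) (π 2) a (hinj.ne (by decide)) (hinj.ne (by decide))
        (hinj.ne (by decide))
      have e : ∀ j, ![π 0, π 1, π 2] j = π j := fun j => by fin_cases j <;> rfl
      exact ⟨b, fun j => by simpa only [e] using hb j⟩
    let π' : Equiv.Perm (Fin 3) := Equiv.ofBijective π (Finite.injective_iff_bijective.mp hinj)
    set α : Fin 3 → F := fun j =>
      (A : Mat 3 F) (π j) j * (c * chi ω (e * j)) * σ ((A : Mat 3 F) (π (j + a)) (j + a))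
    refine inE_of_prod hF hω hω1 (a := b) (α := fun i => α (π'.symm i)) ?_ ?_
    · have h1 : α (π'.symm 0) * α (π'.symm 1) * α (π'.symm 2) = α 0 * α 1 * α 2 := by
        have := Equiv.prod_comp π'.symm α
        simpa [Fin.prod_univ_three] using this
      refine h1.trans ?_
      set B : Fin 3 → F := fun j => (A : Mat 3 F) (π j) j
      have hn : ∀ j, B j * σ (B j) = 1 := fun j => by rw [hnorm, if_neg (hβ j)]
      have hsh : σ (B (0 + a)) * σ (B (1 + a)) * σ (B (2 + a)) = σ (B 0) * σ (B 1) * σ (B 2) := by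
        fin_cases a <;> simp <;> ring
      have hχ : chi ω (e * 0) * chi ω (e * 1) * chi ω (e * 2) = 1 := by
        rw [← chi_add hω, ← chi_add hω, (by decide : ∀ e : Fin 3, e * 0 + e * 1 + e * 2 = 0) e,
          chi_zero hω]
      calc α 0 * α 1 * α 2 = c ^ 3 * (chi ω (e * 0) * chi ω (e * 1) * chi ω (e * 2)) *
            (B 0 * B 1 * B 2 * (σ (B (0 + a)) * σ (B (1 + a)) * σ (B (2 + a)))) := by
            simp only [α, B]; ring
        _ = 1 := by
            rw [hc, hχ, hsh]
            linear_combination (B 1 * σ (B 1)) * (B 2 * σ (B 2)) * hn 0 + (B 2 * σ (B 2)) * hn 1 + hn 2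
    · intro i l
      rw [hinv]
      simp only [g, gmat, Matrix.mul_apply, Matrix.of_apply, Matrix.transpose_apply, Matrix.map_apply,
        mul_ite, mul_zero, Finset.sum_mul, ite_mul, zero_mul]
      rw [Finset.sum_comm]
      simp only [Finset.sum_ite_eq', Finset.mem_univ, if_true]
      have hj0 : π (π'.symm i) = i := π'.apply_symm_apply i
      rw [Finset.sum_eq_single (π'.symm i)]
      · by_cases hl : l = i + b
        · rw [if_pos hl]
          show _ = (A : Mat 3 F) (π _) _ * _ * σ _
          rw [hb, hj0, ← hl]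
        · rw [if_neg hl, hzero (j := π'.symm i + a) (l := l) (by rw [hb, hj0]; exact hl), map_zero,
            mul_zero]
      · intro j _ hj
        rw [hzero (l := i) (j := j) fun h => hj (by rw [h]; exact (π'.symm_apply_apply j).symm),
          zero_mul, zero_mul]
      · simp

end Conj

set_option maxHeartbeats 1600000 in
/-- A group of isometries in a tensor power of three dimensional unitary spaces over four elements
lies in the normaliser of a group of symplectic type. -/
theorem three_power_symType [Fintype F] (hF : Fintype.card F = 4) {σ : F →+* F}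
    (hσ : ∀ x, σ x = x ^ 2) {n t : ℕ} (ht : 1 ≤ t) {f : (Fin n → F) → (Fin n → F) → F}
    (hf : IsSesq σ f) {e : Fin n ≃ (Fin t → Fin 3)} {P : GL (Fin n) F} {c : F} (hc0 : c ≠ 0)
    (hval : ∀ x y : (Fin t → Fin 3) → F,
      f ((P : Mat n F) *ᵥ (x ∘ e)) ((P : Mat n F) *ᵥ (y ∘ e)) = c * ∑ a, x a * σ (y a))
    {H : Subgroup (GL (Fin n) F)} (hH : FixesForm (matrixSet H) f)
    (hle : H ≤ tensorWreathSubgroup 3 t e P) :
    ∃ R : Subgroup (GL (Fin n) F), IsSymplecticTypeGroup 3 R ∧
      ActsAbsolutelyIrreducibly (matrixSet R) ∧ R ≤ similarityGroup f ∧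
      Nat.card (Subgroup.center R) = 3 ∧ Nat.card R = 3 ^ (1 + 2 * t) ∧
      H ≤ subgroupNormalizer R := by
  classical
  have hn : n = 3 ^ t := by simpa using Fintype.card_congr e
  have hn2 : 2 ≤ n := by
    rw [hn]
    calc 2 ≤ 3 ^ 1 := by norm_num
      _ ≤ 3 ^ t := Nat.pow_le_pow_right (by norm_num) ht
  obtain ⟨ω, hω0, hω1⟩ : ∃ ω : F, ω ≠ 0 ∧ ω ≠ 1 := by
    by_contra hall
    push Not at hall
    have : (Finset.univ : Finset F) ⊆ {0, 1} := fun x _ => by
      by_cases hx : x = 0
      · simp [hx]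
      · simp [hall x hx]
    have h := Finset.card_le_card this
    rw [Finset.card_univ, hF] at h
    exact absurd (h.trans Finset.card_le_two) (by norm_num)
  have hω : ω ^ 3 = 1 := four_cube hF hω0
  have h2 := four_two hF
  -- the group in dimension three
  let E : Subgroup (GL (Fin 3) F) :=
    { carrier := {g | InE ω (g : Mat 3 F)}
      one_mem' := by
        show InE ω ((1 : GL (Fin 3) F) : Mat 3 F)
        exact ⟨0, 0, 1, one_pow 3, (gmat_one hω).symm⟩
      mul_mem' := fun ha hb => by
        show InE ω _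
        rw [Units.val_mul]
        exact inE_mul hω ha hb
      inv_mem' := fun {a} ha => by
        show InE ω _
        rw [show a⁻¹ = a * a from inv_eq_of_mul_eq_one_right (Units.ext (by
          rw [Units.val_mul, Units.val_mul, ← mul_assoc]; exact inE_cube hω ha)), Units.val_mul]
        exact inE_mul hω ha ha }
  have hmul : ∀ (a b : Fin t → GL (Fin 3) F), pureUnit (a * b) = pureUnit a * pureUnit b := by
    intro a b
    refine Units.ext ?_
    show pureT _ = pureT _ * pureT _
    rw [← pureT_mul]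
    congr 1
  let ψ : (Fin t → GL (Fin 3) F) →* GL (Fin n) F :=
    ((MulAut.conj P).toMonoidHom.comp (glReindex e.symm).toMonoidHom).comp
      (MonoidHom.mk' pureUnit hmul)
  let EE : Subgroup (Fin t → GL (Fin 3) F) := Subgroup.pi Set.univ fun _ => E
  have hEE : ∀ ε, ε ∈ EE ↔ ∀ i, InE ω (ε i : Mat 3 F) := fun ε =>
    ⟨fun h i => h i trivial, fun h i _ => h i⟩
  set R := EE.map ψ with hR
  have hψval : ∀ ε, (ψ ε : Mat n F) = (P : Mat n F) *
      Matrix.reindexAlgEquiv F F e.symm (pureT fun i => (ε i : Mat 3 F)) *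
      ((P⁻¹ : GL (Fin n) F) : Mat n F) := fun ε => rfl
  have hpureZ : ∀ (z : Fin t → F) (M : Fin t → Mat 3 F),
      pureT (fun i => z i • M i) = (∏ i, z i) • pureT M := fun z M => pureT_smul z M
  -- unitary tuples normalise
  have hfix : ∀ ε ∈ EE, ∀ u v, f ((ψ ε : Mat n F) *ᵥ u) ((ψ ε : Mat n F) *ᵥ v) = f u v := by
    intro ε hε u v
    have hU : ∀ i, (ε i : Mat 3 F)ᵀ * (ε i : Mat 3 F).map σ = 1 := by
      intro i
      obtain ⟨a, b, d, hd, hM⟩ := (hEE ε).mp hε i
      have hnorm : ∀ x : F, x ≠ 0 → x * σ x = 1 := fun x hx => by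
        rw [hσ]; linear_combination four_cube hF hx
      rw [hM]
      ext p r
      have : ∀ k, (gmat ω a b d) k p * σ ((gmat ω a b d) k r) =
          if k = p - a then (if p = r then 1 else 0) else 0 := by
        intro k
        simp only [gmat, Matrix.of_apply]
        by_cases hk : p = k + a
        · rw [if_pos hk, if_pos (show k = p - a by rw [hk]; simp)]
          by_cases hpr : p = r
          · subst hpr
            rw [if_pos hk, if_pos rfl,
              hnorm _ (mul_ne_zero (fun h0 => by simp [h0] at hd) (chi_ne hω _))]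
          · rw [if_neg hpr, if_neg fun h => hpr (hk.trans h.symm), map_zero, mul_zero]
        · rw [if_neg hk, zero_mul, if_neg fun h => hk (by rw [h]; simp)]
      simp only [Matrix.mul_apply, Matrix.transpose_apply, Matrix.map_apply, this,
        Finset.sum_ite_eq', Finset.mem_univ, if_true, Matrix.one_apply]
    set W := pureT fun i => (ε i : Mat 3 F) with hW
    have hWW : Wᵀ * W.map σ = 1 := by
      have eT : Wᵀ = pureT fun i => (ε i : Mat 3 F)ᵀ := by ext a b; simp [hW, pureT_apply]
      have eM : W.map σ = pureT fun i => (ε i : Mat 3 F).map σ := by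
        ext a b; simp [hW, pureT_apply]
      rw [eT, eM, ← pureT_mul, ← pureT_one]
      congr 1
      funext i
      exact hU i
    obtain ⟨x, hx⟩ : ∃ x : (Fin t → Fin 3) → F, (P : Mat n F) *ᵥ (x ∘ e) = u :=
      ⟨(((P⁻¹ : GL (Fin n) F) : Mat n F) *ᵥ u) ∘ e.symm, by
        rw [show ((((P⁻¹ : GL (Fin n) F) : Mat n F) *ᵥ u) ∘ e.symm) ∘ e = ((P⁻¹ : GL (Fin n) F) : Mat n F) *ᵥ u
          by funext i; simp, Matrix.mulVec_mulVec, Units.mul_inv, Matrix.one_mulVec]⟩
    obtain ⟨y, hy⟩ : ∃ y : (Fin t → Fin 3) → F, (P : Mat n F) *ᵥ (y ∘ e) = v :=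
      ⟨(((P⁻¹ : GL (Fin n) F) : Mat n F) *ᵥ v) ∘ e.symm, by
        rw [show ((((P⁻¹ : GL (Fin n) F) : Mat n F) *ᵥ v) ∘ e.symm) ∘ e = ((P⁻¹ : GL (Fin n) F) : Mat n F) *ᵥ v
          by funext i; simp, Matrix.mulVec_mulVec, Units.mul_inv, Matrix.one_mulVec]⟩
    have hact : ∀ z : (Fin t → Fin 3) → F, (ψ ε : Mat n F) *ᵥ ((P : Mat n F) *ᵥ (z ∘ e)) =
        (P : Mat n F) *ᵥ ((W *ᵥ z) ∘ e) := by
      intro z
      rw [hψval, ← Matrix.mulVec_mulVec, ← Matrix.mulVec_mulVec,
        Matrix.mulVec_mulVec _ ((P⁻¹ : GL (Fin n) F) : Mat n F), Units.inv_mul, Matrix.one_mulVec]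
      congr 1
      funext i
      simp only [Matrix.mulVec, dotProduct, Function.comp_apply]
      rw [← e.symm.sum_comp]
      refine Finset.sum_congr rfl fun p _ => ?_
      simp [hW]
    rw [← hx, ← hy, hact, hact, hval, hval]
    congr 1
    have h1 : ∀ a b : (Fin t → Fin 3) → F, (∑ k, a k * σ (b k)) = a ⬝ᵥ (σ ∘ b) := fun a b => rfl
    have h2' : σ ∘ (W *ᵥ y) = W.map σ *ᵥ (σ ∘ y) := by
      funext i; exact RingHom.map_mulVec σ _ _ i
    rw [h1, h1, h2', Matrix.dotProduct_mulVec, ← Matrix.vecMul_transpose, Matrix.vecMul_vecMul, hWW,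
      Matrix.vecMul_one]
  have hsym : SymType 3 R := by
    refine ⟨Nat.prime_three, ?_, ?_, ?_, ?_, ?_⟩
    · rintro _ ⟨α, hα, rfl⟩ _ ⟨β, hβ, rfl⟩
      choose z hz using fun i => inE_comm hω ((hEE α).mp hα i) ((hEE β).mp hβ i)
      have h : (ψ α * ψ β : GL (Fin n) F).1 = (∏ i, z i) • (ψ β * ψ α : GL (Fin n) F).1 := by
        rw [← map_mul, ← map_mul, hψval, hψval,
          show (pureT fun i => ((α * β) i : Mat 3 F)) = (∏ i, z i) • pureT fun i => ((β * α) i : Mat 3 F) by
            rw [← hpureZ]; congr 1; funext i; exact hz i,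
          map_smul, Matrix.mul_smul, Matrix.smul_mul]
      refine mem_scalars_of_eq (by omega) (c := ∏ i, z i) ?_
      calc ((ψ α * ψ β * (ψ α)⁻¹ * (ψ β)⁻¹ : GL (Fin n) F) : Mat n F)
          = (ψ α * ψ β : GL (Fin n) F).1 * ((ψ β * ψ α : GL (Fin n) F)⁻¹ : GL (Fin n) F).1 := by
            rw [← Units.val_mul, _root_.mul_inv_rev]; simp only [mul_assoc]
        _ = _ := by rw [h, Matrix.smul_mul, Units.mul_inv]
    · rintro _ ⟨α, hα, rfl⟩
      rw [show Nat.gcd 2 3 = 1 from rfl, mul_one, ← map_pow]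
      have : α ^ 3 = 1 := funext fun i => Units.ext (by
        rw [Pi.pow_apply, Units.val_pow_eq_pow_val, pow_three, ← mul_assoc]
        exact inE_cube hω ((hEE α).mp hα i))
      rw [this, map_one]
    · rw [eq_top_iff]
      intro M _
      obtain ⟨N, rfl⟩ : ∃ N, M = (P : Mat n F) * Matrix.reindexAlgEquiv F F e.symm N *
          ((P⁻¹ : GL (Fin n) F) : Mat n F) :=
        ⟨(Matrix.reindexAlgEquiv F F e.symm).symm
          (((P⁻¹ : GL (Fin n) F) : Mat n F) * M * (P : Mat n F)), by
          rw [AlgEquiv.apply_symm_apply]; simp [mul_assoc]⟩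
      rw [Matrix.matrix_eq_sum_single N]
      simp only [map_sum, Finset.mul_sum, Finset.sum_mul]
      refine Subalgebra.sum_mem _ fun p _ => Subalgebra.sum_mem _ fun r _ => ?_
      rw [show Matrix.single p r (N p r) = N p r • Matrix.single p r (1 : F) by simp,
        map_smul, Matrix.mul_smul, Matrix.smul_mul]
      refine Subalgebra.smul_mem _ ?_ _
      have hs : (Matrix.single p r (1 : F)) = ∑ b : Fin t → Fin 3, (∏ i, chi ω (-(b i * p i))) •
          pureT fun i => gmat ω (r i - p i) (b i) 1 := by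
        have h1 : (Matrix.single p r (1 : F)) = pureT fun i => (Matrix.single (p i) (r i) (1 : F) : Mat 3 F) := by
          ext x y
          rw [pureT_apply, Matrix.single_apply]
          by_cases h : p = x ∧ r = y
          · obtain ⟨rfl, rfl⟩ := h; simp
          · rw [if_neg h]
            obtain ⟨i, hi⟩ : ∃ i, ¬(p i = x i ∧ r i = y i) := by
              by_contra hh
              push Not at hh
              exact h ⟨funext fun i => (hh i).1, funext fun i => (hh i).2⟩
            exact (Finset.prod_eq_zero (Finset.mem_univ i) (by rw [Matrix.single_apply, if_neg hi])).symm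
        rw [h1]
        ext x y
        rw [Matrix.sum_apply, pureT_apply]
        simp only [Matrix.smul_apply, pureT_apply, smul_eq_mul, ← Finset.prod_mul_distrib]
        rw [← Fintype.piFinset_univ, ← Finset.prod_univ_sum (fun _ => Finset.univ)
          fun i b => chi ω (-(b * p i)) * gmat ω (r i - p i) b 1 (x i) (y i)]
        refine Finset.prod_congr rfl fun i _ => ?_
        have := congrFun (congrFun (single_eq_sum hω hω1 h2 (p i) (r i - p i)) (x i)) (y i)
        rw [add_sub_cancel, Matrix.sum_apply] at this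
        simpa using this
      rw [hs]
      simp only [map_sum, Finset.mul_sum, Finset.sum_mul, map_smul, Matrix.mul_smul, Matrix.smul_mul]
      refine Subalgebra.sum_mem _ fun b _ => Subalgebra.smul_mem _ ?_ _
      have hu : ∀ i, IsUnit (gmat ω (r i - p i) (b i) 1) := fun i =>
        IsUnit.of_mul_eq_one _ (by
          rw [← mul_assoc]; exact inE_cube hω ⟨_, _, 1, one_pow 3, rfl⟩)
      let ε : Fin t → GL (Fin 3) F := fun i => (hu i).unit
      have hε : ∀ i, (ε i : Mat 3 F) = gmat ω (r i - p i) (b i) 1 := fun i => (hu i).unit_spec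
      have hmem : ψ ε ∈ R :=
        Subgroup.mem_map_of_mem ψ ((hEE ε).mpr fun i => ⟨r i - p i, b i, 1, one_pow 3, hε i⟩)
      have hm := mem_algOf hmem
      rw [hψval, funext hε] at hm
      exact hm
    · rw [Nat.card_eq_fintype_card, hF]
    · intro x hx hxe
      rw [show Nat.gcd 2 3 = 1 from rfl, mul_one] at hxe
      obtain ⟨d, hd⟩ := (mem_scalars_iff x).mp hx
      have hd3 : (d : F) ^ 3 = 1 := scalar_pow_eq_one (by omega) hd hxe
      have hu : ∀ i : Fin t, IsUnit ((if (i : ℕ) = 0 then (d : F) else 1) • (1 : Mat 3 F)) := fun i =>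
        (Matrix.isUnit_iff_isUnit_det _).mpr (by
          rw [Matrix.det_smul, Matrix.det_one, mul_one]
          exact (IsUnit.mk0 _ (by split <;> simp)).pow _)
      refine ⟨fun i => (hu i).unit, (hEE _).mpr fun i => ?_, Units.ext ?_⟩
      · exact inE_scalar hω (by split <;> simp [hd3])
      · rw [hd, hψval]
        show (P : Mat n F) * Matrix.reindexAlgEquiv F F e.symm
          (pureT fun i : Fin t => (if (i : ℕ) = 0 then (d : F) else 1) • (1 : Mat 3 F)) * _ = _
        rw [hpureZ, show (fun _ : Fin t => (1 : Mat 3 F)) = 1 from rfl, pureT_one, map_smul, map_one,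
          Matrix.mul_smul, mul_one, Matrix.smul_mul, Units.mul_inv]
        congr 1
        rw [Finset.prod_eq_single (⟨0, by omega⟩ : Fin t)]
        · simp
        · intro i _ hi; rw [if_neg fun h => hi (Fin.ext h)]
        · simp
  -- the unitary tuples
  let U : Subgroup (GL (Fin n) F) := (Subgroup.normalizer (EE : Set (Fin t → GL (Fin 3) F))).map ψ
  have hUn : ∀ h ∈ U, ∀ x ∈ R, h * x * h⁻¹ ∈ R := by
    rintro _ ⟨A, hA, rfl⟩ _ ⟨α, hα, rfl⟩
    exact ⟨A * α * A⁻¹, (Subgroup.mem_normalizer_iff.mp hA α).mp hα, by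
      rw [map_mul, map_mul, map_inv]⟩
  have hnorm_of : ∀ A : Fin t → GL (Fin 3) F,
      (∀ i, ∃ μ : F, μ ≠ 0 ∧ (A i : Mat 3 F)ᵀ * (A i : Mat 3 F).map σ = μ • 1) →
      A ∈ Subgroup.normalizer (EE : Set (Fin t → GL (Fin 3) F)) := by
    intro A hA
    have hfwd : ∀ α ∈ EE, A * α * A⁻¹ ∈ EE := fun α hα => (hEE _).mpr fun i => by
      obtain ⟨μ, hμ, hμA⟩ := hA i
      exact conj_inE hF hσ hω hω1 hμ hμA ((hEE α).mp hα i)
    refine Subgroup.mem_normalizer_iff.mpr fun α => ⟨hfwd α, fun h => ?_⟩
    let C : EE → EE := fun x => ⟨A * x.1 * A⁻¹, hfwd x.1 x.2⟩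
    have hC : Function.Injective C := fun x y hxy => Subtype.ext (by
      have h' : A * x.1 * A⁻¹ = A * y.1 * A⁻¹ := congrArg Subtype.val hxy
      simpa using h')
    obtain ⟨x, hx⟩ := Finite.surjective_of_injective hC ⟨_, h⟩
    have : x.1 = α := by simpa [C] using congrArg Subtype.val hx
    exact this ▸ x.2
  have hab : ∀ S ≤ R, (∀ h ∈ U, ∀ x ∈ S, h * x * h⁻¹ ∈ S) → (∀ x ∈ S, ∀ y ∈ S, x * y = y * x) →
      S ≤ scalars (Fin n) F := by
    intro S hS hSn hSc
    rintro x hxS
    obtain ⟨α, hα, rfl⟩ := hS hxS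
    choose a b d hd hαi using (hEE α).mp hα
    have hzero : ∀ i, a i = 0 ∧ b i = 0 := by
      intro i
      have hFu : IsUnit (dft ω) := by
        refine (Matrix.isUnit_iff_isUnit_det _).mpr (IsUnit.mk0 _ ?_)
        simp only [dft, Matrix.det_fin_three, Matrix.of_apply, chi]
        show _ ≠ (0 : F)
        intro h
        have hs : 1 + ω + ω ^ 2 = 0 := by
          have h : (ω - 1) * (1 + ω + ω ^ 2) = 0 := by linear_combination hω
          exact (mul_eq_zero.mp h).resolve_left (sub_ne_zero.mpr hω1)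
        simp at h
        have : (ω - ω ^ 2) * 3 = 0 := by linear_combination -h - ω * hω
        rcases mul_eq_zero.mp this with h' | h'
        · exact hω1 (mul_left_cancel₀ hω0 (by linear_combination -h'))
        · exact one_ne_zero (α := F) (by linear_combination h' - h2)
      set Φ : Fin t → GL (Fin 3) F := Pi.mulSingle i hFu.unit
      have hΦU : ψ Φ ∈ U := by
        refine ⟨Φ, hnorm_of Φ fun j => ?_, rfl⟩
        refine ⟨1, one_ne_zero, ?_⟩
        by_cases hj : j = i
        · subst hj
          simp only [Φ, Pi.mulSingle_eq_same, IsUnit.unit_spec, one_smul]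
          ext p r
          simp only [Matrix.mul_apply, Matrix.transpose_apply, Matrix.map_apply, dft, Matrix.of_apply]
          have hσc : ∀ k, σ (chi ω k) = chi ω (-k) := fun k => by
            refine mul_left_cancel₀ (chi_ne hω k) ?_
            rw [← chi_add hω, add_neg_cancel, chi_zero hω, hσ]
            linear_combination chi_pow_three hω k
          rw [Finset.sum_congr rfl fun k _ => show chi ω (k * p) * σ (chi ω (k * r)) = chi ω (k * (p - r)) by
            rw [hσc, ← chi_add hω, (by decide : ∀ k p r : Fin 3, k * p + -(k * r) = k * (p - r)) k p r],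
            sum_chi hω hω1 h2, Matrix.one_apply]
          exact if_congr sub_eq_zero rfl rfl
        · simp [Φ, Pi.mulSingle_eq_of_ne hj]
      set β : Fin t → GL (Fin 3) F := Φ * (Φ * α * Φ⁻¹) * Φ⁻¹ * α⁻¹ with hβdef
      have hβS : ψ β ∈ S := by
        rw [hβdef, map_mul, map_mul, map_mul, map_mul, map_mul, map_inv, map_inv]
        exact S.mul_mem (hSn _ hΦU _ (hSn _ hΦU _ hxS)) (S.inv_mem hxS)
      have hγS : ψ (Φ * β * Φ⁻¹) ∈ S := by
        rw [map_mul, map_mul, map_inv]
        exact hSn _ hΦU _ hβS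
      have hcomm := hSc _ hβS _ hγS
      rw [← map_mul, ← map_mul] at hcomm
      have hval' := congrArg (fun g : GL (Fin n) F => (g : Mat n F)) hcomm
      simp only [hψval] at hval'
      have hpure : (pureT fun j => ((β * (Φ * β * Φ⁻¹)) j : Mat 3 F)) =
          pureT fun j => ((Φ * β * Φ⁻¹ * β) j : Mat 3 F) :=
        (Matrix.reindexAlgEquiv F F e.symm).injective
          (P.isUnit.mul_right_injective ((P⁻¹).isUnit.mul_left_injective hval'))
      -- only the factor `i` is moved
      have hβj : ∀ j, j ≠ i → β j = 1 := fun j hj => by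
        simp [hβdef, Φ, Pi.mulSingle_eq_of_ne hj]
      have hpt : ((β * (Φ * β * Φ⁻¹)) i : Mat 3 F) = ((Φ * β * Φ⁻¹ * β) i : Mat 3 F) := by
        ext p r
        have h := congrFun (congrFun hpure (Function.update (fun _ => (0 : Fin 3)) i p))
          (Function.update (fun _ => (0 : Fin 3)) i r)
        rw [pureT_apply, pureT_apply, ← Finset.mul_prod_erase _ _ (Finset.mem_univ i),
          ← Finset.mul_prod_erase _ _ (Finset.mem_univ i)] at h
        have h1 : ∀ (γ : Fin t → GL (Fin 3) F), (∀ j, j ≠ i → γ j = 1) →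
            (∏ j ∈ Finset.univ.erase i, (γ j : Mat 3 F)
              (Function.update (fun _ => (0 : Fin 3)) i p j)
              (Function.update (fun _ => (0 : Fin 3)) i r j)) = 1 := fun γ hγ =>
          Finset.prod_eq_one fun j hj => by
            have hj' := (Finset.mem_erase.mp hj).1
            rw [Function.update_of_ne hj', Function.update_of_ne hj', hγ j hj']
            simp
        rw [h1 _ (fun j hj => by simp [hβj j hj]), h1 _ (fun j hj => by simp [hβj j hj]), mul_one,
          mul_one, Function.update_self, Function.update_self] at h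
        exact h
      have hΦg : ∀ (g : GL (Fin 3) F) (a b : Fin 3) (d : F), (g : Mat 3 F) = gmat ω a b d →
          ((Φ i * g * (Φ i)⁻¹ : GL (Fin 3) F) : Mat 3 F) = gmat ω b (-a) (d * chi ω (-(b * a))) := by
        intro g a b d hg
        rw [Units.val_mul, Units.val_mul, hg, show (Φ i : Mat 3 F) = dft ω by simp [Φ],
          dft_gmat hω hω1 h2, mul_assoc,
          show dft ω * ((Φ i)⁻¹ : GL (Fin 3) F).1 = 1 by
            rw [show dft ω = (Φ i : Mat 3 F) by simp [Φ], Units.mul_inv], mul_one]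
      have hαinv : ((α i)⁻¹ : GL (Fin 3) F).1 = gmat ω (a i + a i) (b i + b i)
          (d i * d i * chi ω (b i * a i)) := by
        rw [show (α i)⁻¹ = α i * α i from inv_eq_of_mul_eq_one_right (Units.ext (by
          rw [Units.val_mul, Units.val_mul, ← mul_assoc]; exact inE_cube hω ((hEE α).mp hα i))),
          Units.val_mul, hαi, gmat_mul hω]
      obtain ⟨d₁, hd₁, hβi⟩ : ∃ d₁ : F, d₁ ≠ 0 ∧ (β i : Mat 3 F) = gmat ω (a i) (b i) d₁ := by
        have h2a := hΦg _ _ _ _ (hΦg (α i) _ _ _ (hαi i))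
        have e1 : (β i : Mat 3 F) = gmat ω (-(a i)) (-(b i))
            (d i * chi ω (-(b i * a i)) * chi ω (-(-(a i) * b i))) *
            gmat ω (a i + a i) (b i + b i) (d i * d i * chi ω (b i * a i)) := by
          rw [← h2a, ← hαinv, ← Units.val_mul]
          rfl
        rw [gmat_mul hω, (by decide : ∀ a : Fin 3, -a + (a + a) = a) (a i),
          (by decide : ∀ a : Fin 3, -a + (a + a) = a) (b i)] at e1
        have hdi : d i ≠ 0 := fun h => by simpa [h] using hd i
        exact ⟨_, mul_ne_zero (mul_ne_zero (mul_ne_zero (mul_ne_zero hdi (chi_ne hω _)) (chi_ne hω _))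
          (mul_ne_zero (mul_ne_zero hdi hdi) (chi_ne hω _))) (chi_ne hω _), e1⟩
      simp only [Pi.mul_apply, Pi.inv_apply] at hpt
      rw [Units.val_mul (β i), Units.val_mul (Φ i * β i * (Φ i)⁻¹), hΦg _ _ _ _ hβi, hβi] at hpt
      have h := eq_of_commute hω hd₁ (mul_ne_zero hd₁ (chi_ne hω _)) hω1 hpt
      exact (by decide : ∀ a b : Fin 3, -a * a = b * b → a = 0 ∧ b = 0) (a i) (b i) h
    refine mem_scalars_of_eq (by omega) (c := ∏ i, d i) ?_
    rw [hψval, show (pureT fun i => (α i : Mat 3 F)) = pureT fun i => d i • (1 : Mat 3 F) by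
      congr 1
      funext i
      rw [hαi, (hzero i).1, (hzero i).2]
      ext p r
      simp [gmat, Matrix.one_apply, chi, eq_comm], hpureZ,
      show (fun _ : Fin t => (1 : Mat 3 F)) = 1 from rfl, pureT_one, map_smul, map_one,
      Matrix.mul_smul, mul_one, Matrix.smul_mul, Units.mul_inv]
  have hcentre : Nat.card (Subgroup.center R) = 3 := by
    rw [hsym.card_center (by omega) (by rw [Nat.card_eq_fintype_card, hF]; decide)]
    rfl
  refine ⟨R, hsym.symplecticType hn2 hUn hab, full_absIrred (by omega) hsym.full, ?_, hcentre, ?_,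
    fun h hh => ?_⟩
  · rintro _ ⟨α, hα, rfl⟩
    exact ⟨1, fun u v => by rw [Units.val_one, one_mul]; exact hfix α hα u v⟩
  · rw [hsym.card_eq (by omega), hcentre, hn]
    ring
  · obtain ⟨A, π, rfl, hA⟩ := wreath_similitude (by norm_num) hc0 hval (hle hh)
      fun u v => hH _ (mem_matrixSet hh) u v
    set g := MulAut.conj P (glReindex e.symm (pureUnit A * permUnit π)) with hg
    have hfwd : ∀ x ∈ R, g * x * g⁻¹ ∈ R := by
      rintro _ ⟨α, hα, rfl⟩
      refine ⟨A * (fun i => α (π.symm i)) * A⁻¹,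
        (Subgroup.mem_normalizer_iff.mp (hnorm_of A hA) _).mp ((hEE _).mpr fun i => (hEE α).mp hα _), ?_⟩
      have hsw : permUnit π * pureUnit α = pureUnit (fun i => α (π.symm i)) * permUnit π :=
        Units.ext (perm_pure π fun i => (α i : Mat 3 F))
      have hinv : pureUnit A⁻¹ = (pureUnit A)⁻¹ := map_inv (MonoidHom.mk' pureUnit hmul) A
      show MulAut.conj P (glReindex e.symm (pureUnit (A * (fun i => α (π.symm i)) * A⁻¹))) =
        g * MulAut.conj P (glReindex e.symm (pureUnit α)) * g⁻¹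
      rw [hg, ← map_inv, ← map_mul, ← map_mul, ← map_inv, ← map_mul, ← map_mul]
      congr 2
      rw [hmul, hmul, hinv, mul_assoc (pureUnit A) (permUnit π), hsw, _root_.mul_inv_rev]
      group
    refine Subgroup.mem_normalizer_iff.mpr fun x => ⟨hfwd x, fun hx => ?_⟩
    let C : R → R := fun y => ⟨g * y.1 * g⁻¹, hfwd y.1 y.2⟩
    have hC : Function.Injective C := fun y z hyz => Subtype.ext (by
      have h' : g * y.1 * g⁻¹ = g * z.1 * g⁻¹ := congrArg Subtype.val hyz
      simpa using h')
    obtain ⟨y, hy⟩ := Finite.surjective_of_injective hC ⟨_, hx⟩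
    have : y.1 = x := by simpa [C] using congrArg Subtype.val hy
    exact this ▸ y.2

end CfsgLib.Classical.AschForm
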