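import Cfsg.Agent.Lib.Classical.AschForm.UnitaryPair
import Cfsg.Agent.Lib.Classical.AschForm.UnitaryThree

/-!
# Over four elements a cubic field normaliser in dimension six is of symplectic type
-/

set_option autoImplicit false
set_option linter.unusedSectionVars false

namespace CfsgLib.Classical.AschForm

open Matrix Cfsg Cfsg.Geo CfsgLib.Classical.AschPrime CfsgLib.Classical.AschGen
open scoped MatrixGroups

variable {F : Type*} [Field F] [Fintype F] {n : ℕ} {σ : F →+* F}

/-- An element of order nine of a cubic field with respect to four elements. -/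
theorem exists_cube_root (hF : Fintype.card F = 4) (hσ : ∀ x, σ x = x ^ 2) (hc : IsConjugation σ)
    (hn : 0 < n) {K : Subalgebra F (Mat n F)} (hK : IsFieldSubalgebra 3 K)
    (hadj : IsAdjointClosedFor (Cfsg.hermForm n F 2) K) :
    ∃ (ω : F) (z : Mat n F), ω * ω + ω + 1 = 0 ∧ z * (z * z) = ω • 1 ∧
      (∀ u v, Cfsg.hermForm n F 2 (z *ᵥ u) (z *ᵥ v) = Cfsg.hermForm n F 2 u v) ∧
      ∀ g ∈ subalgebraNormalizer K, ∃ j : Fin 3,
        (g : Mat n F) * z = ω ^ (j : ℕ) • (z * (g : Mat n F)) := by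
  classical
  haveI : NeZero n := ⟨hn.ne'⟩
  letI : Field K := IsField.toField
    { exists_pair_ne := ⟨0, 1, fun h => zero_ne_one (α := Mat n F) (congrArg Subtype.val h)⟩
      mul_comm := fun a b => Subtype.ext (hK.comm a a.2 b b.2)
      mul_inv_cancel := fun {a} ha => by
        obtain ⟨b, hb, hab⟩ := hK.inv a a.2 fun h => ha (Subtype.ext h)
        exact ⟨⟨b, hb⟩, Subtype.ext hab⟩ }
  haveI : Finite K := inferInstance
  have hcardK : Nat.card K = 64 := by
    rw [Module.natCard_eq_pow_finrank (K := F) (V := K), hK.finrank_eq, Nat.card_eq_fintype_card, hF]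
    norm_num
  obtain ⟨w, hw⟩ := IsCyclic.exists_ofOrder_eq_natCard (α := Kˣ)
  have hw63 : orderOf w = 63 := by rw [hw, Nat.card_units, hcardK]
  set Z : K := ((w ^ 7 : Kˣ) : K) with hZ
  have hZ9 : Z ^ 9 = 1 := by
    rw [hZ, ← Units.val_pow_eq_pow_val, ← pow_mul, show 7 * 9 = 63 from rfl, ← hw63, pow_orderOf_eq_one,
      Units.val_one]
  have hZ3 : Z ^ 3 ≠ 1 := fun h => by
    rw [hZ, ← Units.val_pow_eq_pow_val, Units.val_eq_one, ← pow_mul] at h
    have := Nat.le_of_dvd (by norm_num) (orderOf_dvd_of_pow_eq_one h)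
    omega
  obtain ⟨a, ha0, ha1⟩ : ∃ a : F, a ≠ 0 ∧ a ≠ 1 := by
    by_contra hall
    push Not at hall
    have : (Finset.univ : Finset F) ⊆ {0, 1} := fun x _ => by
      by_cases hx : x = 0
      · simp [hx]
      · simp [hall x hx]
    have h := Finset.card_le_card this
    rw [Finset.card_univ, hF] at h
    exact absurd (h.trans Finset.card_le_two) (by norm_num)
  have ha3 := four_cube hF ha0
  have hasum : a * a + a + 1 = 0 := by
    have h : (a - 1) * (a * a + a + 1) = 0 := by linear_combination ha3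
    exact (mul_eq_zero.mp h).resolve_left (sub_ne_zero.mpr ha1)
  obtain ⟨ω, hω, hZω⟩ : ∃ ω : F, ω * ω + ω + 1 = 0 ∧ Z ^ 3 = algebraMap F K ω := by
    have e1 : algebraMap F K a * algebraMap F K a + algebraMap F K a + 1 = 0 := by
      rw [← map_mul, ← map_add, ← map_one (algebraMap F K), ← map_add, hasum, map_zero]
    have e3 : algebraMap F K a * algebraMap F K a * algebraMap F K a = 1 := by
      rw [← map_mul, ← map_mul, show a * a * a = 1 by linear_combination ha3, map_one]
    have hfac : (Z ^ 3 - 1) * ((Z ^ 3 - algebraMap F K a) * (Z ^ 3 - algebraMap F K a * algebraMap F K a)) = 0 := by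
      linear_combination hZ9 + (Z ^ 3 - Z ^ 6) * e1 + (Z ^ 3 - 1) * e3
    rcases mul_eq_zero.mp hfac with h | h
    · exact absurd (sub_eq_zero.mp h) hZ3
    rcases mul_eq_zero.mp h with h | h
    · exact ⟨a, hasum, sub_eq_zero.mp h⟩
    · refine ⟨a * a, ?_, by rw [map_mul]; exact sub_eq_zero.mp h⟩
      linear_combination (a * a - a + 1) * hasum
  have hω3 : ω * ω * ω = 1 := by linear_combination (ω - 1) * hω
  set z : Mat n F := (Z : Mat n F) with hz
  have hz3 : z * (z * z) = ω • 1 := by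
    have h := congrArg Subtype.val hZω
    rw [SubmonoidClass.coe_pow, Subalgebra.coe_algebraMap, Algebra.algebraMap_eq_smul_one] at h
    rw [← h, hz, pow_succ, pow_two, mul_assoc]
  have hroots : ∀ X ∈ K, X * (X * X) = ω • 1 → ∃ j : Fin 3, X = ω ^ (j : ℕ) • z := by
    intro X hX hX3
    set x : K := ⟨X, hX⟩
    have hx : x * (x * x) = Z ^ 3 := by
      rw [hZω]
      exact Subtype.ext (by rw [Subalgebra.coe_algebraMap, Algebra.algebraMap_eq_smul_one]; exact hX3)
    set W := algebraMap F K ω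
    have e1 : W * W + W + 1 = 0 := by
      rw [← map_mul, ← map_add, ← map_one (algebraMap F K), ← map_add, hω, map_zero]
    have e3 : W * W * W = 1 := by rw [← map_mul, ← map_mul, hω3, map_one]
    have hfac : (x - Z) * ((x - W * Z) * (x - W * W * Z)) = 0 := by
      linear_combination hx + (-(x * x * Z) + W * x * Z * Z) * e1 - Z ^ 3 * e3
    have key : ∀ c : F, x = algebraMap F K c * Z → X = c • z := fun c h => by
      have h' := congrArg Subtype.val h
      rw [Subalgebra.coe_mul, Subalgebra.coe_algebraMap, Algebra.algebraMap_eq_smul_one, Matrix.smul_mul,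
        one_mul] at h'
      exact h'
    rcases mul_eq_zero.mp hfac with h | h
    · exact ⟨0, key _ (by rw [Fin.val_zero, pow_zero, map_one, one_mul]; exact sub_eq_zero.mp h)⟩
    rcases mul_eq_zero.mp h with h | h
    · exact ⟨1, key _ (by rw [show ((1 : Fin 3) : ℕ) = 1 from rfl, pow_one]; exact sub_eq_zero.mp h)⟩
    · exact ⟨2, key _ (by rw [show ((2 : Fin 3) : ℕ) = 2 from rfl, pow_two, map_mul]; exact sub_eq_zero.mp h)⟩
  have hiso : ∀ u v, Cfsg.hermForm n F 2 (z *ᵥ u) (z *ᵥ v) = Cfsg.hermForm n F 2 u v := by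
    obtain ⟨y, hy, hyz⟩ := hadj z Z.2
    have hs := herm_sesq (n := n) hσ
    -- the adjoint times the element is a cube root of one
    have hy3 : ∀ u v, Cfsg.hermForm n F 2 u ((y * (y * y)) *ᵥ v) = ω * Cfsg.hermForm n F 2 u v := by
      intro u v
      rw [← Matrix.mulVec_mulVec, ← Matrix.mulVec_mulVec, ← hyz, ← hyz, ← hyz, Matrix.mulVec_mulVec,
        Matrix.mulVec_mulVec, mul_assoc, hz3, Matrix.smul_mulVec, Matrix.one_mulVec, hs.smul_left]
    set Y : K := ⟨y, hy⟩
    have hY3 : Y * (Y * Y) = algebraMap F K (σ ω) := by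
      refine Subtype.ext ?_
      rw [Subalgebra.coe_algebraMap, Algebra.algebraMap_eq_smul_one]
      show y * (y * y) = _
      refine Matrix.ext_of_mulVec_single fun i => ?_
      by_contra hne
      obtain ⟨⟨x, hx⟩, -⟩ := herm_nondeg (n := n) hσ _ (sub_ne_zero.mpr hne)
      refine hx ?_
      rw [Matrix.smul_mulVec, Matrix.one_mulVec, sub_eq_add_neg, hs.add_right, hy3, ← neg_smul,
        hs.smul_right, map_neg, hc.invol]
      ring
    set P := Y * Z
    have hP : P * (P * P) = 1 := by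
      calc P * (P * P) = (Y * (Y * Y)) * Z ^ 3 := by ring
        _ = 1 := by
          rw [hY3, hZω, ← map_mul, hσ, show ω ^ 2 * ω = 1 by linear_combination hω3, map_one]
    obtain ⟨c, hPc⟩ : ∃ c : F, P = algebraMap F K c := by
      set A := algebraMap F K a
      have e1 : A * A + A + 1 = 0 := by
        rw [← map_mul, ← map_add, ← map_one (algebraMap F K), ← map_add, hasum, map_zero]
      have e3 : A * A * A = 1 := by rw [← map_mul, ← map_mul, show a * a * a = 1 by linear_combination ha3, map_one]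
      have hfac : (P - 1) * ((P - A) * (P - A * A)) = 0 := by
        linear_combination hP + (P * A - P * P) * e1 - e3
      rcases mul_eq_zero.mp hfac with h | h
      · exact ⟨1, by rw [map_one]; exact sub_eq_zero.mp h⟩
      rcases mul_eq_zero.mp h with h | h
      · exact ⟨a, sub_eq_zero.mp h⟩
      · exact ⟨a * a, by rw [map_mul]; exact sub_eq_zero.mp h⟩
    have hsim : ∀ u v, Cfsg.hermForm n F 2 (z *ᵥ u) (z *ᵥ v) = σ c * Cfsg.hermForm n F 2 u v := by
      intro u v
      have h := congrArg Subtype.val hPc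
      rw [Subalgebra.coe_algebraMap, Algebra.algebraMap_eq_smul_one] at h
      change y * z = _ at h
      rw [hyz, Matrix.mulVec_mulVec, h, Matrix.smul_mulVec, Matrix.one_mulVec, hs.smul_right]
    -- the multiplier is fixed
    let e : Fin n → F := Pi.single ⟨0, hn⟩ 1
    have he : Cfsg.hermForm n F 2 e e = 1 := by simp [e, herm_single_right hσ]
    have hfix : σ (σ c) = σ c := by
      have h1 := herm_symm hσ hc (z *ᵥ e) (z *ᵥ e)
      rwa [hsim, he, mul_one] at h1
    have hc1 : σ c = 1 := by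
      rw [hc.invol] at hfix
      have hc0 : c ≠ 0 := fun h0 => by
        rw [h0, map_zero] at hPc
        rw [hPc, zero_mul] at hP
        exact zero_ne_one hP
      rw [hσ] at hfix
      rw [hσ]
      exact hfix.symm.trans (mul_left_cancel₀ hc0 (by rw [mul_one, ← pow_two]; exact hfix.symm))
    intro u v
    rw [hsim, hc1, one_mul]
  refine ⟨ω, z, hω, hz3, hiso, fun g hg => ?_⟩
  set X := (g : Mat n F) * z * ((g⁻¹ : GL (Fin n) F) : Mat n F)
  have hX3 : X * (X * X) = ω • 1 := by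
    simp only [X, mul_assoc, Units.inv_mul_cancel_left]
    rw [show (g : Mat n F) * (z * (z * (z * ((g⁻¹ : GL (Fin n) F) : Mat n F)))) =
      (g : Mat n F) * (z * (z * z)) * ((g⁻¹ : GL (Fin n) F) : Mat n F) by simp only [mul_assoc],
      hz3, Matrix.mul_smul, mul_one, Matrix.smul_mul, Units.mul_inv]
  obtain ⟨j, hj⟩ := hroots X ((hg z).mp Z.2) hX3
  refine ⟨j, ?_⟩
  rw [← Matrix.smul_mul, ← hj, Units.inv_mul_cancel_right]

section Frame

variable (hF : Fintype.card F = 4) (hσ : ∀ x, σ x = x ^ 2) (hc : IsConjugation σ) {ω : F}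
  (hω : ω * ω + ω + 1 = 0) {z : Mat n F} (hz : z * (z * z) = ω • 1)
  (hiso : ∀ u v, Cfsg.hermForm n F 2 (z *ᵥ u) (z *ᵥ v) = Cfsg.hermForm n F 2 u v)
include hF hσ hc hω hz hiso

theorem orbit_gram (v : Fin n → F) (h1 : Cfsg.hermForm n F 2 v v = 1)
    (h0 : Cfsg.hermForm n F 2 (z *ᵥ v) v = 0) :
    ∀ i j : Fin 3, Cfsg.hermForm n F 2 ((z ^ (i : ℕ)) *ᵥ v) ((z ^ (j : ℕ)) *ᵥ v) =
      if i = j then 1 else 0 := by
  have h0' : Cfsg.hermForm n F 2 v (z *ᵥ v) = 0 := herm_eq_zero_comm hσ hc h0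
  have h2 : Cfsg.hermForm n F 2 ((z * z) *ᵥ v) v = 0 := by
    rw [← hiso, Matrix.mulVec_mulVec, hz, Matrix.smul_mulVec, Matrix.one_mulVec,
      (herm_sesq hσ).smul_left, h0', mul_zero]
  have h2' : Cfsg.hermForm n F 2 v ((z * z) *ᵥ v) = 0 := herm_eq_zero_comm hσ hc h2
  rw [← Matrix.mulVec_mulVec] at h2 h2'
  intro i j
  fin_cases i <;> fin_cases j <;>
    simp [pow_two, ← Matrix.mulVec_mulVec, hiso, h1, h0, h0', h2, h2']

theorem exists_orbit_vector {v : Fin n → F} (hv : Cfsg.hermForm n F 2 v v ≠ 0) :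
    ∃ a : F, Cfsg.hermForm n F 2 (v + a • (z *ᵥ v)) (v + a • (z *ᵥ v)) = 1 ∧
      Cfsg.hermForm n F 2 (z *ᵥ (v + a • (z *ᵥ v))) (v + a • (z *ᵥ v)) = 0 := by
  have hs := herm_sesq (n := n) hσ
  have h2 := four_two hF
  set μ := Cfsg.hermForm n F 2 (z *ᵥ v) v with hμ
  have hone : Cfsg.hermForm n F 2 v v = 1 := by
    have h := herm_symm hσ hc v v
    rw [hσ] at h
    exact mul_left_cancel₀ hv (by rw [mul_one, ← pow_two]; exact h)
  by_cases hμ0 : μ = 0
  · refine ⟨0, ?_, ?_⟩ <;> simp only [zero_smul, add_zero]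
    exacts [hone, hμ0]
  have hμσ : μ * σ μ = 1 := by rw [hσ]; linear_combination four_cube hF hμ0
  have hμ4 : σ μ * σ μ = μ := by
    rw [hσ]; linear_combination μ * four_cube hF hμ0
  have hω0 : ω ≠ 0 := fun h => by rw [h] at hω; simp at hω
  have hσω : σ ω = ω * ω := by rw [hσ, pow_two]
  have hv' : Cfsg.hermForm n F 2 v (z *ᵥ v) = σ μ := (herm_symm hσ hc _ _).symm
  have hc2 : Cfsg.hermForm n F 2 (z *ᵥ (z *ᵥ v)) v = ω * σ μ := by
    rw [← hiso, Matrix.mulVec_mulVec, Matrix.mulVec_mulVec, mul_assoc, hz,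
      Matrix.smul_mulVec, Matrix.one_mulVec, hs.smul_left, hv']
  refine ⟨ω * σ μ, ?_, ?_⟩
  · simp only [hs.add_left, hs.add_right, hs.smul_left, hs.smul_right, hiso, hone, hv', ← hμ, map_mul,
      hc.invol, hσω]
    grind
  · simp only [Matrix.mulVec_add, Matrix.mulVec_smul, hs.add_left, hs.add_right, hs.smul_left, hs.smul_right,
      hiso, hone, hc2, ← hμ, map_mul, hc.invol, hσω]
    grind

end Frame

/-- A circulant twisted by `ω`. -/
def circ (ω : F) (a : Fin 3 → F) : Mat 3 F := !![a 0, ω * a 2, ω * a 1; a 1, a 0, ω * a 2; a 2, a 1, a 0]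

/-- The conjugate of the coefficients of a twisted circulant. -/
def cstar (σ : F →+* F) (ω : F) (a : Fin 3 → F) : Fin 3 → F :=
  ![σ (a 0), ω * ω * σ (a 2), ω * ω * σ (a 1)]

/-- The semilinear part on a cubic summand. -/
def smat (ω : F) : Mat 3 F := !![1, 0, 0; 0, 0, ω * ω; 0, ω * ω, 0]

/-- The cubic root on a summand. -/
def cmat (ω : F) : Mat 3 F := !![0, 0, ω; 1, 0, 0; 0, 1, 0]

/-- The element twisting the cubic root. -/
def tmat (ω : F) : Mat 3 F := !![1, 0, 0; 0, ω, 0; 0, 0, ω * ω]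

section Coord

variable {ω : F} (hω : ω * ω + ω + 1 = 0) (hσω : σ ω = ω * ω) (hinv : ∀ a, σ (σ a) = a)
include hω hσω hinv

theorem om_cube : ω * ω * ω = 1 := by linear_combination (ω - 1) * hω

theorem circ_comm (a b : Fin 3 → F) : circ ω a * circ ω b = circ ω b * circ ω a := by
  ext i j
  fin_cases i <;> fin_cases j <;> simp [circ, Matrix.mul_apply, Fin.sum_univ_three] <;> ring

theorem circ_of_comm {X : Mat 3 F} (h : cmat ω * X = X * cmat ω) : ∃ a, X = circ ω a := by
  refine ⟨fun i => X i 0, ?_⟩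
  have e : ∀ i j, (cmat ω * X) i j = (X * cmat ω) i j := fun i j => by rw [h]
  have e00 := e 0 0; have e10 := e 1 0; have e20 := e 2 0
  have e01 := e 0 1; have e11 := e 1 1; have e21 := e 2 1
  simp [cmat, Matrix.mul_apply, Fin.sum_univ_three] at e00 e10 e20 e01 e11 e21
  ext i j
  fin_cases i <;> fin_cases j <;> simp [circ]
  all_goals first
    | linear_combination -e00 | linear_combination -e10 | linear_combination -e20
    | linear_combination -e01 - ω * e10 | linear_combination -e01 - ω * e20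
    | linear_combination -e11 - e00 | linear_combination -e21 - e10 | linear_combination -e11 - e00 * 1
    | linear_combination -e01 | linear_combination -e11 | linear_combination -e21

theorem circ_conj (a : Fin 3 → F) : ((circ ω a).map σ)ᵀ = circ ω (cstar σ ω a) := by
  have h3 := om_cube hω hσω hinv
  ext i j
  fin_cases i <;> fin_cases j <;> simp [circ, cstar, hσω] <;> grind

theorem smat_circ (a : Fin 3 → F) : smat ω * (circ ω a).map σ = circ ω (cstar σ ω a) * smat ω := by
  have h3 := om_cube hω hσω hinv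
  ext i j
  fin_cases i <;> fin_cases j <;> simp [circ, cstar, smat, Matrix.mul_apply, Fin.sum_univ_three, hσω] <;> grind

theorem cstar_cstar (a : Fin 3 → F) : cstar σ ω (cstar σ ω a) = a := by
  have h3 := om_cube hω hσω hinv
  funext i
  fin_cases i <;> simp [cstar, hσω, hinv] <;> grind

theorem smat_conj : smat ω * (smat ω).map σ = 1 := by
  have h3 := om_cube hω hσω hinv
  ext i j
  fin_cases i <;> fin_cases j <;> simp [smat, Matrix.mul_apply, Fin.sum_univ_three, hσω]
  all_goals linear_combination (ω * ω * ω + 1) * h3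

end Coord

/-- Over four elements a unitary twisted circulant of determinant one is a scalar. -/
theorem circ_scalar (hF : Fintype.card F = 4) (hσ : ∀ x, σ x = x ^ 2) {ω : F} (hω : ω * ω + ω + 1 = 0)
    {a : Fin 3 → F} (hU : circ ω (cstar σ ω a) * circ ω a = 1) (hdet : (circ ω a).det = 1) :
    ∃ d : F, d * σ d = 1 ∧ circ ω a = d • 1 := by
  have h3 : ω * ω * ω = 1 := by linear_combination (ω - 1) * hω
  have h2 := four_two hF
  have hω1 : ω ≠ 1 := fun h => by rw [h] at hω; exact one_ne_zero (α := F) (by linear_combination hω - h2)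
  have e00 := congrFun (congrFun hU 0) 0
  have e10 := congrFun (congrFun hU 1) 0
  simp [circ, cstar, Matrix.mul_apply, Fin.sum_univ_three, hσ] at e00 e10
  rw [Matrix.det_fin_three] at hdet
  simp [circ] at hdet
  have hcube : ∀ x : F, x ≠ 0 → x ^ 3 = 1 := fun x hx => four_cube hF hx
  have hz : ∀ x : F, x = 0 ∨ x ^ 3 = 1 := fun x => (eq_or_ne x 0).imp id (hcube x)
  rcases hz (a 0) with p0 | p0 <;> rcases hz (a 1) with p1 | p1 <;> rcases hz (a 2) with p2 | p2
  · exfalso; simp [p0, p1, p2] at hdet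
  · exfalso; simp [p0, p1] at hdet
    exact hω1 (by grind)
  · exfalso; simp [p0, p2] at hdet
    exact hω1 (by grind)
  · exfalso; simp [p0] at e00
    exact one_ne_zero (α := F) (by grind)
  · refine ⟨a 0, by rw [hσ]; linear_combination p0, ?_⟩
    ext i j
    fin_cases i <;> fin_cases j <;> simp [circ, p1, p2]
  · exfalso; simp [p1] at e00
    exact one_ne_zero (α := F) (by grind)
  · exfalso; simp [p2] at e00
    exact one_ne_zero (α := F) (by grind)
  · exfalso
    -- the determinant fixes the product, and orthogonality makes the three terms distinct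
    have hprod : a 0 * a 1 * a 2 = ω * ω := by grind
    set t0 := a 0 ^ 2 * a 1 with ht0
    set t1 := a 1 ^ 2 * a 2 with ht1
    set t2 := ω * ω * a 2 ^ 2 * a 0 with ht2
    have hsum : t0 + t1 + t2 = 0 := by
      rw [ht0, ht1, ht2]; grind
    have hq : t0 * t1 * t2 = ω * ω * (a 0 * a 1 * a 2) ^ 3 := by rw [ht0, ht1, ht2]; ring
    have hprod3 : t0 * t1 * t2 = ω * ω := by
      rw [hq]; grind
    have h03 : t0 ^ 3 = 1 := by rw [ht0]; linear_combination (a 0 ^ 3 * a 1 ^ 3 + a 1 ^ 3) * p0 + p1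
    have h13 : t1 ^ 3 = 1 := by rw [ht1]; linear_combination (a 1 ^ 3 * a 2 ^ 3 + a 2 ^ 3) * p1 + p2
    -- three cube roots of one with sum zero have product one
    have hu : t2 = t0 + t1 := by linear_combination hsum - (t0 + t1) * h2
    rw [hu] at hprod3
    have h23 : (t0 + t1) ^ 3 = 1 := by
      rw [← hu, ht2]
      grind
    refine hω1 ?_
    have : t0 * t1 * (t0 + t1) = 1 := by grind
    grind

/-- The cubic root on two summands. -/
def zmat (ω : F) : Matrix (Fin 3 ⊕ Fin 3) (Fin 3 ⊕ Fin 3) F := fromBlocks (cmat ω) 0 0 (cmat ω)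

/-- The twist on two summands. -/
def twist (ω : F) : Matrix (Fin 3 ⊕ Fin 3) (Fin 3 ⊕ Fin 3) F := fromBlocks (tmat ω) 0 0 (tmat ω)

/-- The semilinear part on two summands. -/
def mmat (ω : F) : Matrix (Fin 3 ⊕ Fin 3) (Fin 3 ⊕ Fin 3) F := fromBlocks 0 (smat ω) (smat ω) 0

/-- Over four elements a special unitary element twisting the cubic root commutes with the semilinear
map up to a scalar. -/
theorem coord_semilinear (hF : Fintype.card F = 4) (hσ : ∀ x, σ x = x ^ 2) (hc : IsConjugation σ) {ω : F}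
    (hω : ω * ω + ω + 1 = 0) {X : Matrix (Fin 3 ⊕ Fin 3) (Fin 3 ⊕ Fin 3) F} {j : ℕ} (hXdet : X.det = 1)
    (hXU : (X.map σ)ᵀ * X = 1) (hXZ : X * zmat ω = ω ^ j • (zmat ω * X)) :
    ∃ δ, δ * σ δ = 1 ∧ mmat ω * X.map σ = σ δ • (X * mmat ω) := by
  have h2 := four_two hF
  have hω3 : ω * ω * ω = 1 := by linear_combination (ω - 1) * hω
  have hσω : σ ω = ω * ω := by rw [hσ, pow_two]
  have hTZ : twist ω * zmat ω = ω • (zmat ω * twist ω) := by
    simp only [twist, zmat, fromBlocks_multiply, fromBlocks_smul, Matrix.zero_mul, Matrix.mul_zero, zero_add,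
      add_zero, smul_zero]
    congr 1 <;>
    · ext i l
      fin_cases i <;> fin_cases l <;>
        simp [tmat, cmat, Matrix.mul_apply, Fin.sum_univ_three] <;> grind
  have hTdet : (twist ω).det = 1 := by
    rw [twist, Matrix.det_fromBlocks_zero₂₁, Matrix.det_fin_three]
    simp [tmat]
    grind
  have hTU : ((twist ω).map σ)ᵀ * twist ω = 1 := by
    simp only [twist, fromBlocks_map, fromBlocks_transpose, fromBlocks_multiply, Matrix.map_zero σ (map_zero σ),
      Matrix.transpose_zero, Matrix.zero_mul, Matrix.mul_zero, zero_add, add_zero]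
    rw [← fromBlocks_one]
    congr 1 <;>
    · ext i l
      fin_cases i <;> fin_cases l <;>
        simp [tmat, Matrix.mul_apply, Fin.sum_univ_three, hσω] <;> grind
  have hTM : mmat ω * (twist ω).map σ = twist ω * mmat ω := by
    simp only [twist, mmat, fromBlocks_map, fromBlocks_multiply, Matrix.map_zero σ (map_zero σ), Matrix.zero_mul,
      Matrix.mul_zero, zero_add, add_zero]
    congr 1 <;>
    · ext i l
      fin_cases i <;> fin_cases l <;>
        simp [smat, tmat, Matrix.mul_apply, Fin.sum_univ_three, hσω] <;> grind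
  obtain ⟨m, hm⟩ : ∃ m : ℕ, ω ^ m * ω ^ j = 1 := ⟨2 * j, by
    rw [← pow_add, show 2 * j + j = 3 * j by ring, pow_mul, show ω ^ 3 = 1 by linear_combination hω3, one_pow]⟩
  have hTm : ∀ m : ℕ, twist ω ^ m * zmat ω = ω ^ m • (zmat ω * twist ω ^ m) ∧ (twist ω ^ m).det = 1 ∧
      ((twist ω ^ m).map σ)ᵀ * twist ω ^ m = 1 ∧ mmat ω * (twist ω ^ m).map σ = twist ω ^ m * mmat ω := by
    intro m
    induction m with
    | zero => simp [Matrix.map_one σ (map_zero σ) (map_one σ)]
    | succ m ih =>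
      obtain ⟨i1, i2, i3, i4⟩ := ih
      refine ⟨?_, ?_, ?_, ?_⟩
      · rw [pow_succ, mul_assoc, hTZ, Matrix.mul_smul, ← mul_assoc, i1, Matrix.smul_mul, smul_smul, mul_assoc,
          pow_succ' ω]
      · rw [pow_succ, Matrix.det_mul, i2, hTdet, one_mul]
      · rw [pow_succ, Matrix.map_mul, Matrix.transpose_mul, mul_assoc, ← mul_assoc ((twist ω ^ m).map σ)ᵀ, i3,
          one_mul, hTU]
      · rw [pow_succ, Matrix.map_mul, ← mul_assoc, i4, mul_assoc, hTM, mul_assoc]
  obtain ⟨m1, m2, m3, m4⟩ := hTm m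
  set Y := X * twist ω ^ m with hY
  have hYZ : zmat ω * Y = Y * zmat ω := by
    calc zmat ω * Y = (ω ^ m * ω ^ j) • (zmat ω * X * twist ω ^ m) := by rw [hm, one_smul, hY, mul_assoc]
      _ = ω ^ m • (X * zmat ω * twist ω ^ m) := by rw [hXZ, Matrix.smul_mul, smul_smul]
      _ = _ := by rw [hY, mul_assoc X (twist ω ^ m), m1, Matrix.mul_smul, mul_assoc]
  have hYU : (Y.map σ)ᵀ * Y = 1 := by
    rw [hY, Matrix.map_mul, Matrix.transpose_mul, mul_assoc, ← mul_assoc (X.map σ)ᵀ, hXU, one_mul, m3]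
  have hYdet : Y.det = 1 := by rw [hY, Matrix.det_mul, hXdet, m2, one_mul]
  rw [← fromBlocks_toBlocks Y] at hYZ
  simp only [zmat, fromBlocks_multiply, Matrix.zero_mul, Matrix.mul_zero, zero_add, add_zero] at hYZ
  obtain ⟨hZ11, hZ12, hZ21, hZ22⟩ := fromBlocks_inj.mp hYZ
  obtain ⟨p, hp⟩ := circ_of_comm hω hσω hc.invol hZ11
  obtain ⟨q, hq⟩ := circ_of_comm hω hσω hc.invol hZ12
  obtain ⟨r, hr⟩ := circ_of_comm hω hσω hc.invol hZ21
  obtain ⟨s, hs'⟩ := circ_of_comm hω hσω hc.invol hZ22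
  have hYb : Y = fromBlocks (circ ω p) (circ ω q) (circ ω r) (circ ω s) := by
    rw [← hp, ← hq, ← hr, ← hs', fromBlocks_toBlocks]
  have hconj : ∀ a, ((circ ω a).map σ)ᵀ = circ ω (cstar σ ω a) := circ_conj hω hσω hc.invol
  have hcomm := circ_comm (σ := σ) hω hσω hc.invol
  have hS : ∀ a, smat ω * (circ ω a).map σ = circ ω (cstar σ ω a) * smat ω := smat_circ hω hσω hc.invol
  have hSS : smat ω * (smat ω).map σ = 1 := smat_conj hω hσω hc.invol
  have hstar : (Y.map σ)ᵀ = fromBlocks (circ ω (cstar σ ω p)) (circ ω (cstar σ ω r)) (circ ω (cstar σ ω q))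
      (circ ω (cstar σ ω s)) := by
    rw [hYb, fromBlocks_map, fromBlocks_transpose, hconj, hconj, hconj, hconj]
  have hdup : ∀ A : Mat 3 F, A + A = 0 := fun A => by
    ext i l; rw [Matrix.add_apply, Matrix.zero_apply]; linear_combination (A i l) * h2
  obtain ⟨a, ha⟩ : ∃ a, circ ω p * circ ω s + circ ω q * circ ω r = circ ω a := by
    have hC : cmat ω = circ ω ![0, 1, 0] := by
      ext i l; fin_cases i <;> fin_cases l <;> simp [cmat, circ]
    have hCc : ∀ b, Commute (cmat ω) (circ ω b) := fun b => by rw [hC]; exact hcomm _ b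
    exact circ_of_comm hω hσω hc.invol
      (((hCc p).mul_right (hCc s)).add_right ((hCc q).mul_right (hCc r))).eq
  have hYU' : Y * (Y.map σ)ᵀ = 1 := mul_eq_one_comm.mp hYU
  have hWY : fromBlocks (circ ω s) (circ ω q) (circ ω r) (circ ω p) * Y =
      fromBlocks (circ ω a) 0 0 (circ ω a) := by
    rw [hYb, fromBlocks_multiply, ← ha]
    congr 1
    · rw [hcomm s p]
    · rw [hcomm s q, hdup]
    · rw [hcomm r p, hdup]
    · rw [hcomm r q, add_comm]
  have hWe : fromBlocks (circ ω s) (circ ω q) (circ ω r) (circ ω p) =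
      fromBlocks (circ ω a) 0 0 (circ ω a) * (Y.map σ)ᵀ := by
    rw [← hWY, mul_assoc, hYU', mul_one]
  rw [hstar, fromBlocks_multiply] at hWe
  simp only [Matrix.zero_mul, zero_add, add_zero] at hWe
  obtain ⟨hs1, hq1, hr1, hp1⟩ := fromBlocks_inj.mp hWe
  set G := fromBlocks (circ ω p) (circ ω (cstar σ ω r)) (circ ω r) (circ ω (cstar σ ω p)) with hG
  have hdΔ : Y = G * fromBlocks 1 0 0 (circ ω a) := by
    rw [hYb, hG, fromBlocks_multiply]
    simp only [Matrix.mul_zero, mul_one, zero_add, add_zero]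
    congr 1
    · rw [hq1, hcomm]
    · rw [hs1, hcomm]
  have hMG : mmat ω * G.map σ = G * mmat ω := by
    simp only [mmat, hG, fromBlocks_map, fromBlocks_multiply, Matrix.zero_mul, Matrix.mul_zero, zero_add,
      add_zero, hS, cstar_cstar hω hσω hc.invol]
  have hGdet : G.det = 0 ∨ G.det = 1 := by
    have hM0 : (mmat ω).det ≠ 0 := fun h0 => by
      have e1 := congrArg Matrix.det (show mmat ω * (mmat ω).map σ = 1 by
        simp only [mmat, fromBlocks_map, fromBlocks_multiply, Matrix.map_zero σ (map_zero σ), Matrix.zero_mul,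
          Matrix.mul_zero, zero_add, add_zero, hSS, fromBlocks_one])
      rw [Matrix.det_mul, h0, zero_mul, Matrix.det_one] at e1
      exact zero_ne_one e1
    have e2 := congrArg Matrix.det hMG
    rw [Matrix.det_mul, Matrix.det_mul, show (G.map σ).det = σ G.det from (RingHom.map_det σ G).symm,
      mul_comm G.det] at e2
    have e3 := mul_left_cancel₀ hM0 e2
    rw [hσ] at e3
    exact (eq_or_ne _ 0).imp id fun hne => mul_left_cancel₀ hne (by rw [mul_one, ← pow_two]; exact e3)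
  have hGd : (circ ω a).det = 1 := by
    rw [hdΔ, Matrix.det_mul, Matrix.det_fromBlocks_zero₂₁, Matrix.det_one, one_mul] at hYdet
    rcases hGdet with h0 | h1
    · rw [h0, zero_mul] at hYdet; exact absurd hYdet zero_ne_one
    · rwa [h1, one_mul] at hYdet
  have hΔU : circ ω (cstar σ ω a) * circ ω a = 1 := by
    have e3 : circ ω (cstar σ ω q) * circ ω q + circ ω (cstar σ ω s) * circ ω s = 1 := by
      have := hYU
      rw [hstar, hYb, fromBlocks_multiply, ← fromBlocks_one] at this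
      exact (fromBlocks_inj.mp this).2.2.2
    have hsΔ : circ ω (cstar σ ω s) = circ ω (cstar σ ω a) * circ ω p := by
      have h' := congrArg (fun A : Mat 3 F => (A.map σ)ᵀ) hs1
      simp only [Matrix.map_mul, Matrix.transpose_mul, hconj, cstar_cstar hω hσω hc.invol] at h'
      rw [h', hcomm]
    have hqΔ : circ ω (cstar σ ω q) = circ ω (cstar σ ω a) * circ ω r := by
      have h' := congrArg (fun A : Mat 3 F => (A.map σ)ᵀ) hq1
      simp only [Matrix.map_mul, Matrix.transpose_mul, hconj, cstar_cstar hω hσω hc.invol] at h'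
      rw [h', hcomm]
    rw [hqΔ, hsΔ, mul_assoc, mul_assoc, ← Matrix.mul_add, add_comm, hcomm r q, ha] at e3
    exact e3
  obtain ⟨δ, hδ, hδa⟩ := circ_scalar hF hσ hω hΔU hGd
  refine ⟨δ, hδ, ?_⟩
  have hD' : mmat ω * (fromBlocks (1 : Mat 3 F) 0 0 (circ ω a)).map σ =
      σ δ • (fromBlocks 1 0 0 (circ ω a) * mmat ω) := by
    rw [hδa]
    simp only [mmat, fromBlocks_map, fromBlocks_multiply, fromBlocks_smul, Matrix.map_zero σ (map_zero σ),
      Matrix.map_one σ (map_zero σ) (map_one σ), Matrix.map_smul' σ _ _ (map_mul σ), Matrix.zero_mul,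
      Matrix.mul_zero, zero_add, add_zero, Matrix.mul_smul, mul_one, Matrix.smul_mul, one_mul, smul_zero,
      smul_smul]
    congr 1
    rw [mul_comm, hδ, one_smul]
  have hYM : mmat ω * Y.map σ = σ δ • (Y * mmat ω) := by
    rw [hdΔ, Matrix.map_mul, ← mul_assoc, hMG, mul_assoc, hD', Matrix.mul_smul, mul_assoc]
  have hinvT : twist ω ^ m * ((twist ω ^ m).map σ)ᵀ = 1 := mul_eq_one_comm.mp m3
  have hXY : X = Y * ((twist ω ^ m).map σ)ᵀ := by rw [hY, mul_assoc, hinvT, mul_one]
  have hTinvM : mmat ω * (((twist ω ^ m).map σ)ᵀ).map σ = ((twist ω ^ m).map σ)ᵀ * mmat ω := by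
    have hU1 : (twist ω ^ m).map σ * (((twist ω ^ m).map σ)ᵀ).map σ = 1 := by
      rw [← Matrix.map_mul, hinvT, Matrix.map_one σ (map_zero σ) (map_one σ)]
    calc mmat ω * (((twist ω ^ m).map σ)ᵀ).map σ
        = ((twist ω ^ m).map σ)ᵀ * twist ω ^ m * mmat ω * (((twist ω ^ m).map σ)ᵀ).map σ := by rw [m3, one_mul]
      _ = _ := by rw [mul_assoc _ (twist ω ^ m) (mmat ω), ← m4, mul_assoc, mul_assoc, hU1, mul_one]
  rw [hXY, Matrix.map_mul, ← mul_assoc, hYM, Matrix.smul_mul, mul_assoc, hTinvM]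
  simp only [hY, mul_assoc]

set_option maxHeartbeats 1600000 in
/-- Over four elements the normaliser of a cubic field in dimension six is a subfield group of
symplectic type. -/
theorem field_symp (hF : Fintype.card F = 2 ^ 2) {H : Subgroup (GL (Fin 6) F)}
    (hH : IsMaximalIn (suG 6 F 2) H) {K : Subalgebra F (Mat 6 F)} (hK : IsFieldSubalgebra 3 K)
    (hadj : IsAdjointClosedFor (Cfsg.hermForm 6 F 2) K) (hle : H ≤ subalgebraNormalizer K) :
    ∃ (F₀ : Subfield F) (P : GL (Fin 6) F) (ζ : F), Fintype.card F = Nat.card F₀ ^ 2 ∧ ζ ≠ 0 ∧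
      ζ + ζ ^ 2 = 0 ∧ IsFormRationalStructure (Cfsg.hermForm 6 F 2) F₀ ζ P ∧
      (∀ u : Fin 6 → F, (∀ i, u i ∈ F₀) →
        Cfsg.hermForm 6 F 2 ((P : Mat 6 F) *ᵥ u) ((P : Mat 6 F) *ᵥ u) = 0) ∧
      H = subfieldSubgroup F₀ P ⊓ suG 6 F 2 := by
  classical
  obtain ⟨σ, hσ, hc⟩ := exists_frob hF
  have hF4 : Fintype.card F = 4 := by rw [hF]; norm_num
  have h2 := four_two hF4
  obtain ⟨ω, z, hω, hz, hiso, hnorm⟩ := exists_cube_root hF4 hσ hc (by norm_num) hK hadj
  have hs := herm_sesq (n := 6) hσ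
  have hω3 : ω * ω * ω = 1 := by linear_combination (ω - 1) * hω
  have hσω : σ ω = ω * ω := by rw [hσ, pow_two]
  -- two orbits of vectors form a frame
  obtain ⟨a₁, hv1, hv0⟩ := exists_orbit_vector hF4 hσ hc hω hz hiso
    (v := Pi.single (0 : Fin 6) 1) (by simp [herm_single_right hσ])
  set v := Pi.single (0 : Fin 6) (1 : F) + a₁ • (z *ᵥ Pi.single (0 : Fin 6) 1)
  have hgv := orbit_gram hF4 hσ hc hω hz hiso v hv1 hv0
  let e : Fin 3 → (Fin 6 → F) := fun i => (z ^ (i : ℕ)) *ᵥ v
  let pr : (Fin 6 → F) → (Fin 6 → F) := fun x => x + ∑ i, Cfsg.hermForm 6 F 2 x (e i) • e i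
  have hpr : ∀ x j, Cfsg.hermForm 6 F 2 (pr x) (e j) = 0 := by
    intro x j
    simp only [pr, e, hs.add_left, Fin.sum_univ_three, hs.smul_left, hgv]
    fin_cases j <;> simp <;> linear_combination (Cfsg.hermForm 6 F 2 x _) * h2
  obtain ⟨y, hy, hye⟩ : ∃ y, Cfsg.hermForm 6 F 2 y y ≠ 0 ∧ ∀ j, Cfsg.hermForm 6 F 2 y (e j) = 0 := by
    by_contra hall
    push Not at hall
    have hiso0 : ∀ x, Cfsg.hermForm 6 F 2 (pr x) (pr x) = 0 := fun x => by
      by_contra h
      obtain ⟨j, hj⟩ := hall _ h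
      exact hj (hpr x j)
    have hzero : ∀ x, pr x = 0 := fun x => by
      by_contra hne
      obtain ⟨-, w, hw⟩ := herm_nondeg (n := 6) hσ _ hne
      refine hw ?_
      have hpw : Cfsg.hermForm 6 F 2 (pr x) (pr w) = Cfsg.hermForm 6 F 2 (pr x) w := by
        show Cfsg.hermForm 6 F 2 (pr x) (w + ∑ i, Cfsg.hermForm 6 F 2 w (e i) • e i) = _
        rw [hs.add_right, Fin.sum_univ_three, hs.add_right, hs.add_right, hs.smul_right, hs.smul_right,
          hs.smul_right, hpr, hpr, hpr]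
        ring
      rw [← hpw]
      have hy0 : ∀ u, (∀ j, Cfsg.hermForm 6 F 2 u (e j) = 0) → Cfsg.hermForm 6 F 2 u u = 0 := fun u hu => by
        by_contra h
        obtain ⟨j, hj⟩ := hall _ h
        exact hj (hu j)
      -- polarisation
      have key : ∀ c : F, σ c * Cfsg.hermForm 6 F 2 (pr x) (pr w) + c * Cfsg.hermForm 6 F 2 (pr w) (pr x) = 0 := by
        intro c
        have h := hy0 (pr x + c • pr w) fun j => by rw [hs.add_left, hs.smul_left, hpr, hpr, mul_zero, add_zero]
        have i1 := hiso0 x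
        have i2 := hiso0 w
        generalize pr x = U, pr w = V at h i1 i2 ⊢
        rw [hs.add_left, hs.add_right, hs.add_right, hs.smul_left, hs.smul_left, hs.smul_right, hs.smul_right,
          i1, i2] at h
        linear_combination h
      have k1 := key 1
      have k2 := key ω
      rw [map_one] at k1
      rw [hσω] at k2
      linear_combination (-1) * k2 + ω * k1 + (Cfsg.hermForm 6 F 2 (pr x) (pr w)) * hω +
        (-(ω * Cfsg.hermForm 6 F 2 (pr x) (pr w))) * h2
    have hspan : (⊤ : Submodule F (Fin 6 → F)) ≤ Submodule.span F (Set.range e) := fun x _ => by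
      have hx : x = -∑ i, Cfsg.hermForm 6 F 2 x (e i) • e i := eq_neg_of_add_eq_zero_left (hzero x)
      rw [hx]
      exact neg_mem (Submodule.sum_mem _ fun i _ => Submodule.smul_mem _ _ (Submodule.subset_span ⟨i, rfl⟩))
    have h1 := Submodule.finrank_mono hspan
    have h3 := finrank_range_le_card (R := F) e
    rw [finrank_top, Module.finrank_fintype_fun_eq_card, Fintype.card_fin] at h1
    rw [Fintype.card_fin] at h3
    change Module.finrank F (Submodule.span F (Set.range e)) ≤ 3 at h3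
    omega
  obtain ⟨a₂, hw1, hw0⟩ := exists_orbit_vector hF4 hσ hc hω hz hiso hy
  set w := y + a₂ • (z *ᵥ y)
  have hgw := orbit_gram hF4 hσ hc hω hz hiso w hw1 hw0
  have hstep : ∀ u, (∀ j : Fin 3, Cfsg.hermForm 6 F 2 u (e j) = 0) →
      ∀ j : Fin 3, Cfsg.hermForm 6 F 2 (z *ᵥ u) (e j) = 0 := by
    intro u hu j
    have hinvz : e j = z *ᵥ ((ω * ω) • ((z * z) *ᵥ e j)) := by
      rw [Matrix.mulVec_smul, Matrix.mulVec_mulVec, hz, Matrix.smul_mulVec, Matrix.one_mulVec, smul_smul, hω3,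
        one_smul]
    rw [hinvz, hiso, hs.smul_right]
    have hcases : ∀ j : Fin 3, ∃ (c : F) (k : Fin 3), (z * z) *ᵥ e j = c • e k := by
      intro j
      fin_cases j
      · exact ⟨1, 2, by simp [e, pow_two]⟩
      · refine ⟨ω, 0, ?_⟩
        show (z * z) *ᵥ (z ^ 1 *ᵥ v) = ω • (z ^ 0 *ᵥ v)
        rw [pow_one, pow_zero, Matrix.mulVec_mulVec, mul_assoc, hz, Matrix.smul_mulVec, Matrix.one_mulVec]
      · refine ⟨ω, 1, ?_⟩
        show (z * z) *ᵥ (z ^ 2 *ᵥ v) = ω • (z ^ 1 *ᵥ v)
        rw [pow_two, pow_one, Matrix.mulVec_mulVec, show z * z * (z * z) = z * (z * z) * z by simp only [mul_assoc],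
          hz, Matrix.smul_mul, one_mul, Matrix.smul_mulVec]
    obtain ⟨c, k, hk⟩ := hcases j
    rw [hk, hs.smul_right, hu k, mul_zero, mul_zero]
  have hwe0 : ∀ j, Cfsg.hermForm 6 F 2 w (e j) = 0 := fun j => by
    rw [hs.add_left, hye, hs.smul_left, hstep y hye, mul_zero, add_zero]
  let d : Fin 3 → (Fin 6 → F) := fun i => (z ^ (i : ℕ)) *ᵥ w
  have hde : ∀ i j, Cfsg.hermForm 6 F 2 (d i) (e j) = 0 := by
    intro i
    fin_cases i
    · intro j; simpa [d] using hwe0 j
    · intro j; simpa [d] using hstep w hwe0 j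
    · intro j; simpa [d, pow_two, ← Matrix.mulVec_mulVec] using hstep _ (hstep w hwe0) j
  let ε : Fin 6 ≃ Fin 3 ⊕ Fin 3 := (finSumFinEquiv (m := 3) (n := 3)).symm
  let vec : Fin 3 ⊕ Fin 3 → (Fin 6 → F) := Sum.elim e d
  obtain ⟨g, hg, hgcol⟩ := exists_gu_of_frame hσ hc (fun i => vec (ε i)) fun i j => by
    have key : ∀ a b, Cfsg.hermForm 6 F 2 (vec a) (vec b) = if a = b then 1 else 0 := by
      rintro (a | a) (b | b)
      · simpa [vec, e] using hgv a b
      · simpa [vec] using herm_eq_zero_comm hσ hc (hde b a)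
      · simpa [vec] using hde a b
      · simpa [vec, d] using hgw a b
    rw [key]
    exact if_congr ε.injective.eq_iff rfl rfl
  let φ : Matrix (Fin 3 ⊕ Fin 3) (Fin 3 ⊕ Fin 3) F ≃ₐ[F] Mat 6 F := Matrix.reindexAlgEquiv F F ε.symm
  have hφmap : ∀ X, (φ X).map σ = φ (X.map σ) := fun X => rfl
  let S := smat ω
  let Z := zmat ω
  let M₀ := mmat ω
  have hZg : z * (g : Mat 6 F) = (g : Mat 6 F) * φ Z := by
    refine Matrix.ext_of_mulVec_single fun i => ?_
    rw [← Matrix.mulVec_mulVec, hgcol, ← Matrix.mulVec_mulVec]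
    obtain ⟨b, rfl⟩ := ε.symm.surjective i
    rw [ε.apply_symm_apply]
    have hexp : ∀ u : Fin 6 → F, (g : Mat 6 F) *ᵥ u = ∑ a, u (ε.symm a) • vec a := fun u => by
      conv_lhs => rw [pi_eq_sum_univ' u]
      rw [Matrix.mulVec_sum, ← ε.symm.sum_comp]
      refine Finset.sum_congr rfl fun a _ => ?_
      rw [Matrix.mulVec_smul]
      congr 1
      exact (hgcol _).trans (by rw [ε.apply_symm_apply])
    rw [hexp]
    have hcol : ∀ a, (φ Z *ᵥ Pi.single (ε.symm b) 1) (ε.symm a) = Z a b := fun a => by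
      rw [Matrix.mulVec_single_one]; simp [φ]
    simp only [hcol, Fintype.sum_sum_type, Fin.sum_univ_three]
    have hz2 : ∀ u, z *ᵥ ((z * z) *ᵥ u) = ω • u := fun u => by
      rw [Matrix.mulVec_mulVec, hz, Matrix.smul_mulVec, Matrix.one_mulVec]
    rcases b with b | b <;> fin_cases b <;>
      simp [Z, zmat, cmat, vec, e, d, pow_two, hz2, ← Matrix.mulVec_mulVec]
    all_goals simp [Matrix.mulVec_mulVec, hz, Matrix.smul_mulVec]
  -- the fixed vectors
  let B₀ : Matrix (Fin 3 ⊕ Fin 3) (Fin 3 ⊕ Fin 3) F := fromBlocks 1 (ω • 1) S ((ω * ω) • S)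
  have hBu : IsUnit B₀.det := by
    rw [Matrix.det_fromBlocks_one₁₁]
    have : (ω * ω) • S - S * ω • (1 : Mat 3 F) = S := by
      ext i j
      simp [Matrix.sub_apply]
      linear_combination (S i j) * hω - (S i j * (ω + 1)) * h2
    rw [this, isUnit_iff_ne_zero, Matrix.det_fin_three]
    simp [S, smat]
    exact fun h0 => by rw [h0] at hω3; simp at hω3
  obtain ⟨B, hB⟩ : IsUnit (φ B₀) := ((Matrix.isUnit_iff_isUnit_det _).mpr hBu).map φ
  set P := g * B with hP
  set M : Mat 6 F := (g : Mat 6 F) * φ M₀ * ((g⁻¹ : GL (Fin 6) F) : Mat 6 F).map σ with hM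
  have hinvmap : ((g⁻¹ : GL (Fin 6) F) : Mat 6 F).map σ * (g : Mat 6 F).map σ = 1 := by
    rw [← Matrix.map_mul, Units.inv_mul, Matrix.map_one σ (map_zero σ) (map_one σ)]
  have hSS : S * S.map σ = 1 := smat_conj hω hσω hc.invol
  have hBfix : φ M₀ * (φ B₀).map σ = φ B₀ := by
    rw [hφmap, ← map_mul]
    congr 1
    simp only [M₀, mmat, S, B₀, fromBlocks_map, fromBlocks_multiply, Matrix.zero_mul, zero_add, add_zero, hSS,
      Matrix.map_smul' σ _ _ (map_mul σ), Matrix.map_one σ (map_zero σ) (map_one σ), Matrix.mul_smul, mul_one,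
      map_mul, hσω]
    congr 1 <;> simp [show ω * ω * (ω * ω) = ω by linear_combination ω * hω3]
  have hfixP : M * (P : Mat 6 F).map σ = P := by
    rw [hP, Units.val_mul, hB, Matrix.map_mul, hM, Matrix.mul_assoc _ _ ((g : Mat 6 F).map σ * (φ B₀).map σ),
      ← Matrix.mul_assoc (((g⁻¹ : GL (Fin 6) F) : Mat 6 F).map σ), hinvmap, Matrix.one_mul, Matrix.mul_assoc,
      hBfix]
  have hpull : ∀ u, M *ᵥ (σ ∘ u) = u → ∃ a : Fin 3 ⊕ Fin 3 → F,
      (g : Mat 6 F) *ᵥ (a ∘ ε) = u ∧ ∀ i, a (.inr i) = (S *ᵥ (fun j => σ (a (.inl j)))) i := by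
    intro u hu
    set c := ((g⁻¹ : GL (Fin 6) F) : Mat 6 F) *ᵥ u with hcdef
    refine ⟨c ∘ ε.symm, by
      rw [show (c ∘ ε.symm) ∘ ε = c by funext i; simp, hcdef, Matrix.mulVec_mulVec, Units.mul_inv,
        Matrix.one_mulVec], fun i => ?_⟩
    have e : φ M₀ *ᵥ (σ ∘ c) = c := by
      conv_rhs => rw [hcdef, ← hu, hM, ← Matrix.mulVec_mulVec, ← Matrix.mulVec_mulVec,
        Matrix.mulVec_mulVec _ ((g⁻¹ : GL (Fin 6) F) : Mat 6 F) (g : Mat 6 F), Units.inv_mul, Matrix.one_mulVec]
      rw [hcdef]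
      congr 1
      funext j
      exact RingHom.map_mulVec σ _ _ j
    have e' := congrFun e (ε.symm (.inr i))
    simp only [Function.comp_apply]
    rw [← e']
    simp [φ, Matrix.mulVec, dotProduct, ← ε.symm.sum_comp, M₀, mmat, S, Fintype.sum_sum_type]
  refine symp_of_semilinear hF hσ hc (by norm_num) hH hfixP (fun h hh => ?_) (fun u u' hu hu' => ?_)
    (fun u hu => ?_)
  · obtain ⟨hhU, hdet⟩ := mem_suG.mp (hH.1.le hh)
    obtain ⟨j, hj⟩ := hnorm h (hle hh)
    set k : GL (Fin 6) F := g⁻¹ * h * g with hk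
    have hkU : k ∈ Cfsg.GU 6 F 2 := Subgroup.mul_mem _ (Subgroup.mul_mem _ (inv_mem hg) hhU) hg
    have hkdet : (k : Mat 6 F).det = 1 := by
      rw [hk, Units.val_mul, Units.val_mul, Matrix.coe_units_inv, Matrix.det_conj' g.isUnit, hdet]
    set X := φ.symm (k : Mat 6 F) with hX
    have hkX : (k : Mat 6 F) = φ X := (φ.apply_symm_apply _).symm
    have hXdet : X.det = 1 := by
      rw [hkX] at hkdet
      rwa [Matrix.det_reindexAlgEquiv] at hkdet
    have hXU : (X.map σ)ᵀ * X = 1 := by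
      have e1 := congrArg Matrix.transpose (gu_map_eq hσ hkU)
      rw [Matrix.transpose_mul, Matrix.transpose_transpose, Matrix.transpose_one] at e1
      refine φ.injective ?_
      rw [map_mul, map_one, ← hkX, ← e1, hkX]
      rfl
    have hXZ : X * Z = ω ^ (j : ℕ) • (Z * X) := by
      refine φ.injective ?_
      rw [map_mul, map_smul, map_mul, ← hkX]
      refine g.isUnit.mul_right_injective (?_ : (g : Mat 6 F) * _ = (g : Mat 6 F) * _)
      rw [Matrix.mul_smul, ← mul_assoc, ← mul_assoc, ← hZg, hk, Units.val_mul, Units.val_mul, ← mul_assoc,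
        ← mul_assoc, Units.mul_inv, one_mul, mul_assoc, ← hZg, ← mul_assoc, hj, Matrix.smul_mul]
      simp only [← mul_assoc, Units.mul_inv, one_mul, mul_assoc]
      rw [← mul_assoc (g : Mat 6 F) ((g⁻¹ : GL (Fin 6) F) : Mat 6 F), Units.mul_inv, one_mul]
    obtain ⟨δ, hδ, hXM⟩ := coord_semilinear hF4 hσ hc hω hXdet hXU hXZ
    obtain ⟨c, hc0, hce⟩ := hc.exists_div_eq (x := σ δ) (by rw [hc.invol, mul_comm, hδ])
    refine ⟨c, hc0, ?_⟩
    have hh' : (h : Mat 6 F) = (g : Mat 6 F) * φ X * ((g⁻¹ : GL (Fin 6) F) : Mat 6 F) := by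
      rw [← hkX, ← Units.val_mul, ← Units.val_mul, hk]; congr 1; group
    rw [Matrix.map_smul' σ c _ (map_mul σ), hh', hM, Matrix.map_mul, Matrix.map_mul, Matrix.smul_mul,
      Matrix.mul_smul]
    simp only [Matrix.mul_assoc]
    rw [← Matrix.mul_assoc (((g⁻¹ : GL (Fin 6) F) : Mat 6 F).map σ), hinvmap, Matrix.one_mul,
      ← Matrix.mul_assoc (φ M₀), hφmap, ← map_mul, hXM, map_smul, map_mul,
      ← Matrix.mul_assoc ((g⁻¹ : GL (Fin 6) F) : Mat 6 F) (g : Mat 6 F), Units.inv_mul, Matrix.one_mul]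
    simp only [Matrix.smul_mul, Matrix.mul_smul, smul_smul, Matrix.mul_assoc]
    congr 1
    conv_rhs => rw [hce]
    ring
  · obtain ⟨a, rfl, ha⟩ := hpull u hu
    obtain ⟨b, rfl, hb⟩ := hpull u' hu'
    rw [show ∀ x y, Cfsg.hermForm 6 F 2 ((g : Mat 6 F) *ᵥ x) ((g : Mat 6 F) *ᵥ y) = Cfsg.hermForm 6 F 2 x y from hg]
    simp only [Cfsg.hermForm, ← hσ, ← ε.symm.sum_comp, Function.comp_apply, ε.apply_symm_apply,
      Fintype.sum_sum_type, Fin.sum_univ_three, ha, hb]
    simp [S, smat, Matrix.mulVec, dotProduct, Fin.sum_univ_three, map_add, map_mul, hc.invol, hσω]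
    grind
  · obtain ⟨a, rfl, ha⟩ := hpull u hu
    rw [show ∀ x y, Cfsg.hermForm 6 F 2 ((g : Mat 6 F) *ᵥ x) ((g : Mat 6 F) *ᵥ y) = Cfsg.hermForm 6 F 2 x y from hg]
    simp only [Cfsg.hermForm, ← hσ, ← ε.symm.sum_comp, Function.comp_apply, ε.apply_symm_apply,
      Fintype.sum_sum_type, Fin.sum_univ_three, ha]
    simp [S, smat, Matrix.mulVec, dotProduct, Fin.sum_univ_three, map_add, map_mul, hc.invol, hσω]
    grind

end CfsgLib.Classical.AschForm
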