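import Cfsg.Agent.Lib.Classical.AschForm.UnitaryField

/-!
# Over four elements the stabiliser of six orthogonal lines is not maximal

The vectors of weight two together with those of weight six and coordinate product one form a set which
is invariant under the special monomial unitary group and under one further transvection, but not under
the whole special unitary group.
-/

set_option autoImplicit false
set_option linter.unusedSectionVars false

namespace CfsgLib.Classical.AschForm

open Matrix Cfsg Cfsg.Geo CfsgLib.Classical.AschPrime CfsgLib.Classical.AschGen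
open scoped MatrixGroups

variable {F : Type*} [Field F] [Fintype F] {n : ℕ} {σ : F →+* F}

/-- Weight two, or weight six with coordinate product one. -/
def SixSet (x : Fin 6 → F) : Prop := {i | x i ≠ 0}.ncard = 2 ∨ ∏ i, x i = 1

/-- Multiplication of the codes of four elements. -/
def fourMul (a b : Fin 4) : Fin 4 :=
  if a = 0 then 0 else if b = 0 then 0 else ⟨(a.1 + b.1 - 2) % 3 + 1, by omega⟩

/-- The set on codes. -/
def sixCode (a b c d e f : Fin 4) : Bool :=
  ((if a = 0 then 0 else 1) + (if b = 0 then 0 else 1) + (if c = 0 then 0 else 1) + (if d = 0 then 0 else 1) +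
      (if e = 0 then 0 else 1) + (if f = 0 then 0 else 1) == 2) ||
    fourMul (fourMul (fourMul (fourMul (fourMul a b) c) d) e) f == 1

/-- Stability of the set under the transvection of the all-one vector, on codes. -/
def sixCodeOk (a b c d e f : Fin 4) : Bool :=
  let s := a ^^^ b ^^^ c ^^^ d ^^^ e ^^^ f
  !sixCode a b c d e f || sixCode (a ^^^ s) (b ^^^ s) (c ^^^ s) (d ^^^ s) (e ^^^ s) (f ^^^ s)

theorem sixCode_transvection : ∀ a b c d e f : Fin 4, sixCodeOk a b c d e f = true := by
  decide +kernel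

/-- The set is stable under the transvection of the all-one vector. -/
theorem sixSet_transvection (hF : Fintype.card F = 4) {ω : F} (hω : ω * ω + ω + 1 = 0) (x : Fin 6 → F)
    (hx : SixSet x) : SixSet (x + (∑ i, x i) • (1 : Fin 6 → F)) := by
  classical
  have h2 := four_two hF
  let φ : Fin 4 → F := ![0, 1, ω, ω + 1]
  have hinj : Function.Injective φ := by
    intro a b h
    fin_cases a <;> fin_cases b <;> simp [φ] at h ⊢ <;> grind
  have hsurj : Function.Surjective φ :=
    ((Fintype.bijective_iff_injective_and_card φ).mpr ⟨hinj, by rw [Fintype.card_fin, hF]⟩).2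
  have hadd : ∀ a b, φ (a ^^^ b) = φ a + φ b := by
    intro a b
    fin_cases a <;> fin_cases b <;> simp [φ] <;> grind
  have hmul : ∀ a b, φ (fourMul a b) = φ a * φ b := by
    intro a b
    fin_cases a <;> fin_cases b <;> simp [φ, fourMul] <;> grind
  have h1 : φ 1 = 1 := rfl
  have h0 : φ 0 = 0 := rfl
  have hcode : ∀ v : Fin 6 → Fin 4,
      SixSet (φ ∘ v) ↔ sixCode (v 0) (v 1) (v 2) (v 3) (v 4) (v 5) = true := by
    intro v
    rw [SixSet, Set.ncard_eq_toFinset_card', Set.toFinset_setOf, Finset.card_filter, Fin.sum_univ_six,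
      Fin.prod_univ_six, sixCode]
    simp only [Function.comp_apply, ne_eq, ite_not, Bool.or_eq_true, beq_iff_eq, ← hmul,
      hinj.eq_iff' h0, hinj.eq_iff' h1]
  choose v hv using fun i => hsurj (x i)
  obtain rfl : x = φ ∘ v := funext fun i => (hv i).symm
  set s := v 0 ^^^ v 1 ^^^ v 2 ^^^ v 3 ^^^ v 4 ^^^ v 5 with hs
  have hT : φ ∘ v + (∑ i, (φ ∘ v) i) • (1 : Fin 6 → F) = φ ∘ fun i => v i ^^^ s := by
    funext i
    simp only [Pi.add_apply, Pi.smul_apply, Pi.one_apply, smul_eq_mul, mul_one, Function.comp_apply, hadd, hs,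
      Fin.sum_univ_six]
  rw [hT, hcode]
  have h := sixCode_transvection (v 0) (v 1) (v 2) (v 3) (v 4) (v 5)
  simp only [sixCodeOk, Bool.or_eq_true, Bool.not_eq_true', ← hs] at h
  exact h.resolve_left (by simp [(hcode v).mp hx])

/-- An isotropic transvection over four elements. -/
theorem exists_transvection (hF : Fintype.card F = 4) (hσ : ∀ x, σ x = x ^ 2) (hc : IsConjugation σ)
    (u : Fin n → F) (hu : Cfsg.hermForm n F 2 u u = 0) :
    ∃ t ∈ suG n F 2, ∀ x, (t : Mat n F) *ᵥ x = x + Cfsg.hermForm n F 2 x u • u := by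
  classical
  have h2 := four_two hF
  have hs := herm_sesq (n := n) hσ
  let M : Mat n F := 1 + Matrix.vecMulVec u (σ ∘ u)
  have hM : ∀ x, M *ᵥ x = x + Cfsg.hermForm n F 2 x u • u := fun x => by
    rw [Matrix.add_mulVec, Matrix.one_mulVec, Matrix.vecMulVec_mulVec, op_smul_eq_smul]
    congr 2
    simp [Cfsg.hermForm, dotProduct, hσ, mul_comm]
  have hMM : M * M = 1 := by
    refine Matrix.ext_of_mulVec_single fun i => ?_
    rw [← Matrix.mulVec_mulVec, hM, hM, Matrix.one_mulVec, hs.add_left, hs.smul_left, hu, mul_zero, add_zero,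
      add_assoc, ← add_smul, ← two_mul, h2, zero_mul, zero_smul, add_zero]
  have hdet : M.det = 1 := by
    have h : M = 1 + Matrix.replicateCol Unit u * Matrix.replicateRow Unit (σ ∘ u) := by
      rw [← Matrix.vecMulVec_eq]
    rw [h, Matrix.det_one_add_replicateCol_mul_replicateRow]
    have : (σ ∘ u) ⬝ᵥ u = Cfsg.hermForm n F 2 u u := by simp [Cfsg.hermForm, dotProduct, hσ, mul_comm]
    rw [this, hu, add_zero]
  refine ⟨⟨M, M, hMM, hMM⟩, mem_suG.mpr ⟨fun x y => ?_, hdet⟩, hM⟩
  change Cfsg.hermForm n F 2 (M *ᵥ x) (M *ᵥ y) = _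
  rw [hM, hM, hs.add_left, hs.add_right, hs.add_right, hs.smul_left, hs.smul_left, hs.smul_right, hs.smul_right,
    hu, mul_zero, mul_zero, add_zero, ← herm_symm hσ hc y u]
  linear_combination (σ (Cfsg.hermForm n F 2 y u) * Cfsg.hermForm n F 2 x u) * h2

/-- A monomial matrix of determinant one preserves the set. -/
theorem sixSet_monomial (hF : Fintype.card F = 4) {k : Mat 6 F} {π : Equiv.Perm (Fin 6)} {c : Fin 6 → F}
    (hk : ∀ j, k *ᵥ Pi.single j 1 = c j • Pi.single (π j) 1) (hdet : k.det = 1) (x : Fin 6 → F) :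
    SixSet (k *ᵥ x) ↔ SixSet x := by
  classical
  have h2 := four_two hF
  have hkx : ∀ j, (k *ᵥ x) (π j) = c j * x j := by
    intro j
    conv_lhs => rw [pi_eq_sum_univ' x]
    simp [Matrix.mulVec_sum, Matrix.mulVec_smul, hk, Finset.sum_apply, Pi.single_apply, π.injective.eq_iff,
      mul_comm]
  have hprod : ∏ j, c j = 1 := by
    have hkm : k = (Matrix.diagonal fun i => c (π.symm i)).submatrix id π := by
      ext i j
      have h := congrFun (hk j) i
      rw [Matrix.mulVec_single_one] at h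
      change k i j = _ at h
      rw [h]
      by_cases hij : i = π j
      · subst hij; simp
      · simp [hij]
    have h := hdet
    rw [hkm, Matrix.det_permute', Matrix.det_diagonal, Equiv.prod_comp π.symm c] at h
    rcases Int.units_eq_one_or (Equiv.Perm.sign π) with e | e <;> rw [e] at h <;> push_cast at h
    · linear_combination h
    · linear_combination h + (∏ j, c j) * h2
  have hc0 : ∀ j, c j ≠ 0 := fun j h0 => by
    rw [Finset.prod_eq_zero (Finset.mem_univ j) h0] at hprod
    exact zero_ne_one hprod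
  have hsupp : {i | (k *ᵥ x) i ≠ 0} = π '' {i | x i ≠ 0} := by
    ext i
    obtain ⟨j, rfl⟩ := π.surjective i
    simp [hkx, hc0]
  rw [SixSet, SixSet, hsupp, Set.ncard_image_of_injective _ π.injective, ← Equiv.prod_comp π]
  simp only [hkx, Finset.prod_mul_distrib, hprod, one_mul]

/-- The elements whose conjugate by `g` preserves a set of vectors. -/
def conjStab {m : ℕ} (S : (Fin m → F) → Prop) (g : GL (Fin m) F) : Subgroup (GL (Fin m) F) where
  carrier := {h | ∀ x, S (((g⁻¹ * h * g : GL (Fin m) F) : Mat m F) *ᵥ x) ↔ S x}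
  one_mem' := fun x => by simp
  mul_mem' {a b} ha hb := fun x => by
    rw [show g⁻¹ * (a * b) * g = (g⁻¹ * a * g) * (g⁻¹ * b * g) by group, Units.val_mul, ← Matrix.mulVec_mulVec,
      ha, hb]
  inv_mem' {a} ha := fun x => by
    rw [← ha, Matrix.mulVec_mulVec, ← Units.val_mul,
      show g⁻¹ * a * g * (g⁻¹ * a⁻¹ * g) = 1 by group, Units.val_one, Matrix.one_mulVec]

/-- Over four elements the stabiliser of six orthogonal lines is not maximal. -/
theorem lines_not_maximal (hF : Fintype.card F = 2 ^ 2) {H : Subgroup (GL (Fin 6) F)}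
    (hH : IsMaximalIn (suG 6 F 2) H) {D : Fin 6 → Submodule F (Fin 6 → F)}
    (hD : IsNondegenerateMDecomposition (Cfsg.hermForm 6 F 2) 1 D) (hle : H ≤ decompositionStabilizer D) :
    False := by
  classical
  obtain ⟨σ, hσ, hc⟩ := exists_frob hF
  have hF4 : Fintype.card F = 4 := by rw [hF]; norm_num
  have h2 := four_two hF4
  obtain ⟨ω, hω⟩ : ∃ ω : F, ω * ω + ω + 1 = 0 := by
    obtain ⟨a, ha0, ha1⟩ : ∃ a : F, a ≠ 0 ∧ a ≠ 1 := by
      have h : ({0, 1} : Finset F) ≠ Finset.univ := fun h => by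
        have := (congrArg Finset.card h).symm.le.trans Finset.card_le_two
        rw [Finset.card_univ, hF4] at this
        omega
      obtain ⟨a, -, ha⟩ := Finset.exists_of_ssubset ((Finset.subset_univ _).ssubset_of_ne h)
      simp at ha
      exact ⟨a, ha.1, ha.2⟩
    have h : (a - 1) * (a * a + a + 1) = 0 := by linear_combination four_cube hF4 ha0
    exact ⟨a, (mul_eq_zero.mp h).resolve_left (sub_ne_zero.mpr ha1)⟩
  obtain ⟨g, hg, hgD⟩ := frame_of_lines hσ hc hD
  have hconj : ∀ {t}, t ∈ suG 6 F 2 → g * t * g⁻¹ ∈ suG 6 F 2 := fun {t} ht => by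
    obtain ⟨htU, htdet⟩ := mem_suG.mp ht
    refine mem_suG.mpr ⟨Subgroup.mul_mem _ (Subgroup.mul_mem _ hg htU) (inv_mem hg), ?_⟩
    rw [Units.val_mul, Units.val_mul, Matrix.coe_units_inv, Matrix.det_conj g.isUnit, htdet]
  have hmono : ∀ h ∈ decompositionStabilizer D, ∃ (π : Equiv.Perm (Fin 6)) (c : Fin 6 → F),
      ∀ j, ((g⁻¹ * h * g : GL (Fin 6) F) : Mat 6 F) *ᵥ Pi.single j 1 = c j • Pi.single (π j) 1 := by
    rintro h ⟨π, hπ⟩
    choose c hc' using fun j => show ∃ c : F, ((g⁻¹ * h * g : GL (Fin 6) F) : Mat 6 F) *ᵥ Pi.single j 1 =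
        c • Pi.single (π j) 1 by
      have hm : (h : Mat 6 F) *ᵥ ((g : Mat 6 F) *ᵥ Pi.single j 1) ∈ D (π j) := by
        rw [← hπ j, hgD j]
        exact ⟨_, Submodule.mem_span_singleton_self _, Matrix.toLin'_apply _ _⟩
      rw [hgD, Submodule.mem_span_singleton] at hm
      obtain ⟨c, hc'⟩ := hm
      refine ⟨c, ?_⟩
      rw [Units.val_mul, Units.val_mul, ← Matrix.mulVec_mulVec, ← Matrix.mulVec_mulVec, ← hc',
        Matrix.mulVec_smul, Matrix.mulVec_mulVec, Units.inv_mul, Matrix.one_mulVec]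
    exact ⟨π, c, hc'⟩
  set M := conjStab SixSet g ⊓ suG 6 F 2 with hMdef
  have hHM : H ≤ M := fun h hh => by
    refine ⟨fun x => ?_, hH.1.le hh⟩
    obtain ⟨π, c, hk⟩ := hmono h (hle hh)
    refine sixSet_monomial hF4 hk ?_ x
    rw [Units.val_mul, Units.val_mul, Matrix.coe_units_inv, Matrix.det_conj' g.isUnit]
    exact (mem_suG.mp (hH.1.le hh)).2
  have hone : Cfsg.hermForm 6 F 2 (1 : Fin 6 → F) 1 = 0 := by
    simp [Cfsg.hermForm, Fin.sum_univ_six]
    linear_combination (3 : F) * h2
  obtain ⟨T, hTsu, hT⟩ := exists_transvection hF4 hσ hc 1 hone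
  have hTx : ∀ x, (T : Mat 6 F) *ᵥ x = x + (∑ i, x i) • (1 : Fin 6 → F) := fun x => by
    rw [hT]; simp [Cfsg.hermForm]
  have hcj : ∀ t : GL (Fin 6) F, g⁻¹ * (g * t * g⁻¹) * g = t := fun t => by group
  rcases hH.2 M hHM inf_le_right with hMH | hMS
  · have hTM : g * T * g⁻¹ ∈ M := by
      refine ⟨fun x => ?_, hconj hTsu⟩
      rw [hcj, hTx]
      refine ⟨fun h => ?_, sixSet_transvection hF4 hω x⟩
      convert sixSet_transvection hF4 hω _ h using 1
      funext i
      simp [Fin.sum_univ_six]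
      grind
    rw [hMH] at hTM
    obtain ⟨π, c, hk⟩ := hmono _ (hle hTM)
    have hk0 := hk 0
    rw [hcj, hTx] at hk0
    have e1 := congrFun hk0 1
    have e2 := congrFun hk0 2
    simp [Fin.sum_univ_six, Pi.single_apply] at e1 e2
    rcases eq_or_ne (1 : Fin 6) (π 0) with h | h
    · rw [← h] at e2; simp at e2
    · rw [if_neg h] at e1; exact one_ne_zero e1
  · let u : Fin 6 → F := ![1, 1, 1, 1, 0, 0]
    obtain ⟨U, hUsu, hU⟩ := exists_transvection hF4 hσ hc u (by
      simp [Cfsg.hermForm, u, Fin.sum_univ_six]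
      linear_combination (2 : F) * h2)
    have hUM : g * U * g⁻¹ ∈ M := hMS ▸ hconj hUsu
    have h := (hUM.1 ![1, 0, 0, 0, 1, 0]).mpr (.inl (by
      rw [Set.ncard_eq_toFinset_card', Set.toFinset_setOf, Finset.card_filter, Fin.sum_univ_six]
      simp))
    rw [hcj, hU] at h
    rcases h with h | h
    · rw [Set.ncard_eq_toFinset_card', Set.toFinset_setOf, Finset.card_filter, Fin.sum_univ_six] at h
      simp [Cfsg.hermForm, u, Fin.sum_univ_six, show (1 : F) + 1 = 0 by linear_combination h2] at h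
    · rw [Fin.prod_univ_six] at h
      simp [Cfsg.hermForm, u, Fin.sum_univ_six] at h

end CfsgLib.Classical.AschForm
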