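import Cfsg.Agent.Lib.Classical.AschForm.UnitarySubfield

/-!
# The subgroup structure of the unitary groups
-/

set_option autoImplicit false
set_option linter.unusedSectionVars false

namespace CfsgLib.Classical.AschForm

open Matrix Cfsg Cfsg.Geo CfsgLib.Classical.AschPrime CfsgLib.Classical.AschGen
open scoped MatrixGroups Kronecker commutatorElement

variable {F : Type*} [Field F] [Fintype F] {n q : ℕ} {σ : F →+* F}

/-- Scaling the factors of a tensor decomposition. -/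
theorem tensorForm_scale {f : (Fin n → F) → (Fin n → F) → F} {n₁ n₂ : ℕ}
    {f₁ : (Fin n₁ → F) → (Fin n₁ → F) → F} {f₂ : (Fin n₂ → F) → (Fin n₂ → F) → F}
    {e : Fin n ≃ Fin n₁ × Fin n₂} {P : GL (Fin n) F} (h : IsTensorFormStructure σ f f₁ f₂ e P)
    {b₁ b₂ : F} (h₁ : b₁ ≠ 0) (h₂ : b₂ ≠ 0) :
    IsTensorFormStructure σ f (fun u v => b₁ * f₁ u v) (fun u v => b₂ * f₂ u v) e P := by
  obtain ⟨c, hc, hval⟩ := h
  refine ⟨c / (b₁ * b₂), div_ne_zero hc (mul_ne_zero h₁ h₂), fun x y => ?_⟩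
  rw [hval]
  simp only [formOfGram, Finset.mul_sum]
  refine Finset.sum_congr rfl fun a _ => Finset.sum_congr rfl fun b _ => ?_
  simp only [Matrix.kroneckerMap_apply, gramMatrix]
  field_simp

/-- Scaling the factor of a tensor power. -/
theorem tensorPower_scale {f : (Fin n → F) → (Fin n → F) → F} {k t : ℕ}
    {f₁ : (Fin k → F) → (Fin k → F) → F} {e : Fin n ≃ (Fin t → Fin k)} {P : GL (Fin n) F}
    (h : IsTensorPowerFormStructure σ f f₁ e P) {b : F} (hb : b ≠ 0) :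
    IsTensorPowerFormStructure σ f (fun u v => b * f₁ u v) e P := by
  obtain ⟨c, hc, hval⟩ := h
  refine ⟨c / b ^ t, div_ne_zero hc (pow_ne_zero _ hb), fun x y => ?_⟩
  rw [hval]
  simp only [Finset.mul_sum]
  refine Finset.sum_congr rfl fun a _ => Finset.sum_congr rfl fun b' _ => ?_
  simp only [gramMatrix, Finset.prod_mul_distrib, Finset.prod_const, Finset.card_univ, Fintype.card_fin]
  field_simp

section Classes

variable (hF : Fintype.card F = q ^ 2) (hσ : ∀ x, σ x = x ^ q) (hc : IsConjugation σ)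
  {H : Subgroup (GL (Fin n) F)} (hH : H ≤ Cfsg.GU n F q)
include hF hσ hc hH

/-- A group preserving a tensor power of a unitary form lies in a member of a class. -/
theorem power_class (hn : 3 ≤ n) {k t : ℕ} (hk : 2 ≤ k) (ht : 2 ≤ t)
    {e : Fin n ≃ (Fin t → Fin k)} {P : GL (Fin n) F} {g : (Fin k → F) → (Fin k → F) → F}
    (hg : IsUnitaryFormPow q g) (hg' : Herm σ 1 g)
    (hT : IsTensorPowerFormStructure σ (Cfsg.hermForm n F q) g e P)
    (hle : H ≤ tensorWreathSubgroup k t e P) : UClass q H := by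
  classical
  have hσfun : (⇑σ : F → F) = fun x => x ^ q := funext hσ
  by_cases hbig : 3 ≤ k ∧ ¬ (q = 2 ∧ k = 3)
  · refine ⟨_, .inr (.inr (.inr ⟨k, t, e, P, g, hbig.1, ht, hbig.2, hg, ?_, rfl⟩)), le_inf hle hH⟩
    rw [← hσfun]
    exact hT
  obtain ⟨A, hA⟩ := exists_orth_matrix hc hg'
  obtain ⟨P', c, hc0, hval, hle'⟩ := power_standard hT hA hle
  by_cases hk2 : k = 2
  · subst hk2
    obtain ⟨F₀, P'', ζ, hcard, hζ, hP, hsub⟩ := pair_subfield hF hσ hc hc0 hval (gu_fixes hH) hle'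
    exact subfield_class hF hσ hc hH hn Nat.prime_two hcard hζ hP hsub
  obtain ⟨rfl, rfl⟩ : q = 2 ∧ k = 3 := by
    by_contra h
    exact hbig ⟨by omega, h⟩
  have hF4 : Fintype.card F = 4 := by rw [hF]; norm_num
  obtain ⟨R, hST, habs, hsim, hcen, hcard, hnorm⟩ := three_power_symType hF4 hσ (by omega)
    (herm_sesq hσ) hc0 hval (gu_fixes hH) hle'
  have hp2 : CharP F 2 :=
    CharTwo.of_one_ne_zero_of_two_eq_zero one_ne_zero (four_two hF4)
  refine ⟨_, .inl (.inr (.inr (.inr (.inr (.inr (.inr (.inr ⟨3, R, 2, 2, t, hST, habs, hsim, by norm_num,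
    ⟨Nat.prime_two, hp2, hF, ?_, ?_⟩, .inl ⟨by decide, hcen, by omega, hcard⟩, rfl⟩))))))),
    le_inf hnorm hH⟩
  · rw [hcen]; decide
  · intro d hd hd2
    obtain rfl : d = 1 := by omega
    rw [hcen]; decide

/-- The classes of the unitary group. -/
theorem unitary_cases (hn : 3 ≤ n) : UClass q H ∨ InUnitaryResidualClass H := by
  classical
  have hσfun : (⇑σ : F → F) = fun x => x ^ q := funext hσ
  have hσid : σ ≠ RingHom.id F := hc.ne_id
  have hf := gu_herm (n := n) hσ hc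
  rcases outcome hn hf (gu_fixes hH) with
    ⟨W, h0, hts, hle⟩ | ⟨W, h0, hnd, hdim, hle⟩ | ⟨t, k, D, hD, hle, -⟩ |
    ⟨k, D, hk, hD, hts, hle⟩ | ⟨r, K, hr, hK, htype, hle⟩ |
    ⟨n₁, n₂, e, P, ε₁, ε₂, f₁, f₂, h1, h2, hf₁, hf₂, hT, hle⟩ |
    ⟨k, t, e, P, ε₁, f₁, L, hk, ht, hf₁, hT, -, -, -, hle⟩ |
    ⟨F₀, l, P, c, hl, hcard, hc0, hP, -, hle⟩ |
    ⟨r, k, R, hk, hnk, hR, hST, hsim, -, hle⟩ | ⟨M, hM, hMf⟩
  · exact .inl ⟨_, .inl (.inl ⟨W, h0, hts, rfl⟩), le_inf hle hH⟩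
  · exact .inl ⟨_, .inl (.inr (.inl ⟨W, h0, hnd, hdim, rfl⟩)), le_inf hle hH⟩
  · exact .inl ⟨_, .inl (.inr (.inr (.inl ⟨t, k, D, hD, rfl⟩))), le_inf hle hH⟩
  · exact .inl ⟨_, .inl (.inr (.inr (.inr (.inl ⟨k, D, hk, hD, hts, rfl⟩)))), le_inf hle hH⟩
  · rcases htype with ⟨h, -⟩ | ⟨h, -⟩ | ⟨-, hodd, hadj⟩
    · exact absurd h hσid
    · exact absurd h hσid
    · exact .inl ⟨_, .inr (.inl ⟨r, K, hr, hodd, hK, hadj, rfl⟩), le_inf hle hH⟩
  · left
    obtain ⟨b₁, hb₁, hg₁, hg₁'⟩ := exists_unitary (q := q) (by omega) hσ hc hf₁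
    obtain ⟨b₂, hb₂, hg₂, hg₂'⟩ := exists_unitary (q := q) (by omega) hσ hc hf₂
    have hT' := tensorForm_scale hT hb₁ hb₂
    rcases lt_trichotomy n₁ n₂ with hlt | heq | hlt
    · refine ⟨_, .inr (.inr (.inl ⟨n₁, n₂, e, P, _, _, h1, hlt, hg₁, hg₂, ?_, rfl⟩)), le_inf hle hH⟩
      rw [← hσfun]
      exact hT'
    · subst heq
      obtain ⟨A₁, hA₁⟩ := exists_orth_matrix hc hg₁'
      obtain ⟨A₂, hA₂⟩ := exists_orth_matrix hc hg₂'
      set g₁ := fun u v => b₁ * f₁ u v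
      set g₂ := fun u v => b₂ * f₂ u v
      obtain ⟨e', P', hT'', hle'⟩ := tensorPower_of_pair hf hT' (A₂ * A₁⁻¹) one_ne_zero (by
        rw [one_smul, Units.val_mul, Matrix.map_mul, Matrix.transpose_mul]
        calc ((A₁⁻¹ : GL (Fin n₁) F) : Mat n₁ F)ᵀ * (A₂ : Mat n₁ F)ᵀ * gramMatrix g₂ *
              ((A₂ : Mat n₁ F).map σ * ((A₁⁻¹ : GL (Fin n₁) F) : Mat n₁ F).map σ)
            = ((A₁⁻¹ : GL (Fin n₁) F) : Mat n₁ F)ᵀ *
                ((A₂ : Mat n₁ F)ᵀ * gramMatrix g₂ * (A₂ : Mat n₁ F).map σ) *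
                ((A₁⁻¹ : GL (Fin n₁) F) : Mat n₁ F).map σ := by simp only [mul_assoc]
          _ = ((A₁⁻¹ : GL (Fin n₁) F) : Mat n₁ F)ᵀ *
                ((A₁ : Mat n₁ F)ᵀ * gramMatrix g₁ * (A₁ : Mat n₁ F).map σ) *
                ((A₁⁻¹ : GL (Fin n₁) F) : Mat n₁ F).map σ := by rw [hA₁, hA₂]
          _ = ((A₁ : Mat n₁ F) * ((A₁⁻¹ : GL (Fin n₁) F) : Mat n₁ F))ᵀ * gramMatrix g₁ *
                ((A₁ : Mat n₁ F) * ((A₁⁻¹ : GL (Fin n₁) F) : Mat n₁ F)).map σ := by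
              rw [Matrix.transpose_mul, Matrix.map_mul]; simp only [mul_assoc]
          _ = gramMatrix g₁ := by
              rw [Units.mul_inv, Matrix.transpose_one, one_mul,
                Matrix.map_one σ (map_zero σ) (map_one σ), mul_one])
      exact power_class hF hσ hc hH hn h1 le_rfl hg₁ hg₁' hT'' (hle.trans hle')
    · refine ⟨_, .inr (.inr (.inl ⟨n₂, n₁, _, P, _, _, h2, hlt, hg₂, hg₁, ?_, rfl⟩)),
        le_inf (hle.trans (tensor_swap e P)) hH⟩
      rw [← hσfun]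
      exact tensorForm_swap hT'
  · left
    obtain ⟨b, hb, hg, hg'⟩ := exists_unitary (q := q) (by omega) hσ hc hf₁
    exact power_class hF hσ hc hH hn hk ht hg hg' (tensorPower_scale hT hb) hle
  · left
    exact subfield_class hF hσ hc hH hn hl (by rw [← Nat.card_eq_fintype_card]; exact hcard) hc0 hP hle
  · left
    exact symType_class hF hσ hc hH hn hk hnk hR hST hsim hle
  · refine .inr ⟨M, hM, ?_, ?_⟩
    · rintro ⟨Q, hQ, hQfix⟩
      refine hσid (forms_unique (by omega) hM.absIrred hM.no_subfield hc.invol (τ := RingHom.id F)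
        (fun _ => rfl) hf.sesq hf.nondeg hMf (g := QuadraticMap.polar Q)
        (isSesq_of_bilinear hQ.polar_bilinear) hQ.nondegenerate ?_).1
      intro s hs u v
      simp only [QuadraticMap.polar, ← Matrix.mulVec_add, hQfix s hs]
    · rintro ⟨g, hg, hgfix⟩
      exact hσid (forms_unique (by omega) hM.absIrred hM.no_subfield hc.invol (τ := RingHom.id F)
        (fun _ => rfl) hf.sesq hf.nondeg hMf (isSesq_of_bilinear hg.bilinear) hg.nondegenerate hgfix).1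

end Classes

/-- The subgroups of the special unitary group. -/
theorem unitary_structure (hF : Fintype.card F = q ^ 2) (hn : 3 ≤ n)
    {H : Subgroup (GL (Fin n) F)} (hH : H ≤ Cfsg.GU n F q) :
    (∃ M : Subgroup (GL (Fin n) F), InUnitaryClass n F q M ∧ H ≤ M) ∨ InUnitaryResidualClass H := by
  obtain ⟨σ, hσ, hc⟩ := exists_frob hF
  exact unitary_cases hF hσ hc hH hn

end CfsgLib.Classical.AschForm
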