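import Cfsg.Agent.Lib.Classical.AschForm.SymTypeData
import Cfsg.Agent.Lib.Classical.AschForm.OddOrtho
import Cfsg.Agent.Lib.Classical.AschSp.TensorBasic
import Cfsg.Agent.Lib.Classical.AschPrime.UnitaryGroup

/-!
# The special unitary group lies in no member of a geometric class, any degree
-/

set_option autoImplicit false
set_option linter.unusedSectionVars false

namespace CfsgLib.Classical.AschForm

open Matrix Cfsg Cfsg.Geo CfsgLib.Classical.AschPrime CfsgLib.Classical.AschGen
open scoped MatrixGroups Kronecker commutatorElement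

variable {F : Type*} [Field F] [Fintype F] {n q : ℕ}

set_option maxHeartbeats 1000000 in
/-- The scalars of determinant one are few. -/
theorem card_scalar_sub (hn : 0 < n) {N : Subgroup (GL (Fin n) F)} (h : N ≤ scalars (Fin n) F)
    (hdet : ∀ x ∈ N, (x : Mat n F).det = 1) : Nat.card N ≤ n := by
  classical
  have hsc : ∀ x : N, ∃ c : F, c ^ n = 1 ∧ (x.1 : Mat n F) = c • 1 := fun x => by
    obtain ⟨c, hc⟩ := (mem_scalars_iff _).mp (h x.2)
    refine ⟨c, ?_, hc⟩
    have hd := hdet x.1 x.2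
    rwa [hc, Matrix.det_smul, Matrix.det_one, mul_one, Fintype.card_fin] at hd
  choose c hc hcx using hsc
  let f : N → (Polynomial.nthRoots n (1 : F)).toFinset := fun x =>
    ⟨c x, Multiset.mem_toFinset.mpr ((Polynomial.mem_nthRoots hn).mpr (hc x))⟩
  have hf : Function.Injective f := fun x y e => Subtype.ext (Units.ext (by
    rw [hcx x, hcx y, show c x = c y from congrArg Subtype.val e]))
  refine (Nat.card_le_card_of_injective f hf).trans ?_
  rw [Nat.card_eq_fintype_card, Fintype.card_coe]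
  exact (Multiset.toFinset_card_le _).trans (Polynomial.card_nthRoots _ _)

set_option maxHeartbeats 1000000 in
/-- An action of the special unitary group with few images is trivial. -/
theorem suG_action_trivial (hF : Fintype.card F = q ^ 2) (hn : 3 ≤ n) (hd : 3 ≤ q ∨ 4 ≤ n)
    {T : Type*} [Group T] (φ : suG n F q →* T) {B : ℕ} (hB : Nat.card φ.range ≤ B)
    (hsize : n * B < Nat.card (suG n F q)) (g : suG n F q) : φ g = 1 := by
  set N := φ.ker.map (suG n F q).subtype with hN
  have hNn : ∀ h ∈ suG n F q, ∀ x ∈ N, h * x * h⁻¹ ∈ N := by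
    rintro h hh _ ⟨x, hx, rfl⟩
    let h' : suG n F q := ⟨h, hh⟩
    exact ⟨h' * x * h'⁻¹, (MonoidHom.normal_ker φ).conj_mem x hx h', rfl⟩
  rcases (suG_perfect_and_normal hF hn hd).2 N (Subgroup.map_subtype_le _) hNn with h | h
  · exfalso
    have h1 : Nat.card φ.ker ≤ n := by
      rw [Nat.card_congr (φ.ker.equivMapOfInjective (suG n F q).subtype
        (Subgroup.subtype_injective _)).toEquiv]
      exact card_scalar_sub (by omega) h fun x hx =>
        (mem_suG.mp (Subgroup.map_subtype_le _ hx)).2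
    have h4 : Nat.card φ.range * Nat.card φ.ker = Nat.card (suG n F q) := by
      rw [← Subgroup.index_ker, mul_comm, Subgroup.card_mul_index]
    have := Nat.mul_le_mul hB h1
    rw [h4, mul_comm] at this
    omega
  · obtain ⟨x, hx, hxg⟩ := (h.ge g.2 : g.1 ∈ N)
    rwa [Subtype.ext hxg] at hx

theorem suG_card_ge_three (hF : Fintype.card F = q ^ 2) (hn : 2 ≤ n) :
    q ^ (n * (n - 1) / 2) * 3 ≤ Nat.card (suG n F q) := by
  have hq := two_le_of_card_sq hF
  have h := card_SU_mul hF (show 1 ≤ n by omega)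
  rw [Nat.card_congr suGEquiv.toEquiv, card_GU hF n] at h
  obtain ⟨m, rfl⟩ : ∃ m, n = m + 1 + 1 := ⟨n - 2, by omega⟩
  rw [Finset.prod_range_succ', Finset.prod_range_succ', show (if Even 0 then q ^ (0 + 1) + 1 else q ^ (0 + 1) - 1) = q + 1 by
    simp, ← mul_assoc, mul_comm (q + 1)] at h
  have h1 : 1 ≤ ∏ i ∈ Finset.range m,
      (if Even (i + 1 + 1) then q ^ (i + 1 + 1 + 1) + 1 else q ^ (i + 1 + 1 + 1) - 1) :=
    Finset.one_le_prod fun i _ => by
      have : 2 ≤ q ^ (i + 1 + 1 + 1) := le_trans hq (Nat.le_self_pow (by omega) q)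
      split <;> omega
  have h2 : 3 ≤ (if Even (0 + 1) then q ^ (0 + 1 + 1) + 1 else q ^ (0 + 1 + 1) - 1) := by
    have : 4 ≤ q ^ 2 := Nat.pow_le_pow_left hq 2
    norm_num
    omega
  rw [Nat.eq_of_mul_eq_mul_right (by omega) h]
  exact Nat.mul_le_mul le_rfl (le_trans (le_of_eq (one_mul 3).symm) (Nat.mul_le_mul h1 h2))

theorem suG_not_le_decomp_gen (hF : Fintype.card F = q ^ 2) (hn : 3 ≤ n) (hd : 3 ≤ q ∨ 4 ≤ n)
    {t k : ℕ} {D : Fin t → Submodule F (Fin n → F)} (hD : IsMDecomposition k D)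
    (hsize : n * t.factorial < Nat.card (suG n F q)) : ¬ suG n F q ≤ decompositionStabilizer D := by
  classical
  intro hle
  have ht := hD.two_le
  have hk := hD.pos
  choose π hπ using fun g : suG n F q => hle g.2
  have hbot : ∀ i, D i ≠ ⊥ := fun i e => by
    have := hD.finrank_eq i
    rw [e, finrank_bot] at this
    omega
  have hDinj : Function.Injective D := by
    intro i j hij
    by_contra hne
    have h := hD.indep.pairwiseDisjoint hne
    rw [Function.onFun, hij, disjoint_self] at h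
    exact hbot j h
  let φ : suG n F q →* Equiv.Perm (Fin t) := MonoidHom.mk' π fun a b => by
    refine Equiv.ext fun i => hDinj ?_
    rw [← hπ, Equiv.Perm.mul_apply, ← hπ a, ← hπ b, Subgroup.coe_mul, Units.val_mul,
      Matrix.toLin'_mul, Submodule.map_comp]
  have htriv := suG_action_trivial hF hn hd φ (B := t.factorial) (by
    refine (Nat.card_le_card_of_injective _ Subtype.val_injective).trans ?_
    rw [Nat.card_eq_fintype_card, Fintype.card_perm, Fintype.card_fin]) hsize
  let i₀ : Fin t := ⟨0, by omega⟩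
  let i₁ : Fin t := ⟨1, by omega⟩
  refine suG_not_le_subspace hF hn (W := D i₀) (hbot i₀) (fun e => ?_) (le_subspaceStabilizer ?_)
  · have h := hD.indep.pairwiseDisjoint (show i₁ ≠ i₀ by simp [i₀, i₁, Fin.ext_iff])
    rw [Function.onFun, e, disjoint_top] at h
    exact hbot i₁ h
  · intro g hg v hv
    have e := hπ ⟨g, hg⟩ i₀
    rw [show π ⟨g, hg⟩ = 1 from htriv ⟨g, hg⟩, Equiv.Perm.one_apply] at e
    rw [← e]
    exact ⟨v, hv, rfl⟩

/-- `GL` in a small degree is small. -/
theorem card_GL_le (hF : Fintype.card F = q ^ 2) (m : ℕ) :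
    Nat.card (GL (Fin m) F) ≤ q ^ (2 * (m * m)) := by
  classical
  refine (Nat.card_le_card_of_injective (fun g : GL (Fin m) F => (g : Mat m F))
    fun a b h => Units.ext h).trans (le_of_eq ?_)
  rw [Nat.card_eq_fintype_card]
  show Fintype.card (Fin m → Fin m → F) = _
  rw [Fintype.card_fun, Fintype.card_fun, Fintype.card_fin, hF, ← pow_mul, ← pow_mul]

theorem suG_not_le_tensor (hF : Fintype.card F = q ^ 2) (hn : 3 ≤ n) (hd : 3 ≤ q ∨ 4 ≤ n)
    {a b : ℕ} (ha : 2 ≤ a) (hb : 0 < b) (e : Fin n ≃ Fin a × Fin b) (P : GL (Fin n) F)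
    (hsize : n * q ^ (2 * (a * a)) < Nat.card (suG n F q)) :
    ¬ suG n F q ≤ tensorProductSubgroup a b e P := by
  classical
  intro hle
  choose A B hAB using fun g : suG n F q => (AschSp.mem_tensor_iff e P).mp (hle g.2)
  have hconj : ∀ (g : suG n F q) (X : Mat a F), conjHom g.1 (AschSp.leftHom e P X) =
      AschSp.leftHom e P ((A g : Mat a F) * X * (((A g)⁻¹ : GL (Fin a) F) : Mat a F)) := fun g X => by
    rw [AschSp.leftHom_apply, AschSp.leftHom_apply, AschSp.conj_pull e P (hAB g), mul_one,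
      Units.mul_inv]
  let conjA : GL (Fin a) F → Mat a F → Mat a F :=
    fun x X => (x : Mat a F) * X * ((x⁻¹ : GL (Fin a) F) : Mat a F)
  have hinj : Function.Injective (AschSp.leftHom e P : Mat a F → Mat n F) := fun X Y h =>
    AschSp.kron_left_inj hb (AschSp.pull_injective e P h)
  let act : MulAction (suG n F q) (Mat a F) :=
    { smul := fun g X => conjA (A g) X
      one_smul := fun X => hinj (by
        show AschSp.leftHom e P (conjA (A 1) X) = _
        rw [← hconj]; simp [conjHom_apply])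
      mul_smul := fun g h X => hinj (by
        show AschSp.leftHom e P (conjA (A (g * h)) X) = AschSp.leftHom e P (conjA (A g) (conjA (A h) X))
        rw [← hconj, ← hconj, ← hconj]
        simp [conjHom_apply, mul_assoc]) }
  let φ : suG n F q →* Equiv.Perm (Mat a F) := @MulAction.toPermHom _ _ _ act
  have hφ : ∀ g X, φ g X = conjA (A g) X := fun _ _ => rfl
  have htriv := suG_action_trivial hF hn hd φ (B := q ^ (2 * (a * a))) (by
    refine le_trans ?_ (card_GL_le (F := F) hF a)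
    refine Nat.card_le_card_of_injective (fun x : φ.range => A x.2.choose) fun x y h => ?_
    refine Subtype.ext (Equiv.ext fun X => ?_)
    rw [← x.2.choose_spec, ← y.2.choose_spec, hφ, hφ]
    exact congrArg (fun z => conjA z X) h) hsize
  let X : Mat a F := Matrix.single ⟨0, by omega⟩ ⟨1, by omega⟩ 1
  obtain ⟨c, hc⟩ := suG_commutant hF (by omega) (AschSp.leftHom e P X) fun g hg => by
    have h := hconj ⟨g, hg⟩ X
    have h1 : conjA (A ⟨g, hg⟩) X = X := by rw [← hφ, htriv]; rfl
    rw [show (A ⟨g, hg⟩ : Mat a F) * X * (((A ⟨g, hg⟩)⁻¹ : GL (Fin a) F) : Mat a F) = X from h1,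
      conjHom_apply] at h
    calc AschSp.leftHom e P X * (g : Mat n F)
        = (g : Mat n F) * AschSp.leftHom e P X * ((g⁻¹ : GL (Fin n) F) : Mat n F) * (g : Mat n F) := by
          rw [h]
      _ = _ := by rw [Units.inv_mul_cancel_right]
  have hX : X = c • 1 := hinj (by rw [hc, map_smul, map_one])
  have := congrFun (congrFun hX ⟨0, by omega⟩) ⟨1, by omega⟩
  simp [X, Matrix.one_apply, Fin.ext_iff] at this

theorem suG_not_le_wreath (hF : Fintype.card F = q ^ 2) {k t : ℕ} (e : Fin n ≃ (Fin t → Fin k))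
    (P : GL (Fin n) F) (hsize : q ^ (2 * (k * k) * t) * t.factorial < Nat.card (suG n F q)) :
    ¬ suG n F q ≤ tensorWreathSubgroup k t e P := by
  classical
  intro hle
  have h1 : Nat.card (suG n F q) ≤ Nat.card (tensorWreathSubgroup k t e P) :=
    Nat.card_le_card_of_injective _ (Subgroup.inclusion_injective hle)
  have h2 : Nat.card (tensorWreathSubgroup k t e P) ≤ Nat.card (tensorWreathStandard k t F) := by
    rw [tensorWreathSubgroup,
      Subgroup.card_map_of_injective (f := (MulAut.conj P).toMonoidHom) (MulAut.conj P).injective,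
      Subgroup.card_map_of_injective (f := (glReindex e.symm).toMonoidHom) (glReindex e.symm).injective]
  have h3 : Nat.card (tensorWreathStandard k t F) ≤ Nat.card ((Fin t → GL (Fin k) F) × Equiv.Perm (Fin t)) := by
    refine Nat.card_le_card_of_surjective (fun x : (Fin t → GL (Fin k) F) × Equiv.Perm (Fin t) =>
      (⟨pureUnit x.1 * permUnit x.2, Subgroup.mul_mem _ (Subgroup.subset_closure (.inl (pureUnit_isPure _)))
        (Subgroup.subset_closure (.inr ⟨x.2, fun _ _ => rfl⟩))⟩ : tensorWreathStandard k t F)) ?_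
    rintro ⟨w, hw⟩
    obtain ⟨a, π, rfl⟩ := wreath_normal_form hw
    exact ⟨(a, π), rfl⟩
  rw [Nat.card_prod, Nat.card_fun, Nat.card_perm, Nat.card_eq_fintype_card (α := Fin t),
    Fintype.card_fin] at h3
  have h4 : Nat.card (GL (Fin k) F) ^ t ≤ q ^ (2 * (k * k) * t) := by
    rw [pow_mul q (2 * (k * k))]
    exact Nat.pow_le_pow_left (card_GL_le hF k) t
  have := Nat.mul_le_mul_right t.factorial h4
  omega

theorem suG_not_le_normalizer_sim (hF : Fintype.card F = q ^ 2) (hn : 3 ≤ n) (hd : 3 ≤ q ∨ 4 ≤ n)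
    {R : Subgroup (GL (Fin n) F)} (hsim : R ≤ similarityGroup (Cfsg.hermForm n F q))
    (hcomm : ∀ a ∈ R, ∀ b ∈ R, a * b * a⁻¹ * b⁻¹ ∈ scalars (Fin n) F)
    (hns : ¬ R ≤ scalars (Fin n) F) : ¬ suG n F q ≤ subgroupNormalizer R := by
  intro hle
  obtain ⟨σ, hσ, hc⟩ := exists_frob hF
  have hnorm : ∀ g ∈ suG n F q, ∀ x ∈ R, g * x * g⁻¹ ∈ R := fun g hg x hx =>
    (Subgroup.mem_normalizer_iff.mp (hle hg) x).mp hx
  -- similitudes normalise the special unitary group
  have hsuG : ∀ x ∈ R, ∀ g ∈ suG n F q, x * g * x⁻¹ ∈ suG n F q := by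
    intro x hx g hg
    obtain ⟨hgu, hdet⟩ := mem_suG.mp hg
    refine mem_suG.mpr ⟨fun u v => ?_, ?_⟩
    · change Cfsg.hermForm n F q (((x * g * x⁻¹ : GL (Fin n) F) : Mat n F) *ᵥ u)
        (((x * g * x⁻¹ : GL (Fin n) F) : Mat n F) *ᵥ v) = Cfsg.hermForm n F q u v
      obtain ⟨c, hc'⟩ := hsim hx
      obtain ⟨d, hd'⟩ := hsim (inv_mem hx)
      have hcd : ∀ a b, (c : F) * ((d : F) * Cfsg.hermForm n F q a b) = Cfsg.hermForm n F q a b := by
        intro a b
        rw [← hd', ← hc', Matrix.mulVec_mulVec, Matrix.mulVec_mulVec, Units.mul_inv, Matrix.one_mulVec,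
          Matrix.one_mulVec]
      rw [Units.val_mul, Units.val_mul, ← Matrix.mulVec_mulVec, ← Matrix.mulVec_mulVec,
        ← Matrix.mulVec_mulVec, ← Matrix.mulVec_mulVec, hc']
      have hg' : ∀ a b, Cfsg.hermForm n F q ((g : Mat n F) *ᵥ a) ((g : Mat n F) *ᵥ b) =
          Cfsg.hermForm n F q a b := hgu
      rw [hg', hd', hcd]
    · rw [Units.val_mul, Units.val_mul, Matrix.det_mul, Matrix.det_mul, hdet, mul_one, ← Matrix.det_mul,
        Units.mul_inv, Matrix.det_one]
  obtain ⟨hperf, hnor⟩ := suG_perfect_and_normal hF hn hd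
  rcases hnor (R ⊓ suG n F q) inf_le_right fun h hh x hx =>
      ⟨hnorm h hh x hx.1, Subgroup.mul_mem _ (Subgroup.mul_mem _ hh hx.2) (inv_mem hh)⟩ with h | h
  · refine hns fun x hx => ?_
    have hcs : ∀ g ∈ suG n F q, g * x * g⁻¹ * x⁻¹ ∈ scalars (Fin n) F := fun g hg => h ⟨
      R.mul_mem (hnorm g hg x hx) (inv_mem hx), by
        rw [show g * x * g⁻¹ * x⁻¹ = g * (x * g⁻¹ * x⁻¹) by group]
        exact Subgroup.mul_mem _ hg (hsuG x hx _ (inv_mem hg))⟩
    letI : CommGroup (scalars (Fin n) F) :=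
      { (inferInstance : Group (scalars (Fin n) F)) with
        mul_comm := fun u v => Subtype.ext (scalars_comm u.2 v.1) }
    let φ : suG n F q →* scalars (Fin n) F :=
      MonoidHom.mk' (fun g => ⟨g.1 * x * g.1⁻¹ * x⁻¹, hcs g g.2⟩) fun g h => Subtype.ext (by
        show (g.1 * h.1) * x * (g.1 * h.1)⁻¹ * x⁻¹ = (g.1 * x * g.1⁻¹ * x⁻¹) * (h.1 * x * h.1⁻¹ * x⁻¹)
        rw [← scalars_comm (hcs h h.2) (g.1 * x * g.1⁻¹ * x⁻¹)]
        calc (g.1 * h.1) * x * (g.1 * h.1)⁻¹ * x⁻¹
            = g.1 * (h.1 * x * h.1⁻¹ * x⁻¹) * (x * g.1⁻¹ * x⁻¹) := by group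
          _ = (h.1 * x * h.1⁻¹ * x⁻¹) * g.1 * (x * g.1⁻¹ * x⁻¹) := by rw [scalars_comm (hcs h h.2) g.1]
          _ = _ := by group)
    have hcx : ∀ g ∈ suG n F q, g * x = x * g := by
      intro g hg
      have htop : commutator (suG n F q) = ⊤ := by
        refine Subgroup.map_injective (suG n F q).subtype_injective ?_
        rw [commutator_def, Subgroup.map_commutator, ← MonoidHom.range_eq_map, Subgroup.range_subtype]
        exact hperf
      have h1 : (⟨g, hg⟩ : suG n F q) ∈ φ.ker :=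
        Abelianization.commutator_subset_ker φ (htop ▸ Subgroup.mem_top _)
      have h2 : g * x * g⁻¹ * x⁻¹ = 1 := congrArg Subtype.val h1
      exact mul_inv_eq_iff_eq_mul.mp (mul_inv_eq_one.mp h2)
    obtain ⟨c, hc⟩ := suG_commutant hF (by omega) (x : Mat n F) fun g hg =>
      (congrArg Units.val (hcx g hg)).symm
    exact mem_scalars_of_eq (by omega) hc
  · have hle' : suG n F q ≤ R := inf_eq_right.mp h
    refine suG_not_scalar hF hn ?_
    rw [← hperf]
    exact Subgroup.commutator_le.mpr fun a ha b hb => by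
      rw [commutatorElement_def]; exact hcomm a (hle' ha) b (hle' hb)

theorem suG_not_le_field_deg (hF : Fintype.card F = q ^ 2) (hn : 3 ≤ n) (hd : 3 ≤ q ∨ 4 ≤ n)
    {r : ℕ} (hr : 2 ≤ r) {K : Subalgebra F (Mat n F)} (hK : IsFieldSubalgebra r K) :
    ¬ suG n F q ≤ subalgebraNormalizer K := by
  classical
  intro hle
  haveI : Nontrivial (Mat n F) := ⟨⟨0, 1, fun h => by
    have := congrFun (congrFun h ⟨0, by omega⟩) ⟨0, by omega⟩
    simp at this⟩⟩
  letI : Field K := IsField.toField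
    { exists_pair_ne := ⟨0, 1, fun h => zero_ne_one (α := Mat n F) (congrArg Subtype.val h)⟩
      mul_comm := fun a b => Subtype.ext (hK.comm a a.2 b b.2)
      mul_inv_cancel := fun {a} ha => by
        obtain ⟨b, hb, hab⟩ := hK.inv a a.2 fun h => ha (Subtype.ext h)
        exact ⟨⟨b, hb⟩, Subtype.ext hab⟩ }
  haveI : Finite K := inferInstance
  letI : Fintype K := Fintype.ofFinite K
  obtain ⟨z, hz⟩ := IsCyclic.exists_generator (α := Kˣ)
  have hconj : ∀ g ∈ suG n F q, ∀ k ∈ K,
      (g : Mat n F) * k * ((g⁻¹ : GL (Fin n) F) : Mat n F) ∈ K := fun g hg k hk => (hle hg k).mp hk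
  set Z := ((z : K) : Mat n F)
  have hmul : ∀ (g : GL (Fin n) F) (a b : Mat n F),
      (g : Mat n F) * (a * b) * ((g⁻¹ : GL (Fin n) F) : Mat n F) =
        ((g : Mat n F) * a * ((g⁻¹ : GL (Fin n) F) : Mat n F)) *
          ((g : Mat n F) * b * ((g⁻¹ : GL (Fin n) F) : Mat n F)) := fun g a b => by
    simp [mul_assoc]
  have hgen : ∀ g ∈ suG n F q, ∃ a : ℕ,
      (g : Mat n F) * Z * ((g⁻¹ : GL (Fin n) F) : Mat n F) = Z ^ a := by
    intro g hg
    have hne : (⟨_, hconj g hg Z (z : K).2⟩ : K) ≠ 0 := fun h => by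
      have h' : (g : Mat n F) * Z * ((g⁻¹ : GL (Fin n) F) : Mat n F) = 0 := congrArg Subtype.val h
      rw [Units.mul_left_eq_zero, Units.mul_right_eq_zero] at h'
      exact z.ne_zero (Subtype.ext h')
    obtain ⟨a, ha⟩ := mem_powers_iff_mem_zpowers.mpr (hz (Units.mk0 _ hne))
    exact ⟨a, by simpa using (congrArg (fun u : Kˣ => ((u : K) : Mat n F)) ha).symm⟩
  have hfix : ∀ g ∈ ⁅suG n F q, suG n F q⁆, (g : Mat n F) * Z = Z * (g : Mat n F) := by
    suffices h : ⁅suG n F q, suG n F q⁆ ≤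
        (Subgroup.centralizer {Units.map (K.val : K →ₐ[F] Mat n F).toMonoidHom z}) from
      fun g hg => congrArg Units.val (Subgroup.mem_centralizer_singleton_iff.mp (h hg))
    set W := Units.map (K.val : K →ₐ[F] Mat n F).toMonoidHom z
    have key : ∀ g ∈ suG n F q, ∀ h ∈ suG n F q,
        (g * h) * W * (g * h)⁻¹ = (h * g) * W * (h * g)⁻¹ := by
      intro g hg h hh
      obtain ⟨a, ha⟩ := hgen g hg
      obtain ⟨b, hb⟩ := hgen h hh
      have ha' : g * W * g⁻¹ = W ^ a := Units.ext (by simpa [W] using ha)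
      have hb' : h * W * h⁻¹ = W ^ b := Units.ext (by simpa [W] using hb)
      calc (g * h) * W * (g * h)⁻¹ = g * (h * W * h⁻¹) * g⁻¹ := by group
        _ = (g * W * g⁻¹) ^ b := by rw [hb', conj_pow]
        _ = W ^ (b * a) := by rw [ha', ← pow_mul, mul_comm]
        _ = (h * W * h⁻¹) ^ a := by rw [hb', ← pow_mul]
        _ = h * (g * W * g⁻¹) * h⁻¹ := by rw [ha', conj_pow]
        _ = (h * g) * W * (h * g)⁻¹ := by group
    refine Subgroup.commutator_le.mpr fun g hg h hh => ?_
    rw [Subgroup.mem_centralizer_singleton_iff]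
    refine mul_inv_eq_iff_eq_mul.mp ?_
    calc ⁅g, h⁆ * W * ⁅g, h⁆⁻¹
        = (g * h) * ((g⁻¹ * h⁻¹) * W * (g⁻¹ * h⁻¹)⁻¹) * (g * h)⁻¹ := by
          rw [commutatorElement_def]; group
      _ = (g * h) * ((h⁻¹ * g⁻¹) * W * (h⁻¹ * g⁻¹)⁻¹) * (g * h)⁻¹ := by
          rw [key _ (inv_mem hg) _ (inv_mem hh)]
      _ = W := by group
  rw [(suG_perfect_and_normal hF hn hd).1] at hfix
  obtain ⟨c, hc⟩ := suG_commutant hF (by omega) Z fun g hg => (hfix g hg).symm
  have hbot : ∀ k : K, ∃ a : F, (k : Mat n F) = a • 1 := by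
    intro k
    by_cases hk : k = 0
    · exact ⟨0, by simp [hk]⟩
    obtain ⟨a, ha⟩ := mem_powers_iff_mem_zpowers.mpr (hz (Units.mk0 k hk))
    refine ⟨c ^ a, ?_⟩
    have := (congrArg (fun u : Kˣ => ((u : K) : Mat n F)) ha).symm
    simp only [Units.val_mk0, Units.val_pow_eq_pow_val, SubmonoidClass.coe_pow] at this
    rw [this, show ((z : K) : Mat n F) = c • 1 from hc, smul_pow, one_pow]
  have hle' : Subalgebra.toSubmodule K ≤ F ∙ (1 : Mat n F) := fun k hk => by
    obtain ⟨a, ha⟩ := hbot ⟨k, hk⟩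
    exact Submodule.mem_span_singleton.mpr ⟨a, ha.symm⟩
  have h1 := Submodule.finrank_mono hle'
  rw [finrank_span_singleton one_ne_zero, Subalgebra.finrank_toSubmodule, hK.finrank_eq] at h1
  omega

end CfsgLib.Classical.AschForm
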