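import Cfsg.Agent.Lib.Classical.AschForm.UnitaryMain
import Cfsg.Agent.Lib.Classical.AschForm.UnitaryProper
import Cfsg.Agent.Lib.Classical.AschPrime.UnitaryCases

/-!
# Maximal subgroups of the special unitary groups
-/

set_option autoImplicit false
set_option linter.unusedSectionVars false

namespace CfsgLib.Classical.AschForm

open Matrix Cfsg Cfsg.Geo CfsgLib.Classical.AschPrime CfsgLib.Classical.AschGen
open scoped MatrixGroups

variable {F : Type*} [Field F] [Fintype F] {n q : ℕ}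

/-- The normaliser of a group of symplectic type, with its arithmetic. -/
def SymMember (q : ℕ) (H : Subgroup (GL (Fin n) F)) : Prop :=
  ∃ (r k p : ℕ) (R : Subgroup (GL (Fin n) F)), r.Prime ∧ n = r ^ k ∧ p.Prime ∧ r ≠ p ∧
    IsSymplecticTypeGroup r R ∧ ActsAbsolutelyIrreducibly (matrixSet R) ∧
    R ≤ similarityGroup (Cfsg.hermForm n F q) ∧
    (r = 2 → q = p ∧ p % 4 = 3 ∧ Nat.card (Subgroup.center R) = 4 ∧ Nat.card R = 2 ^ (2 + 2 * k)) ∧
    (r = 3 → q = p ∧ p % 3 = 2 ∧ Nat.card (Subgroup.center R) = 3 ∧ Nat.card R = 3 ^ (1 + 2 * k)) ∧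
    H = subgroupNormalizer R ⊓ suG n F q

/-- A maximal subgroup of `SU(n,q)` is a member of a class cut down, or residual. -/
def UMax (q : ℕ) (H : Subgroup (GL (Fin n) F)) : Prop :=
  (∃ W : Submodule F (Fin n → F), W ≠ ⊥ ∧ IsTotallySingularFor (Cfsg.hermForm n F q) W ∧
      H = subspaceStabilizer W ⊓ suG n F q) ∨
  (∃ W : Submodule F (Fin n → F), W ≠ ⊥ ∧ IsNondegenerateOn (Cfsg.hermForm n F q) W ∧
      2 * Module.finrank F W < n ∧ H = subspaceStabilizer W ⊓ suG n F q) ∨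
  (∃ (t k : ℕ) (D : Fin t → Submodule F (Fin n → F)), 2 ≤ t ∧ 0 < k ∧ t * k = n ∧
      IsNondegenerateMDecomposition (Cfsg.hermForm n F q) k D ∧
      H = decompositionStabilizer D ⊓ suG n F q) ∨
  (∃ (k : ℕ) (D : Fin 2 → Submodule F (Fin n → F)), 2 * k = n ∧ IsMDecomposition k D ∧
      (∀ i, IsTotallySingularFor (Cfsg.hermForm n F q) (D i)) ∧
      H = decompositionStabilizer D ⊓ suG n F q) ∨
  (∃ (r : ℕ) (K : Subalgebra F (Mat n F)), r.Prime ∧ Odd r ∧ r ∣ n ∧ IsFieldSubalgebra r K ∧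
      IsAdjointClosedFor (Cfsg.hermForm n F q) K ∧ H = subalgebraNormalizer K ⊓ suG n F q) ∨
  (∃ (n₁ n₂ : ℕ) (e : Fin n ≃ Fin n₁ × Fin n₂) (P : GL (Fin n) F)
      (f₁ : (Fin n₁ → F) → (Fin n₁ → F) → F) (f₂ : (Fin n₂ → F) → (Fin n₂ → F) → F),
      2 ≤ n₁ ∧ n₁ < n₂ ∧ n₁ * n₂ = n ∧ IsUnitaryFormPow q f₁ ∧ IsUnitaryFormPow q f₂ ∧
      IsTensorFormStructure (fun x : F => x ^ q) (Cfsg.hermForm n F q) f₁ f₂ e P ∧
      H = tensorProductSubgroup n₁ n₂ e P ⊓ suG n F q) ∨
  (∃ (k t : ℕ) (e : Fin n ≃ (Fin t → Fin k)) (P : GL (Fin n) F) (f₁ : (Fin k → F) → (Fin k → F) → F),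
      3 ≤ k ∧ 2 ≤ t ∧ k ^ t = n ∧ ¬ (q = 2 ∧ k = 3) ∧ IsUnitaryFormPow q f₁ ∧
      IsTensorPowerFormStructure (fun x : F => x ^ q) (Cfsg.hermForm n F q) f₁ e P ∧
      H ≤ tensorWreathSubgroup k t e P) ∨
  (∃ (F₀ : Subfield F) (r : ℕ) (P : GL (Fin n) F), r.Prime ∧ Odd r ∧ Fintype.card F = Nat.card F₀ ^ r ∧
      IsFormRationalStructure (Cfsg.hermForm n F q) F₀ 1 P ∧ H = subfieldSubgroup F₀ P ⊓ suG n F q) ∨
  (∃ (F₀ : Subfield F) (P : GL (Fin n) F), Odd q ∧ Fintype.card F = Nat.card F₀ ^ 2 ∧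
      IsFormRationalStructure (Cfsg.hermForm n F q) F₀ 1 P ∧ H = subfieldSubgroup F₀ P ⊓ suG n F q) ∨
  (∃ (F₀ : Subfield F) (P : GL (Fin n) F) (ζ : F), Even n ∧ Fintype.card F = Nat.card F₀ ^ 2 ∧ ζ ≠ 0 ∧
      ζ + ζ ^ q = 0 ∧ IsFormRationalStructure (Cfsg.hermForm n F q) F₀ ζ P ∧
      (∀ u : Fin n → F, (∀ i, u i ∈ F₀) →
        Cfsg.hermForm n F q ((P : Mat n F) *ᵥ u) ((P : Mat n F) *ᵥ u) = 0) ∧
      H = subfieldSubgroup F₀ P ⊓ suG n F q) ∨
  SymMember q H ∨
  InUnitaryResidualClass H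

theorem size_tensor {a : ℕ} (hq : 2 ≤ q) (hn : 6 ≤ n) (ha : a * a ≤ n) :
    n * q ^ (2 * (a * a)) < q ^ (n * (n - 1) / 2) * 3 := by
  have h1 : n * q ^ (2 * (a * a)) ≤ n * q ^ (2 * n) :=
    Nat.mul_le_mul_left _ (Nat.pow_le_pow_right (by omega) (by omega))
  have h2 : 5 * n ≤ n * (n - 1) := by
    rw [mul_comm 5]; exact Nat.mul_le_mul_left _ (by omega)
  have h3 : 2 * n + n / 2 ≤ n * (n - 1) / 2 := by omega
  have h4 : n < 3 * 2 ^ (n / 2) := by
    have : n / 2 < 2 ^ (n / 2) := Nat.lt_two_pow_self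
    omega
  have h5 : n < q ^ (n / 2) * 3 :=
    h4.trans_le (by rw [mul_comm]; exact Nat.mul_le_mul_right _ (Nat.pow_le_pow_left hq _))
  calc n * q ^ (2 * (a * a)) ≤ n * q ^ (2 * n) := h1
    _ < q ^ (n / 2) * 3 * q ^ (2 * n) := Nat.mul_lt_mul_of_pos_right h5 (pow_pos (by omega) _)
    _ = q ^ (2 * n + n / 2) * 3 := by rw [pow_add]; ring
    _ ≤ _ := Nat.mul_le_mul_right _ (Nat.pow_le_pow_right (by omega) h3)

/-- The maximal subgroups of the special unitary group. -/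
theorem unitary_max (hF : Fintype.card F = q ^ 2) (hn : 4 ≤ n)
    (hsize : n * n.factorial < Nat.card (suG n F q))
    {H : Subgroup (GL (Fin n) F)} (hH : IsMaximalIn (suG n F q) H) : UMax q H := by
  classical
  have hn3 : 3 ≤ n := by omega
  have hd : 3 ≤ q ∨ 4 ≤ n := .inr hn
  have hq := two_le_of_card_sq hF
  rcases unitary_structure hF hn3 (hH.1.le.trans inf_le_left) with ⟨M, hM, hHM⟩ | hres
  swap
  · exact .inr (.inr (.inr (.inr (.inr (.inr (.inr (.inr (.inr (.inr (.inr hres))))))))))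
  have key : ∀ X : Subgroup (GL (Fin n) F), M = X ⊓ Cfsg.GU n F q → ¬ suG n F q ≤ X →
      H = X ⊓ suG n F q := fun X hX hnot =>
    maximal_eq_inf hH ((hHM.trans hX.le).trans inf_le_left) hnot
  rcases hM with hpart | ⟨r, K, hr, hodd, hK, hadj, hM⟩ |
    ⟨n₁, n₂, e, P, f₁, f₂, h1, h2, hf₁, hf₂, hT, hM⟩ | ⟨k, t, e, P, f₁, hk, ht, hex, hf₁, hT, hM⟩
  · rcases hpart with ⟨W, h0, hts, hM⟩ | ⟨W, h0, hnd, hdim, hM⟩ | ⟨t, k, D, hD, hM⟩ |
      ⟨k, D, hk, hD, hts, hM⟩ | ⟨F₀, r, P, hr, hodd, hcard, hP, hM⟩ | ⟨F₀, P, hodd, hcard, hP, hM⟩ |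
      ⟨F₀, P, ζ, hev, hcard, hζ, hζq, hP, halt, hM⟩ |
      ⟨r, R, p, e, k, hST, habs, hsim, hrp, hfield, hcases, hM⟩
    · refine .inl ⟨W, h0, hts, key _ hM (suG_not_le_subspace hF hn3 h0 fun e => ?_)⟩
      obtain ⟨σ, hσ, hc⟩ := exists_frob hF
      obtain ⟨⟨w, hw⟩, -⟩ := herm_nondeg (n := n) hσ (Pi.single ⟨0, by omega⟩ 1) (by simp)
      exact hw (hts _ (e ▸ Submodule.mem_top) _ (e ▸ Submodule.mem_top))
    · refine .inr (.inl ⟨W, h0, hnd, hdim, key _ hM (suG_not_le_subspace hF hn3 h0 fun e => ?_)⟩)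
      rw [e, finrank_top, Module.finrank_fintype_fun_eq_card, Fintype.card_fin] at hdim
      omega
    · have htk := decomp_card hD.decomp
      have htn : t ≤ n := htk ▸ Nat.le_mul_of_pos_right t hD.decomp.pos
      exact .inr (.inr (.inl ⟨t, k, D, hD.decomp.two_le, hD.decomp.pos, htk, hD, key _ hM
        (suG_not_le_decomp_gen hF hn3 hd hD.decomp (lt_of_le_of_lt
          (Nat.mul_le_mul_left _ (Nat.factorial_le htn)) hsize))⟩))
    · exact .inr (.inr (.inr (.inl ⟨k, D, hk, hD, hts, key _ hM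
        (suG_not_le_decomp_gen hF hn3 hd hD (lt_of_le_of_lt
          (Nat.mul_le_mul_left _ (Nat.factorial_le (by omega))) hsize))⟩)))
    · exact .inr (.inr (.inr (.inr (.inr (.inr (.inr (.inl ⟨F₀, r, P, hr, hodd, hcard, hP, key _ hM
        (suG_not_le_subfield hF hn3 hd (subfield_ne_top hr hcard) P)⟩)))))))
    · exact .inr (.inr (.inr (.inr (.inr (.inr (.inr (.inr (.inl ⟨F₀, P, hodd, hcard, hP, key _ hM
        (suG_not_le_subfield hF hn3 hd (subfield_ne_top Nat.prime_two hcard) P)⟩))))))))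
    · exact .inr (.inr (.inr (.inr (.inr (.inr (.inr (.inr (.inr (.inl ⟨F₀, P, ζ, hev, hcard, hζ, hζq, hP,
        halt, key _ hM (suG_not_le_subfield hF hn3 hd (subfield_ne_top Nat.prime_two hcard) P)⟩)))))))))
    · obtain ⟨hp, hcp, hcard, hdvd, hmin⟩ := hfield
      have hzd : Nat.card (Subgroup.center R) ∣ Nat.card F - 1 := by
        rw [Nat.card_eq_fintype_card (α := F), hcard]; exact hdvd
      have hz : Nat.card (Subgroup.center R) = r * Nat.gcd 2 r := by
        rcases hcases with ⟨ho, hz, -⟩ | ⟨rfl, -, hz, -⟩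
        · rw [hz, show Nat.gcd 2 r = 1 from Nat.coprime_two_left.mpr ho, mul_one]
        · rw [hz]; rfl
      have hR := symType_of_data (by omega) hST habs hz hzd
      have hcardR := hR.card_eq (by omega)
      obtain ⟨m, -, hm⟩ := hR.exists_dim (by omega)
      have hr2 := hST.prime.two_le
      have hk : n = r ^ k := by
        rw [hz] at hcardR
        rcases hcases with ⟨ho, hz', -, hc⟩ | ⟨rfl, -, hz', hc⟩
        · rw [hc, show Nat.gcd 2 r = 1 from Nat.coprime_two_left.mpr ho, mul_one, hm, ← pow_add,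
            ← pow_succ] at hcardR
          have := Nat.pow_right_injective hr2 hcardR
          rw [hm, show m = k by omega]
        · rw [hc, show (2 * Nat.gcd 2 2 : ℕ) = 2 ^ 2 from rfl, hm, ← pow_add, ← pow_add] at hcardR
          have := Nat.pow_right_injective hr2 hcardR
          rw [hm, show m = k by omega]
      obtain ⟨j, hj⟩ : ∃ j, q = p ^ j :=
        have hd : q ∣ p ^ e := by rw [← hcard, hF]; exact dvd_pow_self q two_ne_zero
        let ⟨j, _, hj⟩ := (Nat.dvd_prime_pow hp).mp hd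
        ⟨j, hj⟩
      have he : e = 2 * j := by
        rw [hF, hj, ← pow_mul] at hcard
        have := Nat.pow_right_injective hp.two_le hcard
        omega
      have hj1 : 1 ≤ j := by
        by_contra h
        rw [show j = 0 by omega, pow_zero] at hj
        omega
      refine .inr (.inr (.inr (.inr (.inr (.inr (.inr (.inr (.inr (.inr (.inl ⟨r, k, p, R, hST.prime, hk,
        hp, hrp, hST, habs, hsim, ?_, ?_, key _ hM (suG_not_le_normalizer_sim hF hn3 hd hsim hR.comm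
          fun hle => algOf_comm_false (by omega) hR.full fun x hx y _ => scalars_comm (hle hx) y)⟩))))))))))
      · rintro rfl
        rcases hcases with ⟨ho, -⟩ | ⟨-, he2, hz', hc⟩
        · exact absurd ho (by decide)
        have hj' : j = 1 := by omega
        subst hj'
        rw [pow_one] at hj
        refine ⟨hj, ?_, hz', hc⟩
        have hpodd := Nat.odd_iff.mp (hp.odd_of_ne_two fun h => hrp h.symm)
        by_contra h4
        refine hmin 1 one_pos (by omega) ?_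
        rw [hz', pow_one]
        omega
      · rintro rfl
        rcases hcases with ⟨-, hz', -, hc⟩ | ⟨h, -⟩
        swap
        · exact absurd h (by decide)
        have hp3 : p % 3 ≠ 0 := fun h0 =>
          hrp ((Nat.prime_dvd_prime_iff_eq Nat.prime_three hp).mp (Nat.dvd_of_mod_eq_zero h0))
        have hp1 : p % 3 ≠ 1 := fun h1 => hmin 1 one_pos (by omega) (by
          rw [hz', pow_one]; omega)
        have hj' : j = 1 := by
          by_contra hne
          refine hmin 2 two_pos (by omega) ?_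
          rw [hz']
          have h2 : p ^ 2 % 3 = 1 := by rw [Nat.pow_mod, show p % 3 = 2 by omega]
          omega
        subst hj'
        rw [pow_one] at hj
        exact ⟨hj, by omega, hz', hc⟩
  · exact .inr (.inr (.inr (.inr (.inl ⟨r, K, hr, hodd, field_dvd (by omega) hK, hK, hadj, key _ hM
      (suG_not_le_field_deg hF hn3 hd hr.two_le hK)⟩))))
  · have hprod : n₁ * n₂ = n := by simpa using (Fintype.card_congr e).symm
    have h6 : 6 ≤ n := hprod ▸ Nat.mul_le_mul h1 (show 3 ≤ n₂ by omega)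
    have hsq : n₁ * n₁ ≤ n := hprod ▸ Nat.mul_le_mul_left _ h2.le
    exact .inr (.inr (.inr (.inr (.inr (.inl ⟨n₁, n₂, e, P, f₁, f₂, h1, h2, hprod, hf₁, hf₂, hT, key _ hM
      (suG_not_le_tensor hF hn3 hd h1 (by omega) e P
        ((size_tensor hq h6 hsq).trans_le (suG_card_ge_three hF (by omega))))⟩)))))
  · refine .inr (.inr (.inr (.inr (.inr (.inr (.inl ⟨k, t, e, P, f₁, hk, ht, ?_, hex, hf₁, hT,
      (hHM.trans hM.le).trans inf_le_left⟩))))))
    simpa using (Fintype.card_congr e).symm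

end CfsgLib.Classical.AschForm
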