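import Cfsg.Agent.Lib.Classical.AschForm.UnitaryRows
import Cfsg.Agent.Lib.Classical.SubfieldMax.Member

/-!
# Groups commuting with a semilinear involution up to scalars, and the totally isotropic pair in
dimension four over a small field
-/

set_option autoImplicit false
set_option linter.unusedSectionVars false

namespace CfsgLib.Classical.AschForm

open Matrix Cfsg Cfsg.Geo CfsgLib.Classical.AschPrime CfsgLib.Classical.AschGen
open scoped MatrixGroups

variable {F : Type*} [Field F] [Fintype F] {n q : ℕ} {σ : F →+* F}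

/-- A group of isometries commuting up to scalars with a semilinear involution, on whose fixed
vectors the form is skew, lies in a subfield group of symplectic type. -/
theorem symp_of_semilinear (hF : Fintype.card F = q ^ 2) (hσ : ∀ x, σ x = x ^ q) (hc : IsConjugation σ)
    (hn : 4 ≤ n) {H : Subgroup (GL (Fin n) F)} (hH : IsMaximalIn (suG n F q) H)
    {P : GL (Fin n) F} {M : Mat n F} (hP : M * (P : Mat n F).map σ = P)
    (hcomm : ∀ h ∈ H, ∃ c : F, c ≠ 0 ∧ M * (c • (h : Mat n F)).map σ = (c • (h : Mat n F)) * M)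
    (hskew : ∀ v w, M *ᵥ (σ ∘ v) = v → M *ᵥ (σ ∘ w) = w →
      σ (Cfsg.hermForm n F q v w) = -Cfsg.hermForm n F q v w)
    (halt : ∀ v, M *ᵥ (σ ∘ v) = v → Cfsg.hermForm n F q v v = 0) :
    ∃ (F₀ : Subfield F) (P : GL (Fin n) F) (ζ : F), Fintype.card F = Nat.card F₀ ^ 2 ∧ ζ ≠ 0 ∧
      ζ + ζ ^ q = 0 ∧ IsFormRationalStructure (Cfsg.hermForm n F q) F₀ ζ P ∧
      (∀ u : Fin n → F, (∀ i, u i ∈ F₀) →
        Cfsg.hermForm n F q ((P : Mat n F) *ᵥ u) ((P : Mat n F) *ᵥ u) = 0) ∧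
      H = subfieldSubgroup F₀ P ⊓ suG n F q := by
  classical
  let F₀ : Subfield F := RingHom.eqLocusField σ (RingHom.id F)
  have hmem : ∀ x, x ∈ F₀ ↔ σ x = x := fun x => Iff.rfl
  let τ : F ≃+* F := RingEquiv.ofBijective σ
    ⟨σ.injective, fun x => ⟨σ x, hc.invol x⟩⟩
  have hne : ∃ x, τ x ≠ x := by
    by_contra h
    push Not at h
    exact hc.ne_id (RingHom.ext h)
  have hcard : Fintype.card F = Nat.card F₀ ^ 2 := by
    have h := (fixed_card τ hc.invol hne (q := q) (by rw [Nat.card_eq_fintype_card]; exact hF)).1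
    rw [hF, ← h, ← Nat.card_coe_set_eq]
    rfl
  have hfix : ∀ u : Fin n → F, (∀ i, u i ∈ F₀) → M *ᵥ (σ ∘ ((P : Mat n F) *ᵥ u)) = (P : Mat n F) *ᵥ u := by
    intro u hu
    rw [show σ ∘ ((P : Mat n F) *ᵥ u) = (P : Mat n F).map σ *ᵥ (σ ∘ u) from funext fun i =>
      RingHom.map_mulVec σ _ _ i, Matrix.mulVec_mulVec, hP, show σ ∘ u = u from funext fun i => (hmem _).mp (hu i)]
  obtain ⟨ζ, hζ0, hζ⟩ := hc.exists_div_eq (x := (-1 : F)) (by rw [map_neg, map_one]; ring)
  have hζs : σ ζ = -ζ := by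
    conv_rhs => rw [hζ]
    ring
  refine ⟨F₀, P, ζ, hcard, hζ0, by rw [← hσ, hζs, add_neg_cancel], ?_, fun u hu => halt _ (hfix u hu), ?_⟩
  · intro u v hu hv
    rw [hmem, map_mul, hζs, hskew _ _ (hfix u hu) (hfix v hv)]
    ring
  have hne0 : F₀ ≠ ⊤ := subfield_ne_top Nat.prime_two hcard
  refine maximal_eq_inf hH (fun h hh => ?_) (suG_not_le_subfield hF (by omega) (.inr hn) hne0 P)
  obtain ⟨c, hc0, hcM⟩ := hcomm h hh
  rw [CfsgLib.Classical.SubfieldMax.mem_subfieldSubgroup_iff]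
  refine ⟨c, hc0, fun a b => ?_⟩
  set X : Mat n F := ((P⁻¹ * h * P : GL (Fin n) F) : Mat n F) with hX
  have h1 : (P : Mat n F) * (c • X) = (c • (h : Mat n F)) * (P : Mat n F) := by
    rw [hX, Units.val_mul, Units.val_mul, Matrix.mul_smul, ← Matrix.mul_assoc, ← Matrix.mul_assoc,
      Units.mul_inv, Matrix.one_mul, Matrix.smul_mul]
  have h2 : (P : Mat n F) * (c • X).map σ = (P : Mat n F) * (c • X) := by
    have h3 := congrArg (fun Y : Mat n F => M * Y.map σ) h1
    simp only [Matrix.map_mul] at h3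
    rw [← Matrix.mul_assoc, ← Matrix.mul_assoc, hP, hcM, Matrix.mul_assoc, hP, ← h1] at h3
    exact h3
  have h4 := congrArg (fun Y : Mat n F => ((P⁻¹ : GL (Fin n) F) : Mat n F) * Y) h2
  simp only [← Matrix.mul_assoc, Units.inv_mul, Matrix.one_mul] at h4
  have h5 := congrFun (congrFun h4 a) b
  rw [Matrix.map_apply, Matrix.smul_apply, smul_eq_mul] at h5
  exact (hmem _).mpr h5

theorem small_sq (hσ : ∀ x, σ x = x ^ q) (hq : q = 2 ∨ q = 3) {d : F} (hd : σ d = d) (hd0 : d ≠ 0) :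
    d * d = 1 := by
  rw [hσ] at hd
  rcases hq with rfl | rfl
  · have : d = 1 := mul_left_cancel₀ hd0 (by rw [mul_one, ← pow_two]; exact hd)
    rw [this, one_mul]
  · exact mul_left_cancel₀ hd0 (by rw [mul_one]; calc d * (d * d) = d ^ 3 := by ring
      _ = d := hd)

/-- Coordinates adapted to a pair of totally isotropic planes. -/
theorem exists_pair_basis (hσ : ∀ x, σ x = x ^ q) (hc : IsConjugation σ)
    {D : Fin 2 → Submodule F (Fin 4 → F)} (hD : IsMDecomposition 2 D)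
    (hts : ∀ i, IsTotallySingularFor (Cfsg.hermForm 4 F q) (D i)) :
    ∃ P : GL (Fin 4) F, (∀ v w, Cfsg.hermForm 4 F q ((P : Mat 4 F) *ᵥ v) ((P : Mat 4 F) *ᵥ w) =
        v 0 * σ (w 2) + v 1 * σ (w 3) + v 2 * σ (w 0) + v 3 * σ (w 1)) ∧
      (∀ v, (P : Mat 4 F) *ᵥ v ∈ D 0 ↔ v 2 = 0 ∧ v 3 = 0) ∧
      (∀ v, (P : Mat 4 F) *ᵥ v ∈ D 1 ↔ v 0 = 0 ∧ v 1 = 0) := by
  classical
  have hs := herm_sesq (n := 4) hσ
  let u := Module.finBasisOfFinrankEq F (D 0) (hD.finrank_eq 0)
  let x := Module.finBasisOfFinrankEq F (D 1) (hD.finrank_eq 1)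
  let U : Fin 2 → (Fin 4 → F) := fun i => (u i : Fin 4 → F)
  let X : Fin 2 → (Fin 4 → F) := fun i => (x i : Fin 4 → F)
  let G : Mat 2 F := Matrix.of fun i j => Cfsg.hermForm 4 F q (U i) (X j)
  have hdis : Disjoint (D 0) (D 1) := hD.indep.pairwiseDisjoint (by decide)
  have hsum : ∀ z : Fin 4 → F, ∃ a ∈ D 0, ∃ b ∈ D 1, a + b = z := fun z => by
    have h : z ∈ D 0 ⊔ D 1 := by
      have : (⊤ : Submodule F (Fin 4 → F)) ≤ D 0 ⊔ D 1 := by
        rw [← hD.iSup_eq_top]
        refine iSup_le fun i => ?_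
        fin_cases i
        exacts [le_sup_left, le_sup_right]
      exact this Submodule.mem_top
    exact Submodule.mem_sup.mp h
  have hUspan : ∀ (a : Fin 4 → F) (ha : a ∈ D 0), a = u.repr ⟨a, ha⟩ 0 • U 0 + u.repr ⟨a, ha⟩ 1 • U 1 := fun a ha => by
    conv_lhs => rw [show a = ((⟨a, ha⟩ : D 0) : Fin 4 → F) from rfl, ← u.sum_repr ⟨a, ha⟩]
    rw [Fin.sum_univ_two, Submodule.coe_add, SetLike.val_smul, SetLike.val_smul]
  have hXspan : ∀ (a : Fin 4 → F) (ha : a ∈ D 1), a = x.repr ⟨a, ha⟩ 0 • X 0 + x.repr ⟨a, ha⟩ 1 • X 1 := fun a ha => by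
    conv_lhs => rw [show a = ((⟨a, ha⟩ : D 1) : Fin 4 → F) from rfl, ← x.sum_repr ⟨a, ha⟩]
    rw [Fin.sum_univ_two, Submodule.coe_add, SetLike.val_smul, SetLike.val_smul]
  have hGu : IsUnit G.det := by
    refine isUnit_iff_ne_zero.mpr fun h0 => ?_
    obtain ⟨a, ha0, ha⟩ := Matrix.exists_vecMul_eq_zero_iff.mpr h0
    set v := a 0 • U 0 + a 1 • U 1 with hv
    have hvD : v ∈ D 0 := add_mem (Submodule.smul_mem _ _ (u 0).2) (Submodule.smul_mem _ _ (u 1).2)
    have hvX : ∀ j, Cfsg.hermForm 4 F q v (X j) = 0 := fun j => by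
      have e := congrFun ha j
      simp only [Matrix.vecMul, dotProduct, Fin.sum_univ_two, G, Matrix.of_apply, Pi.zero_apply] at e
      rw [hv, hs.add_left, hs.smul_left, hs.smul_left, e]
    have hv0 : v = 0 := by
      by_contra hne
      obtain ⟨-, z, hz⟩ := herm_nondeg (n := 4) hσ v hne
      obtain ⟨p, hp, b, hb, rfl⟩ := hsum z
      refine hz ?_
      rw [hs.add_right, show Cfsg.hermForm 4 F q v p = 0 from hts 0 v hvD p hp, hXspan b hb, hs.add_right, hs.smul_right,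
        hs.smul_right, hvX, hvX]
      ring
    refine ha0 ?_
    have hlin := u.linearIndependent
    rw [Fintype.linearIndependent_iff] at hlin
    funext i
    refine hlin a (Subtype.ext ?_) i
    rw [Fin.sum_univ_two, Submodule.coe_add, SetLike.val_smul, SetLike.val_smul, ZeroMemClass.coe_zero]
    exact hv.symm.trans hv0
  let Gi : Mat 2 F := (G⁻¹).map σ
  let w : Fin 2 → (Fin 4 → F) := fun j => Gi 0 j • X 0 + Gi 1 j • X 1
  have hwD : ∀ j, w j ∈ D 1 := fun j => add_mem (Submodule.smul_mem _ _ (x 0).2) (Submodule.smul_mem _ _ (x 1).2)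
  have hUw : ∀ i j, Cfsg.hermForm 4 F q (U i) (w j) = if i = j then 1 else 0 := fun i j => by
    have e : (G * G⁻¹) i j = (1 : Mat 2 F) i j := by rw [Matrix.mul_nonsing_inv _ hGu]
    rw [Matrix.mul_apply, Fin.sum_univ_two, Matrix.one_apply] at e
    rw [hs.add_right, hs.smul_right, hs.smul_right, ← e]
    simp [Gi, G, hc.invol, mul_comm]
  have hwU : ∀ i j, Cfsg.hermForm 4 F q (w j) (U i) = if i = j then 1 else 0 := fun i j => by
    rw [← herm_symm hσ hc, hUw]; split <;> simp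
  let A : Mat 4 F := Matrix.of fun r c => ![U 0, U 1, w 0, w 1] c r
  have hA : ∀ v : Fin 4 → F, A *ᵥ v = v 0 • U 0 + v 1 • U 1 + (v 2 • w 0 + v 3 • w 1) := fun v => by
    funext r
    simp [A, Matrix.mulVec, dotProduct, Fin.sum_univ_four]
    ring
  have hval : ∀ v v', Cfsg.hermForm 4 F q (A *ᵥ v) (A *ᵥ v') =
      v 0 * σ (v' 2) + v 1 * σ (v' 3) + v 2 * σ (v' 0) + v 3 * σ (v' 1) := by
    intro v v'
    have hUU : ∀ i j, Cfsg.hermForm 4 F q (U i) (U j) = 0 := fun i j => hts 0 _ (u i).2 _ (u j).2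
    have hww : ∀ i j, Cfsg.hermForm 4 F q (w i) (w j) = 0 := fun i j => hts 1 _ (hwD i) _ (hwD j)
    rw [hA, hA]
    simp only [hs.add_left, hs.add_right, hs.smul_left, hs.smul_right, hUU, hww, hUw, hwU]
    simp
    ring
  have hAinj : Function.Injective fun v => A *ᵥ v := by
    intro v v' h
    have key : ∀ z : Fin 4 → F, A *ᵥ z = 0 → z = 0 := fun z hz => by
      have e : ∀ i : Fin 4, Cfsg.hermForm 4 F q (A *ᵥ z) (A *ᵥ Pi.single i 1) = 0 := fun i => by
        rw [hz]; simp [Cfsg.hermForm]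
      funext i
      have h0 := e 2; have h1 := e 3; have h2 := e 0; have h3 := e 1
      rw [hval] at h0 h1 h2 h3
      simp at h0 h1 h2 h3
      fin_cases i <;> assumption
    have := key (v - v') (by rw [Matrix.mulVec_sub]; exact sub_eq_zero.mpr h)
    exact sub_eq_zero.mp this
  obtain ⟨P, hP⟩ : IsUnit A := Matrix.mulVec_injective_iff_isUnit.mp hAinj
  refine ⟨P, fun v v' => by rw [hP]; exact hval v v', fun v => ?_, fun v => ?_⟩ <;> rw [hP, hA]
  · constructor
    · intro h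
      have h2 : v 2 • w 0 + v 3 • w 1 ∈ D 0 := by
        have := sub_mem h (add_mem (Submodule.smul_mem (D 0) (v 0) (u 0).2) (Submodule.smul_mem (D 0) (v 1) (u 1).2))
        rwa [add_sub_cancel_left] at this
      have h0 := Submodule.disjoint_def.mp hdis _ h2
        (add_mem (Submodule.smul_mem _ _ (hwD 0)) (Submodule.smul_mem _ _ (hwD 1)))
      have e0 := congrArg (fun z => Cfsg.hermForm 4 F q z (U 0)) h0
      have e1 := congrArg (fun z => Cfsg.hermForm 4 F q z (U 1)) h0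
      simp only [hs.add_left, hs.smul_left, hwU] at e0 e1
      simp [Cfsg.hermForm] at e0 e1
      exact ⟨e0, e1⟩
    · rintro ⟨h2, h3⟩
      rw [h2, h3, zero_smul, zero_smul, add_zero, add_zero]
      exact add_mem (Submodule.smul_mem _ _ (u 0).2) (Submodule.smul_mem _ _ (u 1).2)
  · constructor
    · intro h
      have h2 : v 0 • U 0 + v 1 • U 1 ∈ D 1 := by
        have := sub_mem h (add_mem (Submodule.smul_mem (D 1) (v 2) (hwD 0)) (Submodule.smul_mem (D 1) (v 3) (hwD 1)))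
        rwa [add_sub_cancel_right] at this
      have h0 := Submodule.disjoint_def.mp hdis _
        (add_mem (Submodule.smul_mem _ _ (u 0).2) (Submodule.smul_mem _ _ (u 1).2)) h2
      have key : ∀ j : Fin 2, v 0 * (if (0 : Fin 2) = j then 1 else 0) + v 1 * (if (1 : Fin 2) = j then 1 else 0) = 0 :=
        fun j => by
          rw [← hUw, ← hUw, ← hs.smul_left, ← hs.smul_left, ← hs.add_left, h0]
          simp [Cfsg.hermForm]
      have e0 : v 0 = 0 := by simpa using key 0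
      have e1 : v 1 = 0 := by simpa using key 1
      exact ⟨e0, e1⟩
    · rintro ⟨h2, h3⟩
      rw [h2, h3, zero_smul, zero_smul, add_zero, zero_add]
      exact add_mem (Submodule.smul_mem _ _ (hwD 0)) (Submodule.smul_mem _ _ (hwD 1))

/-- The semilinear involution of the pair, on coordinates. -/
def pairM (F : Type*) [Field F] : Mat 4 F := !![0, 0, 0, -1; 0, 0, 1, 0; 0, 1, 0, 0; -1, 0, 0, 0]

/-- Over a field with four or nine elements the stabiliser of a pair of totally isotropic planes lies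
in a subfield group of symplectic type. -/
theorem pair_symp (hF : Fintype.card F = q ^ 2) (hq : q = 2 ∨ q = 3) {H : Subgroup (GL (Fin 4) F)}
    (hH : IsMaximalIn (suG 4 F q) H) {D : Fin 2 → Submodule F (Fin 4 → F)} (hD : IsMDecomposition 2 D)
    (hts : ∀ i, IsTotallySingularFor (Cfsg.hermForm 4 F q) (D i)) (hle : H ≤ decompositionStabilizer D) :
    ∃ (F₀ : Subfield F) (P : GL (Fin 4) F) (ζ : F), Fintype.card F = Nat.card F₀ ^ 2 ∧ ζ ≠ 0 ∧
      ζ + ζ ^ q = 0 ∧ IsFormRationalStructure (Cfsg.hermForm 4 F q) F₀ ζ P ∧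
      (∀ u : Fin 4 → F, (∀ i, u i ∈ F₀) →
        Cfsg.hermForm 4 F q ((P : Mat 4 F) *ᵥ u) ((P : Mat 4 F) *ᵥ u) = 0) ∧
      H = subfieldSubgroup F₀ P ⊓ suG 4 F q := by
  classical
  obtain ⟨σ, hσ, hc⟩ := exists_frob hF
  obtain ⟨P₀, hval, hD0, hD1⟩ := exists_pair_basis hσ hc hD hts
  obtain ⟨ζ, hζ⟩ : ∃ ζ, σ ζ ≠ ζ := by
    by_contra h
    push Not at h
    exact hc.ne_id (RingHom.ext h)
  let B : Mat 4 F := !![1, 0, ζ, 0; 0, 1, 0, ζ; 0, 1, 0, σ ζ; -1, 0, -σ ζ, 0]
  have hBinj : Function.Injective fun v => B *ᵥ v := by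
    intro v v' h
    have h0 := congrFun h 0
    have h1 := congrFun h 1
    have h2 := congrFun h 2
    have h3 := congrFun h 3
    simp [B, Matrix.mulVec, dotProduct, Fin.sum_univ_four] at h0 h1 h2 h3
    have hz : ζ - σ ζ ≠ 0 := sub_ne_zero.mpr (Ne.symm hζ)
    have a2 : v 2 = v' 2 := mul_left_cancel₀ hz (by linear_combination h0 + h3)
    have a3 : v 3 = v' 3 := mul_left_cancel₀ hz (by linear_combination h1 - h2)
    funext i
    fin_cases i
    · show v 0 = v' 0
      rw [a2] at h0; linear_combination h0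
    · show v 1 = v' 1
      rw [a3] at h1; linear_combination h1
    · exact a2
    · exact a3
  obtain ⟨b, hb⟩ : IsUnit B := Matrix.mulVec_injective_iff_isUnit.mp hBinj
  have hBfix : pairM F * B.map σ = B := by
    ext i j
    fin_cases i <;> fin_cases j <;> simp [pairM, B, Matrix.mul_apply, Fin.sum_univ_four, hc.invol]
  set P := P₀ * b with hP
  set M : Mat 4 F := (P₀ : Mat 4 F) * pairM F * ((P₀⁻¹ : GL (Fin 4) F) : Mat 4 F).map σ with hM
  have hinvmap : ((P₀⁻¹ : GL (Fin 4) F) : Mat 4 F).map σ * (P₀ : Mat 4 F).map σ = 1 := by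
    rw [← Matrix.map_mul, Units.inv_mul, Matrix.map_one σ (map_zero σ) (map_one σ)]
  have hfixP : M * (P : Mat 4 F).map σ = P := by
    rw [hP, Units.val_mul, hb, Matrix.map_mul, hM, Matrix.mul_assoc _ _ ((P₀ : Mat 4 F).map σ * B.map σ),
      ← Matrix.mul_assoc (((P₀⁻¹ : GL (Fin 4) F) : Mat 4 F).map σ), hinvmap, Matrix.one_mul,
      Matrix.mul_assoc, hBfix]
  have hpull : ∀ v, M *ᵥ (σ ∘ v) = v →
      ∃ z : Fin 4 → F, (P₀ : Mat 4 F) *ᵥ z = v ∧ z 0 = -σ (z 3) ∧ z 1 = σ (z 2) := by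
    intro v hv
    set z := ((P₀⁻¹ : GL (Fin 4) F) : Mat 4 F) *ᵥ v with hz
    refine ⟨z, by rw [hz, Matrix.mulVec_mulVec, Units.mul_inv, Matrix.one_mulVec], ?_⟩
    have e : pairM F *ᵥ (σ ∘ z) = z := by
      conv_rhs => rw [hz, ← hv, hM, ← Matrix.mulVec_mulVec, ← Matrix.mulVec_mulVec,
        Matrix.mulVec_mulVec _ ((P₀⁻¹ : GL (Fin 4) F) : Mat 4 F) (P₀ : Mat 4 F), Units.inv_mul, Matrix.one_mulVec]
      rw [hz]
      congr 1
      funext i
      exact RingHom.map_mulVec σ _ _ i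
    have e0 := congrFun e 0
    have e1 := congrFun e 1
    simp [pairM, Matrix.mulVec, dotProduct, Fin.sum_univ_four] at e0 e1
    exact ⟨e0.symm, e1.symm⟩
  refine symp_of_semilinear hF hσ hc le_rfl hH hfixP (fun h hh => ?_) (fun v w hv hw => ?_) (fun v hv => ?_)
  · obtain ⟨hhU, hdet⟩ := mem_suG.mp (hH.1.le hh)
    set k : GL (Fin 4) F := P₀⁻¹ * h * P₀ with hk
    have hkdet : (k : Mat 4 F).det = 1 := by
      rw [hk, Units.val_mul, Units.val_mul, Matrix.coe_units_inv, Matrix.det_conj' P₀.isUnit, hdet]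
    have hkv : ∀ v, (P₀ : Mat 4 F) *ᵥ ((k : Mat 4 F) *ᵥ v) = (h : Mat 4 F) *ᵥ ((P₀ : Mat 4 F) *ᵥ v) := fun v => by
      rw [hk, Units.val_mul, Units.val_mul, Matrix.mulVec_mulVec, Matrix.mulVec_mulVec, ← mul_assoc,
        ← mul_assoc, Units.mul_inv, one_mul]
    have hgram : ∀ i j, (k : Mat 4 F) 0 i * σ ((k : Mat 4 F) 2 j) + (k : Mat 4 F) 1 i * σ ((k : Mat 4 F) 3 j) +
        (k : Mat 4 F) 2 i * σ ((k : Mat 4 F) 0 j) + (k : Mat 4 F) 3 i * σ ((k : Mat 4 F) 1 j) =
        (Pi.single i 1 : Fin 4 → F) 0 * σ ((Pi.single j 1 : Fin 4 → F) 2) +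
        (Pi.single i 1 : Fin 4 → F) 1 * σ ((Pi.single j 1 : Fin 4 → F) 3) +
        (Pi.single i 1 : Fin 4 → F) 2 * σ ((Pi.single j 1 : Fin 4 → F) 0) +
        (Pi.single i 1 : Fin 4 → F) 3 * σ ((Pi.single j 1 : Fin 4 → F) 1) := by
      intro i j
      rw [← hval (Pi.single i 1) (Pi.single j 1), show ∀ a b, Cfsg.hermForm 4 F q a b =
        Cfsg.hermForm 4 F q ((h : Mat 4 F) *ᵥ a) ((h : Mat 4 F) *ᵥ b) from fun a b => (hhU a b).symm,
        ← hkv, ← hkv, hval, Matrix.mulVec_single_one, Matrix.mulVec_single_one]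
      rfl
    obtain ⟨π, hπ⟩ := hle hh
    have hblock : ∀ i v, (P₀ : Mat 4 F) *ᵥ v ∈ D i → (P₀ : Mat 4 F) *ᵥ ((k : Mat 4 F) *ᵥ v) ∈ D (π i) :=
      fun i v hv => by rw [hkv, ← hπ i]; exact ⟨_, hv, Matrix.toLin'_apply _ _⟩
    suffices hex : ∃ d : F, d * d = 1 ∧ σ d = d ∧
        pairM F * (k : Mat 4 F).map σ = d • ((k : Mat 4 F) * pairM F) by
      obtain ⟨d, hd, hσd, hkM⟩ := hex
      obtain ⟨c, hc0, hce⟩ := hc.exists_div_eq (x := d) (by rw [hσd, hd])
      refine ⟨c, hc0, ?_⟩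
      have hh' : (h : Mat 4 F) = (P₀ : Mat 4 F) * (k : Mat 4 F) * ((P₀⁻¹ : GL (Fin 4) F) : Mat 4 F) := by
        rw [← Units.val_mul, ← Units.val_mul, hk]; congr 1; group
      rw [Matrix.map_smul' σ c _ (map_mul σ), hh', hM, Matrix.map_mul, Matrix.map_mul, Matrix.smul_mul,
        Matrix.mul_smul]
      simp only [Matrix.mul_assoc]
      rw [← Matrix.mul_assoc (((P₀⁻¹ : GL (Fin 4) F) : Mat 4 F).map σ), hinvmap, Matrix.one_mul,
        ← Matrix.mul_assoc (pairM F), hkM, ← Matrix.mul_assoc ((P₀⁻¹ : GL (Fin 4) F) : Mat 4 F) (P₀ : Mat 4 F),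
        Units.inv_mul, Matrix.one_mul]
      simp only [Matrix.smul_mul, Matrix.mul_smul, smul_smul, Matrix.mul_assoc]
      congr 1
      conv_rhs => rw [hce]
      ring
    have h2 : ∀ x : Fin 2, x = 0 ∨ x = 1 := by decide
    by_cases hπ0 : π 0 = 0
    · have hπ1 : π 1 = 1 := (h2 _).resolve_left fun h1 => absurd (π.injective (h1.trans hπ0.symm)) (by decide)
      have c0 := (hD0 _).mp (hπ0 ▸ hblock 0 (Pi.single 0 1) ((hD0 _).mpr (by simp)))
      have c1 := (hD0 _).mp (hπ0 ▸ hblock 0 (Pi.single 1 1) ((hD0 _).mpr (by simp)))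
      have c2 := (hD1 _).mp (hπ1 ▸ hblock 1 (Pi.single 2 1) ((hD1 _).mpr (by simp)))
      have c3 := (hD1 _).mp (hπ1 ▸ hblock 1 (Pi.single 3 1) ((hD1 _).mpr (by simp)))
      simp only [Matrix.mulVec_single_one, Matrix.col_apply] at c0 c1 c2 c3
      have g02 := hgram 0 2; have g03 := hgram 0 3; have g12 := hgram 1 2; have g13 := hgram 1 3
      simp [c0.1, c0.2, c1.1, c1.2, c2.1, c2.2, c3.1, c3.2] at g02 g03 g12 g13
      set A00 := (k : Mat 4 F) 0 0 with e00
      set A01 := (k : Mat 4 F) 0 1 with e01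
      set A10 := (k : Mat 4 F) 1 0 with e10
      set A11 := (k : Mat 4 F) 1 1 with e11
      set d := A00 * A11 - A01 * A10 with hd
      have hdd : d * ((k : Mat 4 F) 2 2 * (k : Mat 4 F) 3 3 - (k : Mat 4 F) 2 3 * (k : Mat 4 F) 3 2) = 1 := by
        rw [← hkdet, Matrix.det_succ_row_zero]
        simp [Fin.sum_univ_four, Matrix.det_fin_three, Fin.succAbove, c0.1, c0.2, c1.1, c1.2, c2.1, c2.2,
          c3.1, c3.2, hd, e00, e01, e10, e11]
        ring
      have hdC : d * σ ((k : Mat 4 F) 2 2 * (k : Mat 4 F) 3 3 - (k : Mat 4 F) 2 3 * (k : Mat 4 F) 3 2) = 1 := by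
        rw [map_sub, map_mul, map_mul, hd]
        linear_combination (A01 * σ ((k : Mat 4 F) 2 3) + A11 * σ ((k : Mat 4 F) 3 3)) * g02 + g13 -
          (A01 * σ ((k : Mat 4 F) 2 2) + A11 * σ ((k : Mat 4 F) 3 2)) * g03
      have hd0 : d ≠ 0 := left_ne_zero_of_mul_eq_one hdd
      have hσd : σ d = d := by
        have h1 := congrArg σ hdC
        rw [map_mul, hc.invol, map_one] at h1
        exact mul_right_cancel₀ (right_ne_zero_of_mul_eq_one hdd) (h1.trans hdd.symm)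
      have hd2 := small_sq hσ hq hσd hd0
      have s22 : σ ((k : Mat 4 F) 2 2) = d * A11 := by
        linear_combination d * (A11 * g02 - A10 * g12) - σ ((k : Mat 4 F) 2 2) * hd2
      have s32 : σ ((k : Mat 4 F) 3 2) = -(d * A01) := by
        linear_combination d * (A00 * g12 - A01 * g02) - σ ((k : Mat 4 F) 3 2) * hd2
      have s23 : σ ((k : Mat 4 F) 2 3) = -(d * A10) := by
        linear_combination d * (A11 * g03 - A10 * g13) - σ ((k : Mat 4 F) 2 3) * hd2
      have s33 : σ ((k : Mat 4 F) 3 3) = d * A00 := by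
        linear_combination d * (A00 * g13 - A01 * g03) - σ ((k : Mat 4 F) 3 3) * hd2
      have t : ∀ z w, σ z = w → z = σ w := fun z w hzw => by rw [← hzw, hc.invol]
      have t22 := t _ _ s22; have t32 := t _ _ s32; have t23 := t _ _ s23; have t33 := t _ _ s33
      rw [map_mul, hσd] at t22 t33
      rw [map_neg, map_mul, hσd] at t32 t23
      refine ⟨d, hd2, hσd, ?_⟩
      ext i j
      fin_cases i <;> fin_cases j <;>
        simp [pairM, Matrix.mul_apply, Fin.sum_univ_four, c0.1, c0.2, c1.1, c1.2, c2.1, c2.2, c3.1, c3.2,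
          s22, s32, s23, s33] <;>
        simp [t22, t32, t23, t33, ← mul_assoc, hd2, hc.invol, map_mul, hσd, e00, e01, e10, e11]
    · have hπ0' : π 0 = 1 := (h2 _).resolve_left hπ0
      have hπ1 : π 1 = 0 := (h2 _).resolve_right fun h1 => absurd (π.injective (h1.trans hπ0'.symm)) (by decide)
      have c0 := (hD1 _).mp (hπ0' ▸ hblock 0 (Pi.single 0 1) ((hD0 _).mpr (by simp)))
      have c1 := (hD1 _).mp (hπ0' ▸ hblock 0 (Pi.single 1 1) ((hD0 _).mpr (by simp)))
      have c2 := (hD0 _).mp (hπ1 ▸ hblock 1 (Pi.single 2 1) ((hD1 _).mpr (by simp)))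
      have c3 := (hD0 _).mp (hπ1 ▸ hblock 1 (Pi.single 3 1) ((hD1 _).mpr (by simp)))
      simp only [Matrix.mulVec_single_one, Matrix.col_apply] at c0 c1 c2 c3
      have g20 := hgram 2 0; have g21 := hgram 2 1; have g30 := hgram 3 0; have g31 := hgram 3 1
      simp [c0.1, c0.2, c1.1, c1.2, c2.1, c2.2, c3.1, c3.2] at g20 g21 g30 g31
      set A00 := (k : Mat 4 F) 0 2 with e00
      set A01 := (k : Mat 4 F) 0 3 with e01
      set A10 := (k : Mat 4 F) 1 2 with e10
      set A11 := (k : Mat 4 F) 1 3 with e11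
      set d := A00 * A11 - A01 * A10 with hd
      have hdd : d * ((k : Mat 4 F) 2 0 * (k : Mat 4 F) 3 1 - (k : Mat 4 F) 2 1 * (k : Mat 4 F) 3 0) = 1 := by
        rw [← hkdet, Matrix.det_succ_row_zero]
        simp [Fin.sum_univ_four, Matrix.det_fin_three, Fin.succAbove, c0.1, c0.2, c1.1, c1.2, c2.1, c2.2,
          c3.1, c3.2, hd, e00, e01, e10, e11]
        ring
      have hdC : d * σ ((k : Mat 4 F) 2 0 * (k : Mat 4 F) 3 1 - (k : Mat 4 F) 2 1 * (k : Mat 4 F) 3 0) = 1 := by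
        rw [map_sub, map_mul, map_mul, hd]
        linear_combination (A01 * σ ((k : Mat 4 F) 2 1) + A11 * σ ((k : Mat 4 F) 3 1)) * g20 + g31 -
          (A01 * σ ((k : Mat 4 F) 2 0) + A11 * σ ((k : Mat 4 F) 3 0)) * g21
      have hd0 : d ≠ 0 := left_ne_zero_of_mul_eq_one hdd
      have hσd : σ d = d := by
        have h1 := congrArg σ hdC
        rw [map_mul, hc.invol, map_one] at h1
        exact mul_right_cancel₀ (right_ne_zero_of_mul_eq_one hdd) (h1.trans hdd.symm)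
      have hd2 := small_sq hσ hq hσd hd0
      have s22 : σ ((k : Mat 4 F) 2 0) = d * A11 := by
        linear_combination d * (A11 * g20 - A10 * g30) - σ ((k : Mat 4 F) 2 0) * hd2
      have s32 : σ ((k : Mat 4 F) 3 0) = -(d * A01) := by
        linear_combination d * (A00 * g30 - A01 * g20) - σ ((k : Mat 4 F) 3 0) * hd2
      have s23 : σ ((k : Mat 4 F) 2 1) = -(d * A10) := by
        linear_combination d * (A11 * g21 - A10 * g31) - σ ((k : Mat 4 F) 2 1) * hd2
      have s33 : σ ((k : Mat 4 F) 3 1) = d * A00 := by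
        linear_combination d * (A00 * g31 - A01 * g21) - σ ((k : Mat 4 F) 3 1) * hd2
      have t : ∀ z w, σ z = w → z = σ w := fun z w hzw => by rw [← hzw, hc.invol]
      have t22 := t _ _ s22; have t32 := t _ _ s32; have t23 := t _ _ s23; have t33 := t _ _ s33
      rw [map_mul, hσd] at t22 t33
      rw [map_neg, map_mul, hσd] at t32 t23
      refine ⟨-d, by linear_combination hd2, by rw [map_neg, hσd], ?_⟩
      ext i j
      fin_cases i <;> fin_cases j <;>
        simp [pairM, Matrix.mul_apply, Fin.sum_univ_four, c0.1, c0.2, c1.1, c1.2, c2.1, c2.2, c3.1, c3.2,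
          s22, s32, s23, s33] <;>
        simp [t22, t32, t23, t33, ← mul_assoc, hd2, hc.invol, map_mul, hσd, e00, e01, e10, e11]
  · obtain ⟨a, rfl, a0, a1⟩ := hpull v hv
    obtain ⟨b', rfl, b0, b1⟩ := hpull w hw
    rw [hval, a0, a1, b0, b1]
    simp [hc.invol]
    ring
  · obtain ⟨a, rfl, a0, a1⟩ := hpull v hv
    rw [hval, a0, a1]
    simp [hc.invol]
    ring

end CfsgLib.Classical.AschForm
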