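import Cfsg.Agent.Lib.Classical.AschForm.UnitaryRows
import Cfsg.Agent.Lib.Classical.AschGen.Extraspecial

/-!
# Over nine elements the monomial group in dimension four normalises a group of symplectic type
-/

set_option autoImplicit false
set_option linter.unusedSectionVars false

namespace CfsgLib.Classical.AschForm

open Matrix Cfsg Cfsg.Geo CfsgLib.Classical.AschPrime CfsgLib.Classical.AschGen
open scoped MatrixGroups

variable {F : Type*} [Field F]

/-- The four points of the plane over two elements. -/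
abbrev V4 := Fin 2 × Fin 2

/-- Coordinates as points. -/
def v4 : Fin 4 ≃ V4 := (finProdFinEquiv (m := 2) (n := 2)).symm

/-- The sign character with label `s`. -/
def sgn4 (s j : V4) : ℤ := if s.1 * j.1 + s.2 * j.2 = 0 then 1 else -1

theorem sgn4_add : ∀ s t j, sgn4 (s + t) j = sgn4 s j * sgn4 t j := by decide

theorem sgn4_comm : ∀ s t, sgn4 s t = sgn4 t s := by decide

theorem sgn4_zero : ∀ j, sgn4 0 j = 1 := by decide

theorem sgn4_sq : ∀ s j, sgn4 s j * sgn4 s j = 1 := by decide

theorem v4_affine : ∀ (π : Equiv.Perm V4) (a : V4), ∃ a', ∀ j, π (j + a) = π j + a' := by decide +kernel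

theorem v4_char : ∀ (π : Equiv.Perm V4) (s : V4), ∃ (s' : V4) (ε : Fin 2), ∀ j,
    sgn4 s j = (if ε = 0 then 1 else -1) * sgn4 s' (π j) := by decide +kernel

theorem v4_signs : ∀ a b : V4, a ≠ 0 → b ≠ 0 → b ≠ a → ∀ ε δ : Fin 2,
    ∃ t, sgn4 t a = (if ε = 0 then 1 else -1) ∧ sgn4 t b = (if δ = 0 then 1 else -1) := by decide

theorem v4_cover : ∀ a b : V4, a ≠ 0 → b ≠ 0 → b ≠ a → ∀ j, j = 0 ∨ j = a ∨ j = b ∨ j = a + b := by decide

theorem v4_third : ∀ a : V4, a ≠ 0 → ∃ b, b ≠ 0 ∧ b ≠ a := by decide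

theorem v4_sum : ∀ (a : V4) (j : V4), j + a + a = j := by decide

/-- The character as elements of the field. -/
def chi4 (s j : V4) : F := (sgn4 s j : F)

theorem chi4_add (s t j : V4) : (chi4 (s + t) j : F) = chi4 s j * chi4 t j := by
  simp [chi4, sgn4_add]

theorem chi4_comm (s t : V4) : (chi4 s t : F) = chi4 t s := by simp [chi4, sgn4_comm s t]

theorem chi4_add_right (s i j : V4) : (chi4 s (i + j) : F) = chi4 s i * chi4 s j := by
  rw [chi4_comm, chi4_add, chi4_comm i, chi4_comm j]

theorem chi4_zero (j : V4) : (chi4 0 j : F) = 1 := by simp [chi4, sgn4_zero]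

theorem chi4_sq (s j : V4) : (chi4 s j : F) * chi4 s j = 1 := by
  rw [chi4, ← Int.cast_mul, sgn4_sq, Int.cast_one]

theorem chi4_pm (s j : V4) : (chi4 s j : F) = 1 ∨ (chi4 s j : F) = -1 := by
  rw [chi4, sgn4]; split <;> simp

/-- The monomial matrix sending `j` to `j + a` with coefficient `c χ_s(j)`. -/
def pm (c : F) (s a : V4) : Mat 4 F :=
  Matrix.of fun i j => if v4 i = v4 j + a then c * chi4 s (v4 j) else 0

theorem pm_apply (c : F) (s a : V4) (i j : Fin 4) :
    pm c s a i j = if v4 i = v4 j + a then c * chi4 s (v4 j) else 0 := rfl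

theorem pm_mulVec (c : F) (s a : V4) (j : V4) :
    pm c s a *ᵥ Pi.single (v4.symm j) 1 = (c * chi4 s j) • Pi.single (v4.symm (j + a)) 1 := by
  funext i
  rw [Matrix.mulVec_single_one, Matrix.col_apply, pm_apply, v4.apply_symm_apply, Pi.smul_apply,
    Pi.single_apply, smul_eq_mul]
  by_cases h : v4 i = j + a
  · rw [if_pos h, if_pos (v4.eq_symm_apply.mpr h), mul_one]
  · rw [if_neg h, if_neg fun e => h (v4.eq_symm_apply.mp e), mul_zero]

theorem pm_mul (c d : F) (s t a b : V4) :
    pm c s a * pm d t b = pm (c * d * chi4 s b) (s + t) (b + a) := by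
  refine Matrix.ext_of_mulVec_single fun i => ?_
  obtain ⟨j, rfl⟩ := v4.symm.surjective i
  rw [← Matrix.mulVec_mulVec, pm_mulVec, Matrix.mulVec_smul, pm_mulVec, pm_mulVec, smul_smul,
    ← add_assoc, chi4_add, chi4_add_right]
  congr 1
  ring

theorem pm_one : (pm 1 0 0 : Mat 4 F) = 1 := by
  ext i j
  rw [pm_apply, Matrix.one_apply]
  simp [chi4_zero]

theorem pm_scalar (c : F) : pm c 0 0 = c • (1 : Mat 4 F) := by
  ext i j
  rw [pm_apply, Matrix.smul_apply, Matrix.one_apply]
  simp [chi4_zero]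

theorem pm_square (c : F) (s a : V4) : pm c s a * pm c s a = pm (c * c * chi4 s a) 0 0 := by
  rw [pm_mul, show s + s = 0 from ?_, show a + a = 0 from ?_]
  · have : ∀ x : V4, x + x = 0 := by decide
    exact this a
  · have : ∀ x : V4, x + x = 0 := by decide
    exact this s

theorem pm_fourth {c : F} (hc : c ^ 4 = 1) (s a : V4) :
    pm c s a * pm c s a * (pm c s a * pm c s a) = 1 := by
  rw [pm_square, pm_mul, chi4_zero, mul_one, add_zero, ← pm_one]
  congr 1
  calc c * c * chi4 s a * (c * c * chi4 s a) = c ^ 4 * (chi4 s a * chi4 s a) := by ring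
    _ = 1 := by rw [hc, chi4_sq, mul_one]

theorem chi4_fourth (s j : V4) : (chi4 s j : F) ^ 4 = 1 := by
  rw [show 4 = 2 * 2 from rfl, pow_mul, pow_two (chi4 s j : F), chi4_sq, one_pow]

/-- The group of all these matrices with fourth roots of unity. -/
def pauli : Subgroup (GL (Fin 4) F) where
  carrier := {g | ∃ c s a, c ^ 4 = 1 ∧ (g : Mat 4 F) = pm c s a}
  one_mem' := ⟨1, 0, 0, one_pow 4, by rw [Units.val_one, pm_one]⟩
  mul_mem' := by
    rintro g h ⟨c, s, a, hc, hg⟩ ⟨d, t, b, hd, hh⟩
    exact ⟨c * d * chi4 s b, s + t, b + a, by rw [mul_pow, mul_pow, hc, hd, chi4_fourth, mul_one, mul_one],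
      by rw [Units.val_mul, hg, hh, pm_mul]⟩
  inv_mem' := by
    rintro g ⟨c, s, a, hc, hg⟩
    obtain ⟨d, t, b, hd, h3⟩ : ∃ d t b, d ^ 4 = 1 ∧ pm c s a * pm c s a * pm c s a = pm (d : F) t b :=
      ⟨c * c * chi4 s a * c, 0 + s, a + 0, by rw [mul_pow, mul_pow, mul_pow, hc, chi4_fourth]; ring, by
        rw [pm_square, pm_mul, chi4_zero, mul_one]⟩
    refine ⟨d, t, b, hd, ?_⟩
    rw [← h3]
    exact Units.inv_eq_of_mul_eq_one_right (by rw [hg, ← pm_fourth hc s a]; simp only [mul_assoc])

/-- The element of a given shape. -/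
def pmGL (s a : V4) : GL (Fin 4) F where
  val := pm 1 s a
  inv := pm (chi4 s a) s a
  val_inv := by
    rw [pm_mul, one_mul, chi4_sq, ← pm_one]
    congr 1
    all_goals first
      | exact (show ∀ x : V4, x + x = 0 by decide) _
      | rfl
  inv_val := by
    rw [pm_mul, mul_one, chi4_sq, ← pm_one]
    congr 1
    all_goals first
      | exact (show ∀ x : V4, x + x = 0 by decide) _
      | rfl

theorem pmGL_mem (s a : V4) : pmGL (F := F) s a ∈ pauli := ⟨1, s, a, one_pow 4, rfl⟩

/-- Monomial matrices with fourth roots of unity normalise the group. -/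
theorem monomial_normalises {h : GL (Fin 4) F} {π : Equiv.Perm V4} {α : V4 → F}
    (hh : ∀ j, (h : Mat 4 F) *ᵥ Pi.single (v4.symm j) 1 = α j • Pi.single (v4.symm (π j)) 1)
    (h4 : ∀ j, α j ^ 4 = 1) (hprod : (∏ j, α j) ^ 2 = 1) :
    ∀ x ∈ pauli (F := F), h * x * h⁻¹ ∈ pauli := by
  classical
  have hα0 : ∀ j, α j ≠ 0 := fun j e => by simpa [e] using h4 j
  suffices key : ∀ c s a, c ^ 4 = 1 → ∃ c' s' a', c' ^ 4 = 1 ∧
      (h : Mat 4 F) * pm c s a = pm c' s' a' * (h : Mat 4 F) by
    rintro x ⟨c, s, a, hc, hx⟩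
    obtain ⟨c', s', a', hc', he⟩ := key c s a hc
    refine ⟨c', s', a', hc', ?_⟩
    rw [Units.val_mul, Units.val_mul, hx, he, Units.mul_inv_cancel_right]
  -- diagonal elements
  have hdiag : ∀ s, ∃ c' s', c' ^ 4 = 1 ∧ (h : Mat 4 F) * pm 1 s 0 = pm c' s' 0 * (h : Mat 4 F) := by
    intro s
    obtain ⟨s', ε, hs'⟩ := v4_char π s
    refine ⟨if ε = 0 then 1 else -1, s', by split <;> ring, ?_⟩
    refine Matrix.ext_of_mulVec_single fun i => ?_
    obtain ⟨j, rfl⟩ := v4.symm.surjective i
    have e : (chi4 s j : F) = (if ε = 0 then 1 else -1) * chi4 s' (π j) := by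
      simp only [chi4, hs' j, Int.cast_mul]
      congr 1
      split <;> simp
    simp only [← Matrix.mulVec_mulVec, pm_mulVec, Matrix.mulVec_smul, hh, add_zero, smul_smul, one_mul]
    rw [e]
    congr 1
    ring
  -- translations
  have htr : ∀ a, ∃ c' s' a', c' ^ 4 = 1 ∧ (h : Mat 4 F) * pm 1 0 a = pm c' s' a' * (h : Mat 4 F) := by
    intro a
    by_cases ha : a = 0
    · subst ha
      exact ⟨1, 0, 0, one_pow 4, by rw [pm_one, mul_one, one_mul]⟩
    obtain ⟨b, hb, hba⟩ := v4_third a ha
    obtain ⟨a', ha'⟩ := v4_affine π a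
    set r : V4 → F := fun j => α (j + a) / α j with hr
    have hr4 : ∀ j, r j ^ 4 = 1 := fun j => by simp [hr, div_pow, h4]
    have hr0 : r 0 ≠ 0 := fun e => by simpa [e] using hr4 0
    have hsign : ∀ x : F, x * x = 1 → ∃ ε : Fin 2, x = ((if ε = 0 then 1 else -1 : ℤ) : F) := fun x hx => by
      rcases mul_self_eq_one_iff.mp hx with h | h
      · exact ⟨0, by simp [h]⟩
      · exact ⟨1, by simp [h]⟩
    have haa : a + a = 0 := by simpa using v4_sum a 0
    have hra : r a = (r 0)⁻¹ := by simp [hr, haa, inv_div]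
    have hrab : r (a + b) = (r b)⁻¹ := by
      simp only [hr, inv_div]
      rw [show a + b + a = b by rw [add_comm a b]; exact v4_sum a b, add_comm a b]
    have hsq : r b * r b = r 0 * r 0 := by
      have hu : (Finset.univ : Finset V4) = {0, a, b, a + b} :=
        (Finset.eq_univ_iff_forall.mpr fun j => by
          rcases v4_cover a b ha hb hba j with e | e | e | e <;> simp [e]).symm
      have hne : ∀ a b : V4, a ≠ 0 → b ≠ 0 → b ≠ a → a + b ≠ 0 ∧ a + b ≠ a ∧ a + b ≠ b := by decide
      obtain ⟨n1, n2, n3⟩ := hne a b ha hb hba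
      have hp := hprod
      rw [hu, Finset.prod_insert (by simp [Ne.symm ha, Ne.symm hb, Ne.symm n1]),
        Finset.prod_insert (by simp [Ne.symm hba, Ne.symm n2]), Finset.prod_insert (by simp [Ne.symm n3]),
        Finset.prod_singleton] at hp
      have e0 := h4 0
      have eb := h4 b
      simp only [hr, zero_add]
      rw [show b + a = a + b from add_comm b a]
      have := hα0 0
      have := hα0 b
      have key : α (a + b) * α (a + b) * (α 0 * α 0) = α a * α a * (α b * α b) := by
        have hA := h4 a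
        have hB := h4 b
        have h1 : (α a * α a * (α b * α b)) * (α a * α a * (α b * α b)) = 1 := by
          linear_combination (α b ^ 4) * hA + hB
        have h2 : (α (a + b) * α (a + b) * (α 0 * α 0)) * (α a * α a * (α b * α b)) = 1 := by
          linear_combination hp
        calc α (a + b) * α (a + b) * (α 0 * α 0)
            = (α (a + b) * α (a + b) * (α 0 * α 0)) * ((α a * α a * (α b * α b)) * (α a * α a * (α b * α b))) := by
              rw [h1, mul_one]
          _ = α a * α a * (α b * α b) := by rw [← mul_assoc, h2, one_mul]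
      field_simp
      linear_combination key
    obtain ⟨ε, hε⟩ := hsign (r a / r 0) (by
      rw [hra]; field_simp; linear_combination -(hr4 0))
    obtain ⟨δ, hδ⟩ := hsign (r b / r 0) (by field_simp; linear_combination hsq)
    obtain ⟨t, hta, htb⟩ := v4_signs a b ha hb hba ε δ
    have hform : ∀ j, r j = r 0 * chi4 t j := by
      intro j
      rcases v4_cover a b ha hb hba j with e | e | e | e <;> rw [e]
      · rw [chi4_comm, chi4_zero, mul_one]
      · simp only [chi4, hta, ← hε]; field_simp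
      · simp only [chi4, htb, ← hδ]; field_simp
      · rw [chi4_add_right, hrab]
        simp only [chi4, hta, htb, ← hε, ← hδ, hra]
        have : r b ≠ 0 := fun e => by simpa [e] using hr4 b
        field_simp
        linear_combination -hsq
    obtain ⟨t', η, ht'⟩ := v4_char π t
    refine ⟨r 0 * (if η = 0 then 1 else -1), t', a', by rw [mul_pow, hr4]; split <;> ring, ?_⟩
    refine Matrix.ext_of_mulVec_single fun i => ?_
    obtain ⟨j, rfl⟩ := v4.symm.surjective i
    have e : (chi4 t j : F) = (if η = 0 then 1 else -1) * chi4 t' (π j) := by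
      simp only [chi4, ht' j, Int.cast_mul]
      congr 1
      split <;> simp
    simp only [← Matrix.mulVec_mulVec, pm_mulVec, Matrix.mulVec_smul, hh, smul_smul, chi4_zero, mul_one,
      one_mul, ha']
    congr 1
    have hj := hform j
    rw [e] at hj
    simp only [hr] at hj ⊢
    rw [eq_comm]
    calc α j * (α (0 + a) / α 0 * (if η = 0 then 1 else -1) * chi4 t' (π j))
        = α j * (α (j + a) / α j) := by rw [hj]; ring
      _ = α (j + a) := mul_div_cancel₀ _ (hα0 j)
  intro c s a hc
  obtain ⟨c₁, s₁, hc₁, e₁⟩ := hdiag s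
  obtain ⟨c₂, s₂, a₂, hc₂, e₂⟩ := htr a
  refine ⟨c * (c₂ * c₁ * chi4 s₂ 0), s₂ + s₁, 0 + a₂, by
    rw [mul_pow, mul_pow, mul_pow, hc, hc₁, hc₂, chi4_fourth]; ring, ?_⟩
  have hfac : pm c s a = c • (pm 1 0 a * pm 1 s 0) := by
    ext i j
    rw [pm_mul, Matrix.smul_apply, pm_apply, pm_apply, zero_add, zero_add, chi4_zero, smul_eq_mul]
    split <;> ring
  rw [hfac, Matrix.mul_smul, ← mul_assoc, e₂, mul_assoc, e₁, ← mul_assoc, pm_mul, ← Matrix.smul_mul]
  congr 1
  ext i j
  rw [Matrix.smul_apply, pm_apply, pm_apply, smul_eq_mul]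
  split <;> ring

variable [Fintype F]

theorem nine_facts (hF : Fintype.card F = 3 ^ 2) :
    (2 : F) ≠ 0 ∧ (4 : F) = 1 ∧ (∀ x : F, x ≠ 0 → x ^ 8 = 1) ∧ ∃ i : F, i * i = -1 := by
  have h9 : ((9 : ℕ) : F) = 0 := by
    have := Nat.cast_card_eq_zero F
    rwa [hF] at this
  have h3 : (3 : F) = 0 := by
    have : (3 : F) * 3 = 0 := by
      push_cast at h9
      linear_combination h9
    exact mul_self_eq_zero.mp this
  refine ⟨fun h => one_ne_zero (α := F) (by linear_combination h3 - h), by linear_combination h3,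
    fun x hx => by have := FiniteField.pow_card_sub_one_eq_one x hx; rwa [hF] at this, ?_⟩
  obtain ⟨i, hi⟩ := (FiniteField.isSquare_neg_one_iff (F := F)).mpr (by rw [hF]; decide)
  exact ⟨i, hi.symm⟩

/-- The Pauli group over nine elements is of symplectic type. -/
theorem pauli_symType (hF : Fintype.card F = 3 ^ 2) :
    SymType 2 (pauli (F := F)) ∧ IsSymplecticTypeGroup 2 (pauli (F := F)) ∧
      pauli (F := F) ≤ Cfsg.GU 4 F 3 := by
  classical
  obtain ⟨h2, h4, h8, i₀, hi₀⟩ := nine_facts hF
  have hcomm : ∀ (c d : F) (s t a b : V4),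
      (pm c s a * pm d t b : Mat 4 F) = (chi4 s b * chi4 t a : F) • (pm d t b * pm c s a) := by
    intro c d s t a b
    rw [pm_mul, pm_mul]
    ext i j
    rw [Matrix.smul_apply, pm_apply, pm_apply, smul_eq_mul, add_comm b a, add_comm t s]
    split
    · linear_combination (-(c * d * chi4 s b * chi4 (s + t) (v4 j))) * chi4_sq (F := F) t a
    · ring
  have hsym : SymType 2 (pauli (F := F)) := by
    refine ⟨Nat.prime_two, ?_, ?_, ?_, ⟨4, by rw [Nat.card_eq_fintype_card, hF]; norm_num⟩, ?_⟩
    · rintro x ⟨c, s, a, -, hx⟩ y ⟨d, t, b, -, hy⟩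
      refine mem_scalars_of_eq (by norm_num) (c := chi4 s b * chi4 t a) ?_
      rw [Units.val_mul, Units.val_mul, Units.val_mul, hx, hy, hcomm, Matrix.smul_mul, Matrix.smul_mul,
        ← hx, ← hy]
      simp [mul_assoc]
    · rintro x ⟨c, s, a, hc, hx⟩
      refine Units.ext ?_
      rw [show 2 * Nat.gcd 2 2 = 4 from rfl, Units.val_pow_eq_pow_val, hx, Units.val_one,
        ← pm_fourth hc s a]
      simp only [pow_succ, pow_zero, one_mul, mul_assoc]
    · rw [eq_top_iff]
      rintro M -
      have hmem : ∀ s a, (pm 1 s a : Mat 4 F) ∈ algOf (pauli (F := F)) := fun s a =>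
        Algebra.subset_adjoin (mem_matrixSet (pmGL_mem s a))
      have hE : ∀ (k : V4) (a : V4), (Matrix.single (v4.symm (k + a)) (v4.symm k) 1 : Mat 4 F) =
          ∑ s, (chi4 s k : F) • (pm 1 s a : Mat 4 F) := by
        intro k a
        ext i j
        rw [Matrix.sum_apply]
        simp only [Matrix.smul_apply, pm_apply, Matrix.single_apply, smul_eq_mul, one_mul]
        obtain ⟨p, rfl⟩ := v4.symm.surjective i
        obtain ⟨q, rfl⟩ := v4.symm.surjective j
        simp only [v4.apply_symm_apply, v4.symm.injective.eq_iff]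
        by_cases hp : p = q + a
        · have horth : ∀ k q : V4, (∑ s, sgn4 s k * sgn4 s q) = if k = q then 4 else 0 := by decide
          simp only [hp, if_true, chi4, ← Int.cast_mul, ← Int.cast_sum, horth]
          by_cases hkq : k = q
          · subst hkq; simp [h4]
          · rw [if_neg fun h => hkq h.2, if_neg hkq, Int.cast_zero]
        · simp only [hp, if_false, mul_zero, Finset.sum_const_zero]
          rw [if_neg]
          rintro ⟨rfl, rfl⟩
          exact hp rfl
      rw [Matrix.matrix_eq_sum_single M]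
      refine Subalgebra.sum_mem _ fun i _ => Subalgebra.sum_mem _ fun j _ => ?_
      have hd : ∀ x y : V4, y + (x + y) = x := by decide
      rw [show Matrix.single i j (M i j) = M i j • (Matrix.single i j (1 : F)) by simp [Matrix.smul_single],
        show i = v4.symm (v4 j + (v4 i + v4 j)) by rw [hd, v4.symm_apply_apply],
        show (Matrix.single (v4.symm (v4 j + (v4 i + v4 j))) j (1 : F) : Mat 4 F) =
          Matrix.single (v4.symm (v4 j + (v4 i + v4 j))) (v4.symm (v4 j)) (1 : F) by rw [v4.symm_apply_apply], hE]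
      exact Subalgebra.smul_mem _ (Subalgebra.sum_mem _ fun s _ => Subalgebra.smul_mem _ (hmem _ _) _) _
    · intro x hx hpow
      obtain ⟨c, hc⟩ := (mem_scalars_iff _).mp hx
      exact ⟨c, 0, 0, scalar_pow_eq_one (by norm_num) hc hpow, by rw [hc, pm_scalar]⟩
  obtain ⟨σ, hσ, hcj⟩ := exists_frob hF
  have hGU : pauli (F := F) ≤ Cfsg.GU 4 F 3 := by
    rintro x ⟨c, s, a, hc, hx⟩ u v
    change Cfsg.hermForm 4 F 3 ((x : Mat 4 F) *ᵥ u) ((x : Mat 4 F) *ᵥ v) = _
    rw [hx]
    have hv : ∀ (w : Fin 4 → F) (j : V4), (pm c s a *ᵥ w) (v4.symm (j + a)) = c * chi4 s j * w (v4.symm j) := by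
      intro w j
      rw [Matrix.mulVec, dotProduct, Finset.sum_eq_single (v4.symm j) (fun k _ hk => ?_) (by simp)]
      · rw [pm_apply, v4.apply_symm_apply, v4.apply_symm_apply, if_pos rfl]
      · rw [pm_apply, if_neg, zero_mul]
        intro e
        rw [v4.apply_symm_apply] at e
        exact hk (v4.eq_symm_apply.mpr (add_right_cancel e).symm)
    simp only [Cfsg.hermForm]
    rw [← v4.symm.sum_comp, ← Equiv.sum_comp (Equiv.addRight a), ← v4.symm.sum_comp (fun i => u i * v i ^ 3)]
    refine Finset.sum_congr rfl fun j _ => ?_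
    rw [Equiv.coe_addRight, hv, hv, mul_pow, mul_pow]
    linear_combination (u (v4.symm j) * v (v4.symm j) ^ 3 * chi4 s j ^ 4) * hc +
      (u (v4.symm j) * v (v4.symm j) ^ 3) * chi4_fourth (F := F) s j
  refine ⟨hsym, hsym.symplecticType (by norm_num) (H := subgroupNormalizer (pauli (F := F)))
    (fun h hh x hx => (Subgroup.mem_normalizer_iff.mp hh x).mp hx) ?_, hGU⟩
  intro A hA hAn hab x hx
  -- no abelian normal subgroup has a translation part
  have key : ∀ y ∈ A, ∀ (c : F) (s a : V4), c ^ 4 = 1 → (y : Mat 4 F) = pm c s a → a = 0 := by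
    intro y hy c s a hc hye
    by_contra ha
    obtain ⟨t, ht⟩ : ∃ t, sgn4 t a = -1 := by
      have : ∀ a : V4, a ≠ 0 → ∃ t, sgn4 t a = -1 := by decide
      exact this a ha
    let α : V4 → F := fun j => if sgn4 t j = 1 then 1 else i₀
    have hi4 : i₀ ^ 4 = 1 := by linear_combination (i₀ * i₀ - 1) * hi₀
    have hα4 : ∀ j, α j ^ 4 = 1 := fun j => by simp only [α]; split <;> simp [hi4]
    have hα0 : ∀ j, α j ≠ 0 := fun j e => by simpa [e] using hα4 j
    have hprod : (∏ j, α j) ^ 2 = 1 := by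
      have hcount : ∀ t : V4, t ≠ 0 → (Finset.univ.filter fun j => ¬ sgn4 t j = 1).card = 2 := by decide
      have ht0 : t ≠ 0 := fun e => by rw [e, sgn4_zero] at ht; exact absurd ht (by decide)
      rw [Finset.prod_ite, Finset.prod_const_one, Finset.prod_const, one_mul, hcount t ht0, ← pow_mul]
      exact hi4
    let D : GL (Fin 4) F := diagGL fun i => Units.mk0 (α (v4 i)) (hα0 _)
    have hD : ∀ j, (D : Mat 4 F) *ᵥ Pi.single (v4.symm j) 1 = α j • Pi.single (v4.symm j) 1 := by
      intro j
      funext i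
      rw [show (D : Mat 4 F) = Matrix.diagonal fun i => α (v4 i) from rfl, Matrix.mulVec_diagonal,
        Pi.smul_apply, smul_eq_mul, Pi.single_apply]
      split
      · next h => rw [h, v4.apply_symm_apply]
      · rw [mul_zero, mul_zero]
    have hDn : D ∈ subgroupNormalizer (pauli (F := F)) :=
      Subgroup.mem_normalizer_iff.mpr fun z => by
        refine ⟨monomial_normalises (π := 1) hD hα4 hprod z, fun hz => ?_⟩
        have hD' : ∀ j, ((D⁻¹ : GL (Fin 4) F) : Mat 4 F) *ᵥ Pi.single (v4.symm j) 1 =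
            (α j)⁻¹ • Pi.single (v4.symm ((1 : Equiv.Perm V4) j)) 1 := fun j => by
          have h := congrArg (fun w => (α j)⁻¹ • ((D⁻¹ : GL (Fin 4) F) : Mat 4 F) *ᵥ w) (hD j)
          simp only [Matrix.mulVec_mulVec, Units.inv_mul, Matrix.one_mulVec, Matrix.mulVec_smul,
            smul_smul, inv_mul_cancel₀ (hα0 j), one_smul] at h
          exact h.symm
        have h := monomial_normalises (π := 1) hD' (fun j => by rw [inv_pow, hα4, inv_one])
          (by rw [Finset.prod_inv_distrib, inv_pow, hprod, inv_one]) _ hz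
        simpa [mul_assoc] using h
    set y' := D * y * D⁻¹
    have hy'e : (y' : Mat 4 F) = pm (c * i₀) (s + t) a := by
      have e : (D : Mat 4 F) * pm c s a = pm (c * i₀) (s + t) a * (D : Mat 4 F) := by
        refine Matrix.ext_of_mulVec_single fun i => ?_
        obtain ⟨j, rfl⟩ := v4.symm.surjective i
        simp only [← Matrix.mulVec_mulVec, pm_mulVec, Matrix.mulVec_smul, hD, smul_smul]
        congr 1
        have hta : (chi4 t a : F) = -1 := by simp [chi4, ht]
        have hflip : (chi4 t (j + a) : F) = -chi4 t j := by rw [chi4_add_right, hta]; ring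
        rw [chi4_add]
        rcases (show sgn4 t j = 1 ∨ sgn4 t j = -1 by unfold sgn4; split <;> simp) with h1 | h1
        · have h1' : sgn4 t (j + a) = -1 := by
            have : ∀ t j a, sgn4 t (j + a) = sgn4 t j * sgn4 t a := by decide
            rw [this, h1, ht]; rfl
          simp [α, h1, h1', chi4]
          ring
        · have h1' : sgn4 t (j + a) = 1 := by
            have : ∀ t j a, sgn4 t (j + a) = sgn4 t j * sgn4 t a := by decide
            rw [this, h1, ht]; rfl
          simp [α, h1, h1', chi4]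
          linear_combination (c * (sgn4 s j : F)) * hi₀
      rw [Units.val_mul, Units.val_mul, hye, e, Units.mul_inv_cancel_right]
    have hc0 := congrArg (fun g : GL (Fin 4) F => (g : Mat 4 F)) (hab y hy y' (hAn D hDn y hy))
    simp only [Units.val_mul, hye, hy'e] at hc0
    rw [hcomm] at hc0
    have hneg : (chi4 s a * chi4 (s + t) a : F) = -1 := by
      rw [chi4_add, ← mul_assoc, chi4_sq, one_mul]; simp [chi4, ht]
    rw [hneg, neg_smul, one_smul] at hc0
    have h0 : (pm (c * i₀) (s + t) a * pm c s a : Mat 4 F) = 0 := by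
      ext i j
      have := congrFun (congrFun hc0 i) j
      rw [Matrix.neg_apply] at this
      exact (mul_eq_zero.mp (show (2 : F) * _ = 0 by linear_combination -this)).resolve_left h2
    rw [← hye, ← hy'e, ← Units.val_mul] at h0
    exact (y' * y).ne_zero h0
  obtain ⟨c, s, a, hc, hxe⟩ := hA hx
  obtain rfl := key x hx c s a hc hxe
  by_cases hs : s = 0
  · subst hs
    exact mem_scalars_of_eq (by norm_num) (hxe.trans (pm_scalar c))
  -- a Fourier matrix turns characters into translations
  exfalso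
  let W : Mat 4 F := Matrix.of fun i j => (2 : F)⁻¹ * chi4 (v4 i) (v4 j)
  have hWW : W * W = 1 := by
    ext i j
    simp only [W, Matrix.mul_apply, Matrix.of_apply, Matrix.one_apply]
    rw [← v4.symm.sum_comp]
    simp only [v4.apply_symm_apply]
    have horth : ∀ k q : V4, (∑ s, sgn4 k s * sgn4 s q) = if k = q then 4 else 0 := by decide
    have e : ∀ s, (2 : F)⁻¹ * chi4 (v4 i) s * ((2 : F)⁻¹ * chi4 s (v4 j)) =
        ((2 : F)⁻¹ * (2 : F)⁻¹) * ((sgn4 (v4 i) s * sgn4 s (v4 j) : ℤ) : F) := fun s => by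
      simp [chi4]; ring
    simp only [e, ← Finset.mul_sum, ← Int.cast_sum, horth, v4.injective.eq_iff]
    split
    · push_cast; field_simp; ring
    · simp
  let w : GL (Fin 4) F := ⟨W, W, hWW, hWW⟩
  have hswap : ∀ (d : F) (u b : V4), W * pm d u b = pm (d * chi4 u b) b u * W := by
    intro d u b
    ext i j
    obtain ⟨p, rfl⟩ := v4.symm.surjective i
    obtain ⟨q, rfl⟩ := v4.symm.surjective j
    rw [Matrix.mul_apply, Matrix.mul_apply, Finset.sum_eq_single (v4.symm (q + b)) (fun k _ hk => ?_) (by simp),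
      Finset.sum_eq_single (v4.symm (p + u)) (fun k _ hk => ?_) (by simp)]
    · simp only [W, pm_apply, Matrix.of_apply, v4.apply_symm_apply, v4_sum, if_true]
      rw [chi4_add_right, chi4_add, chi4_add_right b, chi4_comm b p]
      linear_combination (-((2 : F)⁻¹ * chi4 p q * chi4 p b * d * chi4 u q)) * chi4_sq (F := F) u b +
        (-((2 : F)⁻¹ * chi4 p q * chi4 p b * d * chi4 u q) * chi4 u b) * chi4_comm (F := F) b u
    · rw [pm_apply, if_neg, zero_mul]
      intro e
      simp only [v4.apply_symm_apply] at e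
      exact hk (v4.eq_symm_apply.mpr (by rw [e, v4_sum]))
    · rw [pm_apply, if_neg, mul_zero]
      intro e
      simp only [v4.apply_symm_apply] at e
      exact hk (v4.eq_symm_apply.mpr e)
  have hwn : w ∈ subgroupNormalizer (pauli (F := F)) :=
    Subgroup.mem_normalizer_iff.mpr fun z => by
      have hfw : ∀ z ∈ pauli (F := F), w * z * w⁻¹ ∈ pauli (F := F) := by
        rintro z ⟨d, u, b, hd, hz⟩
        refine ⟨d * chi4 u b, b, u, by rw [mul_pow, hd, chi4_fourth, mul_one], ?_⟩
        rw [Units.val_mul, Units.val_mul, hz, show (w : Mat 4 F) = W from rfl, hswap, mul_assoc,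
          show ((w⁻¹ : GL (Fin 4) F) : Mat 4 F) = W from rfl, hWW, mul_one]
      refine ⟨hfw z, fun hz => ?_⟩
      have hww : w⁻¹ = w := Units.ext rfl
      have h := hfw _ hz
      rw [show w * (w * z * w⁻¹) * w⁻¹ = (w * w) * z * (w * w)⁻¹ by group,
        show w * w = 1 from Units.ext hWW, one_mul, inv_one, mul_one] at h
      exact h
  exact hs (key _ (hAn w hwn x hx) (c * chi4 s 0) 0 s (by rw [mul_pow, hc, chi4_fourth, mul_one]) (by
    rw [Units.val_mul, Units.val_mul, hxe, show (w : Mat 4 F) = W from rfl, hswap, mul_assoc,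
      show ((w⁻¹ : GL (Fin 4) F) : Mat 4 F) = W from rfl, hWW, mul_one]))

/-- Over nine elements a group stabilising an orthogonal frame in dimension four normalises a group
of symplectic type. -/
theorem lines_to_symType (hF : Fintype.card F = 3 ^ 2) {H : Subgroup (GL (Fin 4) F)}
    (hH : IsMaximalIn (suG 4 F 3) H) {D : Fin 4 → Submodule F (Fin 4 → F)}
    (hD : IsNondegenerateMDecomposition (Cfsg.hermForm 4 F 3) 1 D)
    (hle : H ≤ decompositionStabilizer D) :
    ∃ R : Subgroup (GL (Fin 4) F), IsSymplecticTypeGroup 2 R ∧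
      ActsAbsolutelyIrreducibly (matrixSet R) ∧ R ≤ similarityGroup (Cfsg.hermForm 4 F 3) ∧
      Nat.card R = 64 ∧ Nat.card (Subgroup.center R) = 4 ∧ H = subgroupNormalizer R ⊓ suG 4 F 3 := by
  classical
  obtain ⟨σ, hσ, hc⟩ := exists_frob hF
  obtain ⟨g, hg, hgD⟩ := frame_of_lines hσ hc hD
  obtain ⟨hsym, hST, hGU⟩ := pauli_symType hF
  set φ := (MulAut.conj g).toMonoidHom with hφ
  set R := (pauli (F := F)).map φ with hR
  have hzero : (0 : ℕ) < 4 := by norm_num
  have hinj : Function.Injective φ := (MulAut.conj g).injective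
  have hRU : R ≤ Cfsg.GU 4 F 3 := by
    rintro _ ⟨x, hx, rfl⟩
    exact Subgroup.mul_mem _ (Subgroup.mul_mem _ hg (hGU hx)) (inv_mem hg)
  let eR : pauli (F := F) ≃* R := (pauli (F := F)).equivMapOfInjective φ hinj
  have hcen : Nat.card (Subgroup.center R) = Nat.card (Subgroup.center (pauli (F := F))) :=
    (Nat.card_congr (Subgroup.centerCongr eR).toEquiv).symm
  have hc4 : Nat.card (Subgroup.center (pauli (F := F))) = 4 := by
    rw [hsym.card_center hzero (by rw [Nat.card_eq_fintype_card, hF]; decide)]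
    rfl
  have hfull : algOf R = ⊤ := by
    rw [hR, hφ, algOf_conj, hsym.full, eq_top_iff]
    rintro M -
    exact ⟨((g⁻¹ : GL (Fin 4) F) : Mat 4 F) * M * (g : Mat 4 F), Algebra.mem_top, by
      simp [conjHom_apply, mul_assoc]⟩
  have hsim : R ≤ similarityGroup (Cfsg.hermForm 4 F 3) := fun x hx =>
    ⟨1, fun u v => by rw [Units.val_one, one_mul]; exact hRU hx u v⟩
  have hmono : ∀ h ∈ H, ∃ (π : Equiv.Perm V4) (α : V4 → F),
      (∀ j, ((g⁻¹ * h * g : GL (Fin 4) F) : Mat 4 F) *ᵥ Pi.single (v4.symm j) 1 =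
        α j • Pi.single (v4.symm (π j)) 1) ∧ (∀ j, α j ^ 4 = 1) ∧ (∏ j, α j) ^ 2 = 1 := by
    intro h hh
    obtain ⟨hhU, hdet⟩ := mem_suG.mp (hH.1.le hh)
    set k := g⁻¹ * h * g with hk
    have hkU : ∀ a b, Cfsg.hermForm 4 F 3 ((k : Mat 4 F) *ᵥ a) ((k : Mat 4 F) *ᵥ b) =
        Cfsg.hermForm 4 F 3 a b := (Subgroup.mul_mem _ (Subgroup.mul_mem _ (inv_mem hg) hhU) hg : k ∈ Cfsg.GU 4 F 3)
    have hkdet : (k : Mat 4 F).det = 1 := by
      rw [hk, Units.val_mul, Units.val_mul, Matrix.coe_units_inv, Matrix.det_conj' g.isUnit, hdet]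
    obtain ⟨ρ, hρ⟩ := hle hh
    have hex : ∀ i, ∃ a : F, (k : Mat 4 F) *ᵥ Pi.single i 1 = a • Pi.single (ρ i) 1 := by
      intro i
      have hm : (h : Mat 4 F) *ᵥ ((g : Mat 4 F) *ᵥ Pi.single i 1) ∈ D (ρ i) := by
        rw [← hρ i]
        exact ⟨_, by rw [hgD]; exact Submodule.mem_span_singleton_self _, Matrix.toLin'_apply _ _⟩
      rw [hgD] at hm
      obtain ⟨a, ha⟩ := Submodule.mem_span_singleton.mp hm
      refine ⟨a, ?_⟩
      rw [hk, Units.val_mul, Units.val_mul, ← Matrix.mulVec_mulVec, ← Matrix.mulVec_mulVec, ← ha,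
        Matrix.mulVec_smul, Matrix.mulVec_mulVec, Units.inv_mul, Matrix.one_mulVec]
    choose α hα using hex
    let π : Equiv.Perm V4 := (v4.symm.trans ρ).trans v4
    have h4 : ∀ i, α i ^ 4 = 1 := fun i => by
      have e := hkU (Pi.single i 1) (Pi.single i 1)
      rw [hα, (herm_sesq hσ).smul_left, (herm_sesq hσ).smul_right, herm_single_right hσ,
        herm_single_right hσ, Pi.single_eq_same, Pi.single_eq_same, mul_one, hσ, ← pow_succ'] at e
      exact e
    refine ⟨π, fun j => α (v4.symm j), fun j => ?_, fun j => h4 _, ?_⟩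
    · rw [hα]; simp [π]
    · rw [v4.symm.prod_comp α]
      have hd : (k : Mat 4 F).det = (Equiv.Perm.sign ρ : F) * ∏ i, α i := by
        rw [Matrix.det_apply', Finset.sum_eq_single ρ]
        · congr 1
          refine Finset.prod_congr rfl fun i _ => ?_
          have := congrFun (hα i) (ρ i)
          rwa [Matrix.mulVec_single_one, Matrix.col_apply, Pi.smul_apply, Pi.single_eq_same,
            smul_eq_mul, mul_one] at this
        · intro τ _ hτ
          obtain ⟨i, hi⟩ := not_forall.mp fun h => hτ (Equiv.ext h)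
          rw [Finset.prod_eq_zero (Finset.mem_univ i), mul_zero]
          have := congrFun (hα i) (τ i)
          rwa [Matrix.mulVec_single_one, Matrix.col_apply, Pi.smul_apply, Pi.single_eq_of_ne hi,
            smul_zero] at this
        · simp
      rw [hkdet] at hd
      have hs : ((Equiv.Perm.sign ρ : ℤ) : F) ^ 2 = 1 := by
        rcases Int.units_eq_one_or (Equiv.Perm.sign ρ) with h | h <;> simp [h]
      calc (∏ i, α i) ^ 2 = ((Equiv.Perm.sign ρ : ℤ) : F) ^ 2 * (∏ i, α i) ^ 2 := by rw [hs, one_mul]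
        _ = 1 := by rw [← mul_pow, ← hd, one_pow]
  have hfw : ∀ h ∈ H, ∀ y ∈ R, h * y * h⁻¹ ∈ R := by
    rintro h hh _ ⟨x, hx, rfl⟩
    obtain ⟨π, α, h1, h2, h3⟩ := hmono h hh
    refine ⟨g⁻¹ * h * g * x * (g⁻¹ * h * g)⁻¹, monomial_normalises h1 h2 h3 x hx, ?_⟩
    simp only [hφ, MulEquiv.coe_toMonoidHom, MulAut.conj_apply]
    group
  have hnorm : H ≤ subgroupNormalizer R := fun h hh =>
    Subgroup.mem_normalizer_iff.mpr fun y => ⟨hfw h hh y, fun hy => by
      have := hfw h⁻¹ (H.inv_mem hh) _ hy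
      simpa [mul_assoc] using this⟩
  refine ⟨R, ?_, full_absIrred hzero hfull, hsim, ?_, hcen.trans hc4,
    maximal_eq_inf hH hnorm (suG_not_le_normalizer_sim hF (by norm_num) (.inl le_rfl) hsim ?_ ?_)⟩
  · refine ⟨Nat.prime_two, hST.pGroup.map φ, fun A hA hAc => ?_, ?_⟩
    · haveI : (A.comap eR.toMonoidHom).Characteristic := by
        rw [Subgroup.characteristic_iff_comap_eq]
        intro ψ
        ext x
        have := hA.fixed ((eR.symm.trans ψ).trans eR)
        have h2 := SetLike.ext_iff.mp this (eR x)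
        simpa using h2
      haveI : IsMulCommutative (A.comap eR.toMonoidHom) := ⟨⟨fun a b => Subtype.ext (eR.injective (by
        simp only [Subgroup.coe_mul, map_mul]
        exact congrArg Subtype.val (hAc.is_comm.comm (⟨_, a.2⟩ : A) ⟨_, b.2⟩)))⟩⟩
      haveI := hST.cyclic_of_characteristic (A.comap eR.toMonoidHom) inferInstance inferInstance
      refine isCyclic_of_surjective
        ((eR.toMonoidHom.comp (A.comap eR.toMonoidHom).subtype).codRestrict A fun a => a.2) ?_
      intro a
      exact ⟨⟨eR.symm a, by simp⟩, Subtype.ext (eR.apply_symm_apply a)⟩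
    · rw [← Monoid.exponent_eq_of_mulEquiv eR]
      exact hST.exponent_eq
  · rw [← Nat.card_congr eR.toEquiv, hsym.card_eq hzero, hc4]
  · rintro _ ⟨a, ha, rfl⟩ _ ⟨b, hb, rfl⟩
    have hm := (scalars_normal (ι := Fin 4) (F := F)).conj_mem _ (hsym.comm a ha b hb) g
    convert hm using 1
    simp only [hφ, MulEquiv.coe_toMonoidHom, MulAut.conj_apply]
    group
  · exact fun hle => algOf_comm_false (by norm_num) hfull fun x hx y _ => scalars_comm (hle hx) y

end CfsgLib.Classical.AschForm
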