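import Cfsg.Agent.Lib.Classical.AschForm.UnitaryTensor
import Cfsg.Agent.Lib.Classical.AschPrime.UnitaryBasic
import Cfsg.Agent.Lib.Classical.AschSp.TensorBasic

/-!
# Frames, and the decompositions forced over four elements
-/

set_option autoImplicit false
set_option linter.unusedSectionVars false

namespace CfsgLib.Classical.AschForm

open Matrix Cfsg Cfsg.Geo CfsgLib.Classical.AschPrime CfsgLib.Classical.AschGen
open scoped MatrixGroups Kronecker

variable {F : Type*} [Field F] [Fintype F] {n q : ℕ} {σ : F →+* F}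

/-- A non-degenerate subspace has an orthonormal basis. -/
theorem exists_on_basis (hσ : ∀ x, σ x = x ^ q) (hc : IsConjugation σ) {k : ℕ}
    {W : Submodule F (Fin n → F)} (hW : IsNondegenerateOn (Cfsg.hermForm n F q) W)
    (hk : Module.finrank F W = k) :
    ∃ u : Fin k → (Fin n → F), (∀ i, u i ∈ W) ∧
      (∀ i j, Cfsg.hermForm n F q (u i) (u j) = if i = j then 1 else 0) ∧
      ∀ x ∈ W, ∃ a : Fin k → F, x = ∑ i, a i • u i := by
  classical
  have hs := herm_sesq (n := n) hσ
  set f := Cfsg.hermForm n F q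
  let B := Module.finBasisOfFinrankEq F W hk
  let L : (Fin k → F) ≃ₗ[F] W := B.equivFun.symm
  let g : (Fin k → F) → (Fin k → F) → F := fun x y => f (L x : Fin n → F) (L y : Fin n → F)
  have hg : Herm σ 1 g := by
    refine ⟨⟨fun x y v => ?_, fun c x v => ?_, fun v x y => ?_, fun c v x => ?_⟩, fun v hv => ?_,
      fun u v => ?_, hc.invol⟩
    · simp only [g, map_add, Submodule.coe_add]; exact hs.add_left _ _ _
    · simp only [g, map_smul, SetLike.val_smul]; exact hs.smul_left _ _ _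
    · simp only [g, map_add, Submodule.coe_add]; exact hs.add_right _ _ _
    · simp only [g, map_smul, SetLike.val_smul]; exact hs.smul_right _ _ _
    · obtain ⟨⟨x, hx, hxv⟩, y, hy, hyv⟩ := hW (L v) (L v).2 fun e => hv (L.map_eq_zero_iff.mp (Subtype.ext e))
      exact ⟨⟨L.symm ⟨x, hx⟩, by simpa [g] using hxv⟩, L.symm ⟨y, hy⟩, by simpa [g] using hyv⟩
    · rw [one_mul]; exact (herm_symm hσ hc _ _).symm
  obtain ⟨A, hA⟩ := exists_orth_matrix hc hg
  refine ⟨fun i => (L ((A : Mat k F) *ᵥ Pi.single i 1) : Fin n → F), fun i => (L _).2, fun i j => ?_, ?_⟩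
  · have h := hg.apply_at A (Pi.single i 1) (Pi.single j 1)
    rw [show gramAt σ g A = 1 from hA, show σ ∘ (Pi.single j 1 : Fin k → F) = Pi.single j 1 from
      funext fun l => by simp [Pi.single_apply, apply_ite σ], Matrix.one_mulVec,
      single_one_dotProduct, Pi.single_apply] at h
    exact h
  · intro x hx
    refine ⟨((A⁻¹ : GL (Fin k) F) : Mat k F) *ᵥ L.symm ⟨x, hx⟩, ?_⟩
    set a := ((A⁻¹ : GL (Fin k) F) : Mat k F) *ᵥ L.symm ⟨x, hx⟩ with ha
    have h1 : (A : Mat k F) *ᵥ a = L.symm ⟨x, hx⟩ := by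
      rw [ha, Matrix.mulVec_mulVec, Units.mul_inv, Matrix.one_mulVec]
    have h2 : (A : Mat k F) *ᵥ a = ∑ i, a i • ((A : Mat k F) *ᵥ Pi.single i 1) := by
      conv_lhs => rw [pi_eq_sum_univ' a]
      rw [Matrix.mulVec_sum]
      refine Finset.sum_congr rfl fun i _ => ?_
      rw [Matrix.mulVec_smul]
    have h3 : x = (L ((A : Mat k F) *ᵥ a) : Fin n → F) := by rw [h1, L.apply_symm_apply]
    rw [h3, h2, map_sum, Submodule.coe_sum]
    exact Finset.sum_congr rfl fun i _ => by rw [map_smul, SetLike.val_smul]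

/-- An orthonormal family indexed by the coordinates is the image of the standard basis. -/
theorem exists_gu_of_frame (hσ : ∀ x, σ x = x ^ q) (hc : IsConjugation σ)
    (v : Fin n → (Fin n → F)) (hv : ∀ i j, Cfsg.hermForm n F q (v i) (v j) = if i = j then 1 else 0) :
    ∃ g ∈ Cfsg.GU n F q, ∀ j, (g : Mat n F) *ᵥ Pi.single j 1 = v j := by
  classical
  let A : Mat n F := Matrix.of fun i j => v j i
  have hA : (A.map σ)ᵀ * A = 1 := by
    ext i j
    rw [Matrix.one_apply, ← (show (if j = i then (1 : F) else 0) = if i = j then 1 else 0 by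
      simp only [eq_comm]), ← hv j i, Matrix.mul_apply, Cfsg.hermForm]
    refine Finset.sum_congr rfl fun k _ => ?_
    simp [A, hσ, mul_comm]
  let g : GL (Fin n) F := ⟨A, (A.map σ)ᵀ, mul_eq_one_comm.mp hA, hA⟩
  refine ⟨g, ?_, fun j => ?_⟩
  · intro a b
    change Cfsg.hermForm n F q (A *ᵥ a) (A *ᵥ b) = _
    rw [herm_adjoint hσ hc, Matrix.mulVec_mulVec, hA, Matrix.one_mulVec]
  · show A *ᵥ Pi.single j 1 = v j
    rw [Matrix.mulVec_single_one]
    rfl

/-- A decomposition into orthogonal non-degenerate lines comes from a unitary matrix. -/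
theorem frame_of_lines (hσ : ∀ x, σ x = x ^ q) (hc : IsConjugation σ)
    {D : Fin n → Submodule F (Fin n → F)}
    (hD : IsNondegenerateMDecomposition (Cfsg.hermForm n F q) 1 D) :
    ∃ g ∈ Cfsg.GU n F q, ∀ j, D j = Submodule.span F {(g : Mat n F) *ᵥ Pi.single j 1} := by
  choose u hu hδ hspan using fun j => exists_on_basis hσ hc (hD.nondegenerate j) (hD.decomp.finrank_eq j)
  obtain ⟨g, hg, hgv⟩ := exists_gu_of_frame hσ hc (fun j => u j 0) fun i j => by
    split
    · next h => subst h; rw [hδ]; rfl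
    · next h => exact hD.orthogonal i j h _ (hu i 0) _ (hu j 0)
  refine ⟨g, hg, fun j => ?_⟩
  rw [hgv]
  refine le_antisymm (fun x hx => ?_) ((Submodule.span_singleton_le_iff_mem _ _).mpr (hu j 0))
  obtain ⟨a, rfl⟩ := hspan j x hx
  rw [Fin.sum_univ_one]
  exact Submodule.smul_mem _ _ (Submodule.mem_span_singleton_self _)

/-- An orthonormal frame gives a decomposition into lines. -/
theorem lines_of_frame (hn : 2 ≤ n) {g : GL (Fin n) F} (hg : g ∈ Cfsg.GU n F q)
    (hσ : ∀ x, σ x = x ^ q) :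
    IsNondegenerateMDecomposition (Cfsg.hermForm n F q) 1
      (fun j => Submodule.span F {(g : Mat n F) *ᵥ Pi.single j 1}) := by
  classical
  have hs := herm_sesq (n := n) hσ
  have hg' : ∀ a b, Cfsg.hermForm n F q ((g : Mat n F) *ᵥ a) ((g : Mat n F) *ᵥ b) =
      Cfsg.hermForm n F q a b := hg
  have hne : ∀ j, (g : Mat n F) *ᵥ Pi.single j 1 ≠ 0 := fun j e => by
    have h := hg' (Pi.single j 1) (Pi.single j 1)
    rw [e, herm_single_right hσ, Pi.single_eq_same] at h
    simp [Cfsg.hermForm] at h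
  have hli : LinearIndependent F fun j => (g : Mat n F) *ᵥ Pi.single j 1 := by
    have h := (Matrix.linearIndependent_cols_iff_isUnit (A := (g : Mat n F))).mpr g.isUnit
    convert h using 1
    funext j
    rw [Matrix.mulVec_single_one]
  refine ⟨⟨hn, Nat.one_pos, fun j => finrank_span_singleton (hne j), hli.iSupIndep_span_singleton, ?_⟩,
    fun j => ?_, fun i j hij u hu v hv => ?_⟩
  · rw [← Submodule.span_range_eq_iSup]
    exact hli.span_eq_top_of_card_eq_finrank' (by simp)
  · intro w hw hw0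
    obtain ⟨a, rfl⟩ := Submodule.mem_span_singleton.mp hw
    have ha : a ≠ 0 := fun e => hw0 (by rw [e, zero_smul])
    have h1 : Cfsg.hermForm n F q (a • ((g : Mat n F) *ᵥ Pi.single j 1)) (a • ((g : Mat n F) *ᵥ Pi.single j 1))
        ≠ 0 := by
      rw [hs.smul_left, hs.smul_right, hg', herm_single_right hσ, Pi.single_eq_same, mul_one]
      exact mul_ne_zero ha ((map_ne_zero σ).mpr ha)
    exact ⟨⟨_, hw, h1⟩, _, hw, h1⟩
  · obtain ⟨a, rfl⟩ := Submodule.mem_span_singleton.mp hu
    obtain ⟨b, rfl⟩ := Submodule.mem_span_singleton.mp hv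
    rw [hs.smul_left, hs.smul_right, hg', herm_single_right hσ, Pi.single_eq_of_ne hij.symm, mul_zero, mul_zero]

/-- Over four elements a vector of norm one in an orthonormal plane lies on one of its two lines. -/
theorem four_plane (hF : Fintype.card F = 4) (hσ : ∀ x, σ x = x ^ 2) {a b : F}
    (h : a * σ a + b * σ b = 1) : a = 0 ∨ b = 0 := by
  by_contra hh
  push Not at hh
  have h3 : ∀ x : F, x ≠ 0 → x * σ x = 1 := fun x hx => by
    rw [hσ, ← pow_succ']
    exact (show x ^ (Fintype.card F - 1) = 1 from FiniteField.pow_card_sub_one_eq_one x hx) |>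
      fun e => by rwa [hF] at e
  rw [h3 a hh.1, h3 b hh.2] at h
  exact one_ne_zero (α := F) (by linear_combination h)

/-- Over four elements a decomposition into planes refines to lines. -/
theorem planes_to_lines (hF : Fintype.card F = 2 ^ 2) (hn : 2 ≤ n) {t : ℕ}
    {D : Fin t → Submodule F (Fin n → F)}
    (hD : IsNondegenerateMDecomposition (Cfsg.hermForm n F 2) 2 D) (htn : t * 2 = n) :
    ∃ D' : Fin n → Submodule F (Fin n → F), IsNondegenerateMDecomposition (Cfsg.hermForm n F 2) 1 D' ∧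
      decompositionStabilizer D ⊓ Cfsg.GU n F 2 ≤ decompositionStabilizer D' := by
  classical
  obtain ⟨σ, hσ, hc⟩ := exists_frob hF
  have hs := herm_sesq (n := n) hσ
  choose u hu hδ hspan using fun i => exists_on_basis hσ hc (hD.nondegenerate i) (hD.decomp.finrank_eq i)
  let e : Fin n ≃ Fin t × Fin 2 := (finCongr htn.symm).trans finProdFinEquiv.symm
  obtain ⟨g, hg, hgv⟩ := exists_gu_of_frame hσ hc (fun j => u (e j).1 (e j).2) fun i j => by
    by_cases h : (e i).1 = (e j).1
    · rw [h, hδ]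
      refine if_congr ⟨fun h2 => e.injective (Prod.ext h h2), fun h2 => congrArg (fun z => (e z).2) h2⟩ rfl rfl
    · rw [if_neg fun h2 => h (congrArg (fun z => (e z).1) h2)]
      exact hD.orthogonal _ _ h _ (hu _ _) _ (hu _ _)
  have hD' := lines_of_frame hn hg hσ
  refine ⟨_, hD', ?_⟩
  rintro h ⟨⟨π, hπ⟩, hh⟩
  have hh' : ∀ a b, Cfsg.hermForm n F 2 ((h : Mat n F) *ᵥ a) ((h : Mat n F) *ᵥ b) =
      Cfsg.hermForm n F 2 a b := hh
  have hstep : ∀ j, ∃ j', (Submodule.span F {(g : Mat n F) *ᵥ Pi.single j 1}).map (Matrix.toLin' (h : Mat n F)) =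
      Submodule.span F {(g : Mat n F) *ᵥ Pi.single j' 1} := by
    intro j
    set v := (h : Mat n F) *ᵥ u (e j).1 (e j).2 with hv
    have hvD : v ∈ D (π (e j).1) := hπ (e j).1 ▸ ⟨_, hu _ _, Matrix.toLin'_apply _ _⟩
    obtain ⟨a, ha⟩ := hspan _ v hvD
    rw [Fin.sum_univ_two] at ha
    have hnorm : a 0 * σ (a 0) + a 1 * σ (a 1) = 1 := by
      have h1 : Cfsg.hermForm n F 2 v v = 1 := by rw [hv, hh', hδ, if_pos rfl]
      rw [ha] at h1
      simpa [hs.add_left, hs.add_right, hs.smul_left, hs.smul_right, hδ] using h1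
    have hmap : ∀ s : Fin 2, ∀ c : F, v = c • u (π (e j).1) s →
        (Submodule.span F {(g : Mat n F) *ᵥ Pi.single j 1}).map (Matrix.toLin' (h : Mat n F)) =
          Submodule.span F {(g : Mat n F) *ᵥ Pi.single (e.symm (π (e j).1, s)) 1} := fun s c hvc => by
      have hc0 : c ≠ 0 := fun e0 => by
        have h1 : Cfsg.hermForm n F 2 v v = 1 := by rw [hv, hh', hδ, if_pos rfl]
        rw [hvc, e0, hs.smul_left, zero_mul] at h1
        exact zero_ne_one h1
      rw [Submodule.map_span, Set.image_singleton, Matrix.toLin'_apply, hgv, hgv, ← hv, hvc,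
        e.apply_symm_apply]
      exact Submodule.span_singleton_smul_eq (Ne.isUnit hc0) _
    rcases four_plane hF hσ hnorm with h0 | h0
    · exact ⟨_, hmap 1 (a 1) (by rw [ha, h0, zero_smul, zero_add])⟩
    · exact ⟨_, hmap 0 (a 0) (by rw [ha, h0, zero_smul, add_zero])⟩
  choose ρ hρ using hstep
  have hinj : Function.Injective ρ := by
    intro i j hij
    by_contra hne
    have he := hρ i
    rw [hij, ← hρ j] at he
    have := Submodule.map_injective_of_injective (f := Matrix.toLin' (h : Mat n F))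
      (fun x y hxy => by
        have := congrArg (fun z => ((h⁻¹ : GL (Fin n) F) : Mat n F) *ᵥ z) hxy
        simpa [Matrix.toLin'_apply, Matrix.mulVec_mulVec] using this) he
    have hd := hD'.decomp.indep.pairwiseDisjoint hne
    rw [Function.onFun, this, disjoint_self] at hd
    have h1 := hD'.decomp.finrank_eq j
    erw [hd, finrank_bot] at h1
    exact zero_ne_one h1
  exact ⟨Equiv.ofBijective ρ (Finite.injective_iff_bijective.mp hinj), hρ⟩

/-- Over four elements a tensor decomposition with a plane is a decomposition into two blocks. -/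
theorem tensor_two_blocks (hF : Fintype.card F = 2 ^ 2) {k : ℕ} (hk : 0 < k)
    {e : Fin n ≃ Fin 2 × Fin k} {P : GL (Fin n) F}
    {f₁ : (Fin 2 → F) → (Fin 2 → F) → F} {f₂ : (Fin k → F) → (Fin k → F) → F}
    (hf₁ : IsUnitaryFormPow 2 f₁) (hf₂ : IsUnitaryFormPow 2 f₂)
    (hT : IsTensorFormStructure (fun x : F => x ^ 2) (Cfsg.hermForm n F 2) f₁ f₂ e P) :
    ∃ D : Fin 2 → Submodule F (Fin n → F), IsNondegenerateMDecomposition (Cfsg.hermForm n F 2) k D ∧
      tensorProductSubgroup 2 k e P ⊓ Cfsg.GU n F 2 ≤ decompositionStabilizer D := by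
  classical
  obtain ⟨σ, hσ, hc⟩ := exists_frob hF
  have herm : ∀ {m : ℕ} {g : (Fin m → F) → (Fin m → F) → F}, IsUnitaryFormPow 2 g → Herm σ 1 g := by
    intro m g hg
    refine ⟨⟨hg.add_left, hg.smul_left, fun v x y => ?_, fun c v x => ?_⟩, hg.nondegenerate,
      fun u v => by rw [one_mul, hσ]; exact hg.herm v u, hc.invol⟩
    · rw [hg.herm v (x + y), hg.add_left, ← hσ, map_add, hσ, hσ, ← hg.herm, ← hg.herm]
    · rw [hg.herm v (c • x), hg.smul_left, mul_pow, ← hg.herm, hσ]
  have h1 := herm hf₁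
  have h2 := herm hf₂
  obtain ⟨A, hA⟩ := exists_orth_matrix hc h1
  obtain ⟨c, hc0, hval⟩ := hT
  set f := Cfsg.hermForm n F 2
  let te : (Fin 2 → F) → (Fin k → F) → (Fin n → F) :=
    fun x y => (P : Mat n F) *ᵥ ((fun p : Fin 2 × Fin k => x p.1 * y p.2) ∘ e)
  have hte : ∀ x x' y y', f (te x y) (te x' y') = c * (f₁ x x' * f₂ y y') := by
    intro x x' y y'
    rw [hval]
    congr 1
    rw [h1.sesq.apply, h2.sesq.apply]
    simp only [formOfGram, Matrix.kroneckerMap_apply, dotProduct, Matrix.mulVec, Function.comp_apply,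
      Fintype.sum_prod_type, Finset.mul_sum, Finset.sum_mul, hσ]
    rw [Finset.sum_comm]
    refine Finset.sum_congr rfl fun b _ => ?_
    rw [Finset.sum_congr rfl fun a _ => Finset.sum_comm, Finset.sum_comm]
    refine Finset.sum_congr rfl fun b' _ => Finset.sum_congr rfl fun a _ =>
      Finset.sum_congr rfl fun a' _ => by ring
  let w : Fin 2 → (Fin 2 → F) := fun a => (A : Mat 2 F) *ᵥ Pi.single a 1
  have hw : ∀ a b, f₁ (w a) (w b) = if a = b then 1 else 0 := fun a b => by
    have h := h1.apply_at A (Pi.single a 1) (Pi.single b 1)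
    rw [show gramAt σ f₁ A = 1 from hA, show σ ∘ (Pi.single b 1 : Fin 2 → F) = Pi.single b 1 from
      funext fun l => by simp [Pi.single_apply, apply_ite σ], Matrix.one_mulVec,
      single_one_dotProduct, Pi.single_apply] at h
    exact h
  let ι : Fin 2 → (Fin k → F) →ₗ[F] (Fin n → F) := fun a =>
    { toFun := te (w a)
      map_add' := fun y y' => by
        show (P : Mat n F) *ᵥ _ = (P : Mat n F) *ᵥ _ + (P : Mat n F) *ᵥ _
        rw [← Matrix.mulVec_add]; congr 1; funext i; simp [mul_add]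
      map_smul' := fun r y => by
        show (P : Mat n F) *ᵥ _ = r • ((P : Mat n F) *ᵥ _)
        rw [← Matrix.mulVec_smul]; congr 1; funext i; simp [mul_left_comm] }
  have hι : ∀ a y, ι a y = te (w a) y := fun _ _ => rfl
  have hιinj : ∀ a, Function.Injective (ι a) := fun a => by
    rw [← LinearMap.ker_eq_bot, Submodule.eq_bot_iff]
    intro y hy
    by_contra hy0
    obtain ⟨-, z, hz⟩ := h2.nondeg y hy0
    have h := hte (w a) (w a) y z
    rw [← hι, ← hι, LinearMap.mem_ker.mp hy, hw, if_pos rfl, one_mul] at h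
    refine mul_ne_zero hc0 hz (h.symm.trans ?_)
    simp [f, Cfsg.hermForm]
  set D : Fin 2 → Submodule F (Fin n → F) := fun a => LinearMap.range (ι a) with hD
  have hfin : ∀ a, Module.finrank F (D a) = k := fun a => by
    rw [hD, LinearMap.finrank_range_of_inj (hιinj a), Module.finrank_fintype_fun_eq_card, Fintype.card_fin]
  have horth : ∀ a b, a ≠ b → AreOrthogonalFor f (D a) (D b) := by
    rintro a b hab _ ⟨y, rfl⟩ _ ⟨z, rfl⟩
    rw [hι, hι, hte, hw, if_neg hab, zero_mul, mul_zero]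
  have hnd : ∀ a, IsNondegenerateOn f (D a) := by
    rintro a _ ⟨y, rfl⟩ hy0
    obtain ⟨⟨x, hx⟩, z, hz⟩ := h2.nondeg y fun e => hy0 (by rw [e, map_zero])
    refine ⟨⟨ι a x, ⟨x, rfl⟩, ?_⟩, ι a z, ⟨z, rfl⟩, ?_⟩ <;>
      rw [hι, hι, hte, hw, if_pos rfl, one_mul]
    exacts [mul_ne_zero hc0 hx, mul_ne_zero hc0 hz]
  have hdis : Disjoint (D 0) (D 1) := by
    rw [Submodule.disjoint_def]
    intro x hx0 hx1
    by_contra hx
    obtain ⟨⟨y, hy, hyx⟩, -⟩ := hnd 0 x hx0 hx
    exact hyx (horth 0 1 (by decide) y hy x hx1)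
  have hnk : n = 2 * k := by simpa using Fintype.card_congr e
  have hdec : IsMDecomposition k D := by
    refine ⟨le_rfl, hk, hfin, ?_, ?_⟩
    · intro i
      fin_cases i
      · refine hdis.mono_right (iSup₂_le fun j hj => ?_)
        fin_cases j
        · exact absurd rfl hj
        · exact le_rfl
      · refine hdis.symm.mono_right (iSup₂_le fun j hj => ?_)
        fin_cases j
        · exact le_rfl
        · exact absurd rfl hj
    · have h := Submodule.finrank_sup_add_finrank_inf_eq (D 0) (D 1)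
      rw [disjoint_iff.mp hdis, finrank_bot, hfin, hfin, add_zero] at h
      refine eq_top_iff.mpr (le_trans (ge_of_eq (Submodule.eq_top_of_finrank_eq (S := D 0 ⊔ D 1) ?_)) ?_)
      · rw [h, Module.finrank_fintype_fun_eq_card, Fintype.card_fin, hnk]; omega
      · exact sup_le (le_iSup D 0) (le_iSup D 1)
  refine ⟨D, ⟨hdec, hnd, horth⟩, ?_⟩
  rintro g ⟨hgT, hgU⟩
  have hg' : ∀ a b, f ((g : Mat n F) *ᵥ a) ((g : Mat n F) *ᵥ b) = f a b := hgU
  obtain ⟨a, b, hab⟩ := (AschSp.mem_tensor_iff e P).mp hgT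
  have hact : ∀ x y, (g : Mat n F) *ᵥ te x y = te ((a : Mat 2 F) *ᵥ x) ((b : Mat k F) *ᵥ y) := by
    intro x y
    show (g : Mat n F) *ᵥ ((P : Mat n F) *ᵥ _) = (P : Mat n F) *ᵥ _
    rw [hab, AschSp.pull_apply, Matrix.mulVec_mulVec, mul_assoc, Units.inv_mul, mul_one,
      ← Matrix.mulVec_mulVec]
    congr 1
    funext i
    simp only [Matrix.mulVec, dotProduct, Matrix.reindex_apply, Matrix.submatrix_apply, Function.comp_apply,
      Equiv.symm_symm, Matrix.kroneckerMap_apply]
    rw [Finset.sum_mul_sum, Fintype.sum_equiv e _ (fun p : Fin 2 × Fin k =>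
      (a : Mat 2 F) (e i).1 p.1 * (b : Mat k F) (e i).2 p.2 * (x p.1 * y p.2)) fun _ => rfl,
      Fintype.sum_prod_type]
    refine Finset.sum_congr rfl fun _ _ => Finset.sum_congr rfl fun _ _ => by ring
  obtain ⟨y₀, hy₀, hy₀'⟩ : ∃ y₀ : Fin k → F, f₂ y₀ y₀ = 1 ∧ f₂ ((b : Mat k F) *ᵥ y₀) ((b : Mat k F) *ᵥ y₀) ≠ 0 := by
    obtain ⟨A₂, hA₂⟩ := exists_orth_matrix hc h2
    refine ⟨(A₂ : Mat k F) *ᵥ Pi.single ⟨0, hk⟩ 1, ?_, ?_⟩
    · rw [h2.apply_at, show gramAt σ f₂ A₂ = 1 from hA₂, Matrix.one_mulVec]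
      simp
    · intro h0
      have h := hg' (te (w 0) ((A₂ : Mat k F) *ᵥ Pi.single ⟨0, hk⟩ 1))
        (te (w 0) ((A₂ : Mat k F) *ᵥ Pi.single ⟨0, hk⟩ 1))
      rw [hact, hte, hte, h0, mul_zero, mul_zero, hw, if_pos rfl, one_mul, h2.apply_at,
        show gramAt σ f₂ A₂ = 1 from hA₂, Matrix.one_mulVec] at h
      exact hc0 (by simpa using h.symm)
  have hline : ∀ s, ∃ (s' : Fin 2) (z : F), (a : Mat 2 F) *ᵥ w s = z • w s' := by
    intro s
    set v := (a : Mat 2 F) *ᵥ w s
    have h := hg' (te (w s) y₀) (te (w s) y₀)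
    rw [hact, hte, hte, hw, if_pos rfl, hy₀, mul_one, mul_one] at h
    have h' : f₁ v v * f₂ ((b : Mat k F) *ᵥ y₀) ((b : Mat k F) *ᵥ y₀) = 1 :=
      mul_left_cancel₀ hc0 (h.trans (mul_one c).symm)
    have hbool : ∀ {m : ℕ} {g : (Fin m → F) → (Fin m → F) → F}, IsUnitaryFormPow 2 g → ∀ x, g x x = 0 ∨ g x x = 1 :=
      fun hg x => by
        have e := hg.herm x x
        exact (eq_or_ne (_ : F) 0).imp id fun hne => mul_left_cancel₀ hne (by rw [mul_one, ← pow_two, ← e])
    have hv : f₁ v v = 1 := (hbool hf₁ v).resolve_left fun e => by rw [e, zero_mul] at h'; exact zero_ne_one h'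
    set z := ((A⁻¹ : GL (Fin 2) F) : Mat 2 F) *ᵥ v with hz
    have hAz : (A : Mat 2 F) *ᵥ z = v := by rw [hz, Matrix.mulVec_mulVec, Units.mul_inv, Matrix.one_mulVec]
    have hnorm : z 0 * σ (z 0) + z 1 * σ (z 1) = 1 := by
      have h3 := h1.apply_at A z z
      rw [hAz, show gramAt σ f₁ A = 1 from hA, Matrix.one_mulVec, hv] at h3
      rw [h3]; simp [dotProduct, Fin.sum_univ_two]
    have hexp : v = z 0 • w 0 + z 1 • w 1 := by
      rw [← hAz]
      simp only [w, ← Matrix.mulVec_smul, ← Matrix.mulVec_add]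
      congr 1
      funext i; fin_cases i <;> simp
    rcases four_plane hF hσ hnorm with h0 | h0
    · exact ⟨1, z 1, by rw [hexp, h0, zero_smul, zero_add]⟩
    · exact ⟨0, z 0, by rw [hexp, h0, zero_smul, add_zero]⟩
  choose ρ z hρ using hline
  have hmap : ∀ s, (D s).map (Matrix.toLin' (g : Mat n F)) = D (ρ s) := by
    intro s
    refine Submodule.eq_of_le_of_finrank_eq ?_ ?_
    · rintro _ ⟨_, ⟨y, rfl⟩, rfl⟩
      refine ⟨z s • ((b : Mat k F) *ᵥ y), ?_⟩
      rw [Matrix.toLin'_apply, hι s y, hact, hρ, hι]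
      show (P : Mat n F) *ᵥ _ = (P : Mat n F) *ᵥ _
      congr 1
      funext i
      simp only [Function.comp_apply, Pi.smul_apply, smul_eq_mul]
      ring
    · rw [← (Submodule.equivMapOfInjective (Matrix.toLin' (g : Mat n F)) (fun x y hxy => by
        have := congrArg (fun z => ((g⁻¹ : GL (Fin n) F) : Mat n F) *ᵥ z) hxy
        simpa [Matrix.toLin'_apply, Matrix.mulVec_mulVec] using this) (D s)).finrank_eq, hfin, hfin]
  have hinj : Function.Injective ρ := fun i j hij => by
    by_contra hne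
    have he := hmap i
    rw [hij, ← hmap j] at he
    have := Submodule.map_injective_of_injective (f := Matrix.toLin' (g : Mat n F))
      (fun x y hxy => by
        have := congrArg (fun z => ((g⁻¹ : GL (Fin n) F) : Mat n F) *ᵥ z) hxy
        simpa [Matrix.toLin'_apply, Matrix.mulVec_mulVec] using this) he
    have hd := hdec.indep.pairwiseDisjoint hne
    rw [Function.onFun, this, disjoint_self] at hd
    have h1 := hfin j
    rw [hd, finrank_bot] at h1
    omega
  exact ⟨Equiv.ofBijective ρ (Finite.injective_iff_bijective.mp hinj), hmap⟩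

end CfsgLib.Classical.AschForm
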