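import Cfsg.Agent.Lib.Classical.AschForm.UnitaryMax
import Cfsg.Agent.Lib.Classical.AschForm.UnitarySmall
import Cfsg.Agent.Lib.Classical.AschGen.Rows

/-!
# Reductions for the lists of maximal subgroups of small unitary groups
-/

set_option autoImplicit false
set_option linter.unusedSectionVars false

namespace CfsgLib.Classical.AschForm

open Matrix Cfsg Cfsg.Geo CfsgLib.Classical.AschPrime CfsgLib.Classical.AschGen
open scoped MatrixGroups

variable {F : Type*} [Field F] [Fintype F] {n q : ℕ}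

theorem size_fixed (hF : Fintype.card F = q ^ 2) (hn : 2 ≤ n)
    (h : n * n.factorial < 2 ^ (n * (n - 1) / 2) * 3) : n * n.factorial < Nat.card (suG n F q) :=
  lt_of_lt_of_le h (le_trans (Nat.mul_le_mul_right _ (Nat.pow_le_pow_left (two_le_of_card_sq hF) _))
    (suG_card_ge_three hF hn))

theorem q_cases (hF : Fintype.card F = q ^ 2) : 3 ≤ q ∨ q = 2 := by
  have := two_le_of_card_sq hF
  omega

theorem planes_or_lines (hF : Fintype.card F = q ^ 2) (hn : 4 ≤ n)
    (hsize : n * n.factorial < Nat.card (suG n F q)) {H : Subgroup (GL (Fin n) F)}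
    (hH : IsMaximalIn (suG n F q) H) {t : ℕ} {D : Fin t → Submodule F (Fin n → F)}
    (hD : IsNondegenerateMDecomposition (Cfsg.hermForm n F q) 2 D) (htn : t * 2 = n)
    (heq : H = decompositionStabilizer D ⊓ suG n F q) :
    3 ≤ q ∨ ∃ D' : Fin n → Submodule F (Fin n → F),
      IsNondegenerateMDecomposition (Cfsg.hermForm n F q) 1 D' ∧
      H = decompositionStabilizer D' ⊓ suG n F q := by
  rcases q_cases hF with h | rfl
  · exact .inl h
  obtain ⟨D', hD', hle⟩ := planes_to_lines hF (by omega) hD htn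
  refine .inr ⟨D', hD', maximal_eq_inf hH (heq.le.trans ?_)
    (suG_not_le_decomp_gen hF (by omega) (.inr hn) hD'.decomp hsize)⟩
  exact (inf_le_inf_left _ inf_le_left).trans hle

theorem tensor_or_blocks (hF : Fintype.card F = q ^ 2) (hn : 4 ≤ n)
    (hsize : n * n.factorial < Nat.card (suG n F q)) {H : Subgroup (GL (Fin n) F)}
    (hH : IsMaximalIn (suG n F q) H) {k : ℕ} (hk : 0 < k) {e : Fin n ≃ Fin 2 × Fin k} {P : GL (Fin n) F}
    {f₁ : (Fin 2 → F) → (Fin 2 → F) → F} {f₂ : (Fin k → F) → (Fin k → F) → F}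
    (hf₁ : IsUnitaryFormPow q f₁) (hf₂ : IsUnitaryFormPow q f₂)
    (hT : IsTensorFormStructure (fun x : F => x ^ q) (Cfsg.hermForm n F q) f₁ f₂ e P)
    (heq : H = tensorProductSubgroup 2 k e P ⊓ suG n F q) :
    3 ≤ q ∨ ∃ D : Fin 2 → Submodule F (Fin n → F),
      IsNondegenerateMDecomposition (Cfsg.hermForm n F q) k D ∧
      H = decompositionStabilizer D ⊓ suG n F q := by
  rcases q_cases hF with h | rfl
  · exact .inl h
  obtain ⟨D, hD, hle⟩ := tensor_two_blocks hF hk hf₁ hf₂ hT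
  refine .inr ⟨D, hD, maximal_eq_inf hH (heq.le.trans ?_)
    (suG_not_le_decomp_gen hF (by omega) (.inr hn) hD.decomp (lt_of_le_of_lt
      (Nat.mul_le_mul_left _ (Nat.factorial_le (by omega))) hsize))⟩
  exact (inf_le_inf_left _ inf_le_left).trans hle

theorem factor_unique {n₁ n₂ a : ℕ} (h : n₁ * n₂ = n) (h1 : 2 ≤ n₁) (h2 : n₁ < n₂) (hn : n ≤ 10) (ha : n = 2 * a) :
    n₁ = 2 ∧ n₂ = a := by
  have hle : n₁ ≤ 3 := by
    by_contra hc
    have := Nat.mul_le_mul (show 4 ≤ n₁ by omega) (show 5 ≤ n₂ by omega)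
    omega
  interval_cases n₁ <;> omega

end CfsgLib.Classical.AschForm
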