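import Cfsg.Agent.Lib.Classical.AschForm.UnitaryThree

/-!
# Subfield groups and groups of symplectic type in unitary groups
-/

set_option autoImplicit false
set_option linter.unusedSectionVars false

namespace CfsgLib.Classical.AschForm

open Matrix Cfsg Cfsg.Geo CfsgLib.Classical.AschPrime CfsgLib.Classical.AschGen
open scoped MatrixGroups Kronecker commutatorElement

section Rational

variable {F : Type*} [Field F] [Fintype F] {n : ℕ} {σ : F →+* F} {ε : F}
  {f : (Fin n → F) → (Fin n → F) → F}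

/-- A form preserved up to rational multipliers by an absolutely irreducible rational group is
rational up to a scalar. -/
theorem rational_form_sim (hf : Herm σ ε f) (hn : 0 < n) {S : Subgroup (GL (Fin n) F)}
    (hS : ActsAbsolutelyIrreducibly (matrixSet S)) {F₁ : Subfield F}
    (hsim : ∀ s ∈ S, ∃ μ ∈ F₁, ∀ u v, f ((s : Mat n F) *ᵥ u) ((s : Mat n F) *ᵥ v) = μ * f u v)
    {B : GL (Fin n) F} (hrat : ∀ s ∈ S, RatAt F₁ B s) :
    ∃ c : F, c ≠ 0 ∧ IsFormRationalStructure f F₁ c B⁻¹ := by
  classical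
  set M := gramAt σ f B⁻¹ with hMdef
  obtain ⟨Mu, hMu'⟩ : ∃ Mu : (Mat n F)ˣ, (Mu : Mat n F) = M := hf.isUnit_gramAt B⁻¹
  choose μ hμF hμ using hsim
  have hfixS : ∀ s (hs : s ∈ S), ((B * s * B⁻¹ : GL (Fin n) F) : Mat n F)ᵀ * M *
      ((B * s * B⁻¹ : GL (Fin n) F) : Mat n F).map σ = μ s hs • M := by
    intro s hs
    have h1 : (s : Mat n F)ᵀ * gramMatrix f * (s : Mat n F).map σ = μ s hs • gramMatrix f :=
      (hf.sesq.isometry (c := μ s hs)).mp (hμ s hs)
    have e : ((B⁻¹ : GL (Fin n) F) : Mat n F) * ((B * s * B⁻¹ : GL (Fin n) F) : Mat n F) =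
        (s : Mat n F) * ((B⁻¹ : GL (Fin n) F) : Mat n F) := by
      rw [← Units.val_mul, ← Units.val_mul]; congr 1; group
    calc ((B * s * B⁻¹ : GL (Fin n) F) : Mat n F)ᵀ * M * ((B * s * B⁻¹ : GL (Fin n) F) : Mat n F).map σ
        = (((B⁻¹ : GL (Fin n) F) : Mat n F) * ((B * s * B⁻¹ : GL (Fin n) F) : Mat n F))ᵀ * gramMatrix f *
          (((B⁻¹ : GL (Fin n) F) : Mat n F) * ((B * s * B⁻¹ : GL (Fin n) F) : Mat n F)).map σ := by
          rw [hMdef, gramAt, Matrix.transpose_mul, Matrix.map_mul]; simp only [mul_assoc]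
      _ = ((B⁻¹ : GL (Fin n) F) : Mat n F)ᵀ * ((s : Mat n F)ᵀ * gramMatrix f * (s : Mat n F).map σ) *
          ((B⁻¹ : GL (Fin n) F) : Mat n F).map σ := by
          rw [e, Matrix.transpose_mul, Matrix.map_mul]; simp only [mul_assoc]
      _ = μ s hs • M := by rw [h1, hMdef, gramAt, Matrix.mul_smul, Matrix.smul_mul]
  obtain ⟨τ, hτ⟩ := exists_frob_fixed F₁
  set X := M.map τ * ((Mu⁻¹ : (Mat n F)ˣ) : Mat n F) with hX
  have hXM : X * M = M.map τ := by rw [hX, ← hMu', mul_assoc, Units.inv_mul, mul_one]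
  have hfixτ : ∀ s (hs : s ∈ S), ((B * s * B⁻¹ : GL (Fin n) F) : Mat n F)ᵀ * M.map τ *
      ((B * s * B⁻¹ : GL (Fin n) F) : Mat n F).map σ = μ s hs • M.map τ := by
    intro s hs
    set A := ((B * s * B⁻¹ : GL (Fin n) F) : Mat n F)
    have hA : A.map τ = A := by ext i j; exact (hτ _).mpr (hrat s hs i j)
    have hAσ : (A.map σ).map τ = A.map σ := by
      ext i j; exact (hτ _).mpr (map_mem_subfield σ F₁ (hrat s hs i j))
    have hmap : (μ s hs • M).map τ = μ s hs • M.map τ := by
      ext i j; simp [(hτ _).mpr (hμF s hs)]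
    conv_rhs => rw [← hmap, ← hfixS s hs, Matrix.map_mul, Matrix.map_mul, Matrix.transpose_map, hA, hAσ]
  obtain ⟨c, hc'⟩ := hS.2 (((B⁻¹ : GL (Fin n) F) : Mat n F) * Xᵀ * (B : Mat n F)) (by
    rintro _ ⟨s, hs, rfl⟩
    set s' := B * s * B⁻¹ with hs'
    have hunit : IsUnit (M * (s' : Mat n F).map σ) := by
      rw [← hMu']
      exact Mu.isUnit.mul (s'.isUnit.map (RingHom.mapMatrix σ))
    have e : (s' : Mat n F)ᵀ * X * (M * (s' : Mat n F).map σ) =
        X * (s' : Mat n F)ᵀ * (M * (s' : Mat n F).map σ) := by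
      calc (s' : Mat n F)ᵀ * X * (M * (s' : Mat n F).map σ)
          = (s' : Mat n F)ᵀ * (X * M) * (s' : Mat n F).map σ := by simp only [mul_assoc]
        _ = X * (μ s hs • M) := by rw [hXM, hfixτ s hs, Matrix.mul_smul, hXM]
        _ = X * ((s' : Mat n F)ᵀ * M * (s' : Mat n F).map σ) := by rw [hfixS s hs]
        _ = _ := by simp only [mul_assoc]
    have h2 := congrArg Matrix.transpose (hunit.mul_left_injective e)
    simp only [Matrix.transpose_mul, Matrix.transpose_transpose] at h2
    have e1 : (s : Mat n F) = ((B⁻¹ : GL (Fin n) F) : Mat n F) * (s' : Mat n F) * (B : Mat n F) := by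
      rw [← Units.val_mul, ← Units.val_mul, hs']
      congr 1
      group
    change ((B⁻¹ : GL (Fin n) F) : Mat n F) * Xᵀ * (B : Mat n F) * (s : Mat n F) =
      (s : Mat n F) * (((B⁻¹ : GL (Fin n) F) : Mat n F) * Xᵀ * (B : Mat n F))
    rw [e1]
    calc ((B⁻¹ : GL (Fin n) F) : Mat n F) * Xᵀ * (B : Mat n F) *
          (((B⁻¹ : GL (Fin n) F) : Mat n F) * (s' : Mat n F) * (B : Mat n F))
        = ((B⁻¹ : GL (Fin n) F) : Mat n F) * (Xᵀ * (s' : Mat n F)) * (B : Mat n F) := by
          simp only [mul_assoc, Units.mul_inv_cancel_left]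
      _ = ((B⁻¹ : GL (Fin n) F) : Mat n F) * ((s' : Mat n F) * Xᵀ) * (B : Mat n F) := by
          rw [h2]
      _ = _ := by simp only [mul_assoc, Units.mul_inv_cancel_left])
  have hcX : X = c • 1 := by
    have h1 := congrArg (fun Y => (B : Mat n F) * Y * ((B⁻¹ : GL (Fin n) F) : Mat n F)) hc'
    simp only [mul_assoc, Units.mul_inv, mul_one, Units.mul_inv_cancel_left, Matrix.mul_smul,
      Matrix.smul_mul, one_mul] at h1
    simpa using congrArg Matrix.transpose h1
  have hτM : ∀ i j, τ (M i j) = c * M i j := fun i j => by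
    have := congrFun (congrFun (hXM.symm.trans (by rw [hcX, Matrix.smul_mul, one_mul])) i) j
    simpa using this
  obtain ⟨i₀, j₀, hij⟩ : ∃ i j, M i j ≠ 0 := by
    by_contra hall
    push Not at hall
    haveI : NeZero n := ⟨hn.ne'⟩
    exact Mu.ne_zero (hMu'.trans (Matrix.ext hall))
  have hc0 : c ≠ 0 := by
    rintro rfl
    have := hτM i₀ j₀
    rw [zero_mul, map_eq_zero] at this
    exact hij this
  have hmem : ∀ i j, (M i₀ j₀)⁻¹ * M i j ∈ F₁ := fun i j => by
    rw [← hτ, map_mul, map_inv₀, hτM, hτM, mul_inv, mul_mul_mul_comm, inv_mul_cancel₀ hc0, one_mul]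
  refine ⟨(M i₀ j₀)⁻¹, inv_ne_zero hij, fun u v hu hv => ?_⟩
  rw [hf.apply_at]
  simp only [dotProduct, Matrix.mulVec, Function.comp_apply, Finset.mul_sum]
  refine F₁.sum_mem fun i _ => F₁.sum_mem fun j _ => ?_
  rw [show (M i₀ j₀)⁻¹ * (u i * (gramAt σ f B⁻¹ i j * σ (v j))) =
    (M i₀ j₀)⁻¹ * M i j * (u i * σ (v j)) by rw [hMdef]; ring]
  exact F₁.mul_mem (hmem i j) (F₁.mul_mem (hu i) (map_mem_subfield σ F₁ (hv j)))

end Rational

variable {F : Type*} [Field F] [Fintype F] {n q : ℕ} {σ : F →+* F}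

/-- Containment in a member of one of the classes of the unitary group. -/
def UClass (q : ℕ) (H : Subgroup (GL (Fin n) F)) : Prop :=
  ∃ M : Subgroup (GL (Fin n) F), InUnitaryClass n F q M ∧ H ≤ M

theorem gu_herm (hσ : ∀ x, σ x = x ^ q) (hc : IsConjugation σ) :
    Herm σ 1 (Cfsg.hermForm n F q) :=
  ⟨herm_sesq hσ, herm_nondeg hσ, fun u v => by rw [one_mul, herm_symm hσ hc], hc.invol⟩

section Classes

variable (hF : Fintype.card F = q ^ 2) (hσ : ∀ x, σ x = x ^ q) (hc : IsConjugation σ)
  {H : Subgroup (GL (Fin n) F)} (hH : H ≤ Cfsg.GU n F q)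
include hF hσ hc hH

/-- A reducible group lies in a member of the first two classes. -/
theorem reducible_class {W : Submodule F (Fin n → F)} (h0 : W ≠ ⊥) (h1 : W ≠ ⊤)
    (hW : ∀ h ∈ H, ∀ v ∈ W, (h : Mat n F) *ᵥ v ∈ W) : UClass q H := by
  classical
  have hf := gu_herm (n := n) hσ hc
  have hfix := gu_fixes hH
  have hP := hf.perp_invariant hfix hW
  by_cases hWW : W ⊓ hf.perp W = ⊥
  swap
  · exact ⟨_, .inl (.inl ⟨W ⊓ hf.perp W, hWW, fun u hu v hv => hu.2 v hv.1, rfl⟩),
      le_inf (le_subspaceStabilizer fun h hh v hv => ⟨hW h hh v hv.1, hP h hh v hv.2⟩) hH⟩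
  have hsum := Submodule.finrank_sup_add_finrank_inf_eq W (hf.perp W)
  rw [hWW, finrank_bot] at hsum
  have hle := Submodule.finrank_le (W ⊔ hf.perp W)
  have hge := hf.finrank_perp W
  rw [Module.finrank_fintype_fun_eq_card, Fintype.card_fin] at hle
  have htop : W ⊔ hf.perp W = ⊤ := Submodule.eq_top_of_finrank_eq (by
    rw [Module.finrank_fintype_fun_eq_card, Fintype.card_fin]; omega)
  have hnW := hf.nondeg_of_sup htop fun u hu w hw => hf.zero_comm (hw u hu)
  have hnP := hf.nondeg_of_sup (U := hf.perp W) (W := W) (by rw [sup_comm]; exact htop)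
    fun u hu w hw => hu w hw
  have hP0 : hf.perp W ≠ ⊥ := fun e => h1 (by rw [← htop, e, sup_bot_eq])
  rcases lt_trichotomy (2 * Module.finrank F W) n with hlt | heq | hgt
  · exact ⟨_, .inl (.inr (.inl ⟨W, h0, hnW, hlt, rfl⟩)), le_inf (le_subspaceStabilizer hW) hH⟩
  · refine ⟨_, .inl (.inr (.inr (.inl ⟨2, Module.finrank F W, ![W, hf.perp W],
      ⟨⟨le_rfl, ?_, ?_, ?_, ?_⟩, ?_, ?_⟩, rfl⟩))), le_inf (fun h hh => ⟨1, fun i => ?_⟩) hH⟩
    · rw [Nat.pos_iff_ne_zero, ne_eq, Submodule.finrank_eq_zero]; exact h0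
    · intro i
      fin_cases i
      · rfl
      · show Module.finrank F (hf.perp W) = _
        omega
    · rw [iSupIndep_pair (i := 0) (j := 1) (by decide) (fun k => by fin_cases k <;> simp)]
      exact disjoint_iff.mpr hWW
    · rw [eq_top_iff, ← htop]
      exact sup_le (le_iSup ![W, hf.perp W] 0) (le_iSup ![W, hf.perp W] 1)
    · intro i; fin_cases i
      · exact hnW
      · exact hnP
    · intro i j hij
      fin_cases i <;> fin_cases j
      · exact absurd rfl hij
      · exact fun u hu w hw => hf.zero_comm (hw u hu)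
      · exact fun u hu w hw => hu w hw
      · exact absurd rfl hij
    · fin_cases i
      · exact map_eq_of_invariant (hW h hh)
      · exact map_eq_of_invariant (hP h hh)
  · exact ⟨_, .inl (.inr (.inl ⟨hf.perp W, hP0, hnP, by omega, rfl⟩)),
      le_inf (le_subspaceStabilizer hP) hH⟩


/-- A group in a subfield group that carries a multiple of the form lies in a member of a class. -/
theorem subfield_class (hn : 3 ≤ n) {F₁ : Subfield F} {l : ℕ} (hl : l.Prime)
    (hcard : Fintype.card F = Nat.card F₁ ^ l) {P : GL (Fin n) F} {c : F} (hc0 : c ≠ 0)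
    (hP : IsFormRationalStructure (Cfsg.hermForm n F q) F₁ c P)
    (hle : H ≤ subfieldSubgroup F₁ P) : UClass q H := by
  classical
  set f := Cfsg.hermForm n F q
  have hf : Herm σ 1 f := gu_herm hσ hc
  have hq := two_le_of_card_sq hF
  set G := gramAt σ f P with hGdef
  set M : Mat n F := c • G with hMdef
  have hsingle : ∀ (j : Fin n) (k : Fin n), (Pi.single j (1 : F) : Fin n → F) k ∈ F₁ := fun j k => by
    rw [Pi.single_apply]; split <;> [exact F₁.one_mem; exact F₁.zero_mem]
  have hGij : ∀ i j, G i j = f ((P : Mat n F) *ᵥ Pi.single i 1) ((P : Mat n F) *ᵥ Pi.single j 1) := by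
    intro i j
    rw [hf.apply_at, show σ ∘ (Pi.single j 1 : Fin n → F) = Pi.single j 1 from funext fun k => by
      simp [Pi.single_apply, apply_ite σ], Matrix.mulVec_single_one, single_one_dotProduct]
    rfl
  have hMF : ∀ i j, M i j ∈ F₁ := fun i j => by
    rw [hMdef, Matrix.smul_apply, smul_eq_mul, hGij]
    exact hP _ _ (hsingle i) (hsingle j)
  have hGsym : ∀ i j, σ (G i j) = G j i := fun i j => by
    rw [hGij, hGij, hf.symm ((P : Mat n F) *ᵥ Pi.single i 1), one_mul]
  obtain ⟨i₀, j₀, hij⟩ : ∃ i j, G i j ≠ 0 := by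
    by_contra hall
    push Not at hall
    haveI : NeZero n := ⟨by omega⟩
    exact (hf.isUnit_gramAt P).ne_zero (Matrix.ext hall)
  set lam := σ c / c with hlam
  have hlamM : ∀ i j, σ (M i j) = lam * M j i := fun i j => by
    rw [hMdef, Matrix.smul_apply, Matrix.smul_apply, smul_eq_mul, smul_eq_mul, map_mul, hGsym, hlam,
      ← mul_assoc, div_mul_cancel₀ _ hc0]
  have hlamF : lam ∈ F₁ := by
    have hne : M j₀ i₀ ≠ 0 := by
      rw [hMdef, Matrix.smul_apply, smul_eq_mul, ← hGsym]
      exact mul_ne_zero hc0 ((map_ne_zero σ).mpr hij)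
    rw [show lam = σ (M i₀ j₀) / M j₀ i₀ by rw [hlamM, mul_div_cancel_right₀ _ hne]]
    exact F₁.div_mem (map_mem_subfield σ F₁ (hMF _ _)) (hMF _ _)
  have hlamlam : lam * σ lam = 1 := by
    rw [hlam, map_div₀, hc.invol]
    field_simp [(map_ne_zero σ).mpr hc0]
  rcases hl.eq_two_or_odd' with rfl | hlodd
  · -- index two
    have hcq : Nat.card F₁ = q := by
      rw [hF] at hcard
      exact (Nat.pow_left_injective two_ne_zero hcard).symm
    have hfixF : ∀ x ∈ F₁, x ^ q = x := fun x hx => by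
      haveI := Fintype.ofFinite F₁
      have := congrArg Subtype.val (FiniteField.pow_card (⟨x, hx⟩ : F₁))
      rw [Fintype.card_eq_nat_card, hcq] at this
      exact this
    have hσfix : ∀ x ∈ F₁, σ x = x := fun x hx => (hσ x).trans (hfixF x hx)
    have hmemF : ∀ x, σ x = x → x ∈ F₁ := fun x hx =>
      mem_of_pow_eq (S := (F₁ : Set F)) (by omega) hfixF (le_of_eq (by
        rw [← Nat.card_coe_set_eq]; exact hcq.symm)) ((hσ x).symm.trans hx)
    have hsq : lam * lam = 1 := by
      conv_lhs => arg 2; rw [← hσfix lam hlamF]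
      exact hlamlam
    by_cases hA : Odd q ∧ lam = 1
    · obtain ⟨hqodd, h1⟩ := hA
      have hσc : σ c = c := by
        rw [hlam, div_eq_one_iff_eq hc0] at h1
        exact h1
      have hcF := hmemF c hσc
      refine ⟨_, .inl (.inr (.inr (.inr (.inr (.inr (.inl ⟨F₁, P, hqodd, hcard, ?_, rfl⟩)))))),
        le_inf hle hH⟩
      intro u v hu hv
      have := F₁.mul_mem (F₁.inv_mem hcF) (hP u v hu hv)
      rw [← mul_assoc, inv_mul_cancel₀ hc0, one_mul] at this
      rwa [one_mul]
    have hneg : lam = -1 := by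
      rcases mul_self_eq_one_iff.mp hsq with h | h
      · have hqe : ¬ Odd q := fun ho => hA ⟨ho, h⟩
        have h2 : (2 : F) = 0 := by
          have h0 : ((q ^ 2 : ℕ) : F) = 0 := hF ▸ Nat.cast_card_eq_zero F
          obtain ⟨k, hk⟩ := Nat.not_odd_iff_even.mp hqe
          rw [Nat.cast_pow, pow_eq_zero_iff two_ne_zero] at h0
          by_contra h2
          haveI hp := ringChar.charP F
          have hd : ringChar F ∣ q := (CharP.cast_eq_zero_iff F (ringChar F) q).mp h0
          obtain ⟨p, hpc⟩ := CharP.exists F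
          obtain ⟨e, hpp, he⟩ := FiniteField.card F p
          have h2p : 2 ∣ p ^ (e : ℕ) := by rw [← he, hF, hk]; exact ⟨2 * k * k, by ring⟩
          have : p = 2 := ((Nat.prime_dvd_prime_iff_eq Nat.prime_two hpp).mp
            (Nat.prime_two.dvd_of_dvd_pow h2p)).symm
          subst this
          exact h2 (by exact_mod_cast CharP.cast_eq_zero F 2)
        rw [h]; linear_combination h2
      · exact h
    have hskew : ∀ i j, M i j = -M j i := fun i j => by
      have := hlamM i j
      rw [hσfix _ (hMF i j), hneg] at this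
      linear_combination this
    have hzeta : c + c ^ q = 0 := by
      rw [← hσ]
      have : σ c = lam * c := by rw [hlam, div_mul_cancel₀ _ hc0]
      rw [this, hneg]; ring
    by_cases hdiag : ∀ i, M i i = 0
    · have hev : Even n := by
        by_contra hne
        have hd := det_alternating (Nat.not_even_iff_odd.mp hne) hskew hdiag
        rw [hMdef, Matrix.det_smul] at hd
        exact mul_ne_zero (pow_ne_zero _ hc0)
          ((Matrix.isUnit_iff_isUnit_det _).mp (hf.isUnit_gramAt P)).ne_zero hd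
      refine ⟨_, .inl (.inr (.inr (.inr (.inr (.inr (.inr (.inl
        ⟨F₁, P, c, hev, hcard, hc0, hzeta, hP, ?_, rfl⟩))))))), le_inf hle hH⟩
      intro u hu
      refine (mul_eq_zero.mp (?_ : c * f ((P : Mat n F) *ᵥ u) ((P : Mat n F) *ᵥ u) = 0)).resolve_left hc0
      rw [hf.apply_at, show σ ∘ u = u from funext fun k => hσfix _ (hu k), ← hGdef]
      simp only [dotProduct, Matrix.mulVec, Finset.mul_sum]
      rw [← Finset.sum_product']
      refine Finset.sum_involution (fun x _ => x.swap) (fun x _ => ?_) (fun x _ hne h => ?_)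
        (fun x _ => Finset.mem_product.mpr ⟨Finset.mem_univ _, Finset.mem_univ _⟩)
        (fun x _ => Prod.swap_swap x)
      · have h := hskew x.1 x.2
        simp only [hMdef, Matrix.smul_apply, smul_eq_mul] at h
        simp only [Prod.fst_swap, Prod.snd_swap]
        linear_combination (u x.1 * u x.2) * h
      · refine hne ?_
        have hx : x.1 = x.2 := (congrArg Prod.fst h).symm
        have h0 := hdiag x.1
        rw [hMdef, Matrix.smul_apply, smul_eq_mul] at h0
        rw [← hx]
        linear_combination (u x.1 * u x.1) * h0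
    -- an invariant hyperplane
    push Not at hdiag
    obtain ⟨i₁, hi₁⟩ := hdiag
    have h2 : (2 : F) = 0 :=
      (mul_eq_zero.mp (by linear_combination hskew i₁ i₁ : (2 : F) * M i₁ i₁ = 0)).resolve_right hi₁
    have hMT : Mᵀ = M := Matrix.ext fun i j => by
      rw [Matrix.transpose_apply]
      linear_combination hskew j i - M i j * h2
    let Q : (Fin n → F) → F := fun u => u ⬝ᵥ (M *ᵥ u)
    have hcross : ∀ u v, v ⬝ᵥ (M *ᵥ u) = u ⬝ᵥ (M *ᵥ v) := fun u v => by
      rw [Matrix.dotProduct_mulVec, dotProduct_comm]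
      conv_lhs => rw [← hMT, Matrix.vecMul_transpose]
    have hadd : ∀ u v, Q (u + v) = Q u + Q v := fun u v => by
      simp only [Q, Matrix.mulVec_add, dotProduct_add, add_dotProduct, hcross u v]
      linear_combination (u ⬝ᵥ M *ᵥ v) * h2
    have hsmul : ∀ (a : F) u, Q (a • u) = a * a * Q u := fun a u => by
      simp only [Q, Matrix.mulVec_smul, dotProduct_smul, smul_dotProduct, smul_eq_mul]; ring
    set Pi' := ((P⁻¹ : GL (Fin n) F) : Mat n F) with hPi'
    let W : Submodule F (Fin n → F) :=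
      { carrier := {w | Q (Pi' *ᵥ w) = 0}
        add_mem' := fun {a b} (ha : _ = 0) (hb : _ = 0) => by
          change Q _ = 0
          rw [Matrix.mulVec_add, hadd, ha, hb, add_zero]
        zero_mem' := by simp [Q]
        smul_mem' := fun a w (ha : _ = 0) => by
          change Q _ = 0
          rw [Matrix.mulVec_smul, hsmul, ha, mul_zero] }
    have hback : ∀ u, Pi' *ᵥ ((P : Mat n F) *ᵥ u) = u := fun u => by
      rw [hPi', Matrix.mulVec_mulVec, Units.inv_mul, Matrix.one_mulVec]
    have hQs : ∀ i, Q (Pi.single i 1) = M i i := fun i => by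
      simp [Q, Matrix.mulVec_single_one]
    refine reducible_class hF hσ hc hH (W := W) ?_ ?_ ?_
    · intro hbot
      obtain ⟨j, hj⟩ : ∃ j, j ≠ i₁ := by
        haveI : Nontrivial (Fin n) := Fin.nontrivial_iff_two_le.mpr (by omega)
        exact exists_ne i₁
      haveI : CharP F 2 := CharTwo.of_one_ne_zero_of_two_eq_zero one_ne_zero h2
      obtain ⟨r, hr⟩ := FiniteField.isSquare_of_char_two (ringChar.eq F 2) (M j j / M i₁ i₁)
      set w : Fin n → F := Pi.single j 1 + r • Pi.single i₁ 1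
      have hmem : (P : Mat n F) *ᵥ w ∈ W := by
        change Q _ = 0
        rw [hback, hadd, hsmul, hQs, hQs, ← hr, div_mul_cancel₀ _ hi₁]
        linear_combination (M j j) * h2
      rw [hbot, Submodule.mem_bot] at hmem
      have := congrArg (Pi' *ᵥ ·) hmem
      simp only [hback, Matrix.mulVec_zero] at this
      have := congrFun this j
      simp [w, hj] at this
    · intro htop
      have hmem : (P : Mat n F) *ᵥ Pi.single i₁ 1 ∈ W := htop ▸ Submodule.mem_top
      change Q _ = 0 at hmem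
      rw [hback, hQs] at hmem
      exact hi₁ hmem
    · intro h hh w (hw : Q _ = 0)
      change Q _ = 0
      obtain ⟨a, ha, hA⟩ :=
        (CfsgLib.Classical.SubfieldMax.mem_subfieldSubgroup_iff F₁ P h).mp (hle hh)
      set X := ((P⁻¹ * h * P : GL (Fin n) F) : Mat n F) with hX
      have hXiso : Xᵀ * M * X.map σ = M := by
        have h1 : (h : Mat n F)ᵀ * gramMatrix f * (h : Mat n F).map σ = gramMatrix f := by
          rw [(hf.sesq.isometry (c := 1)).mp fun u v => by rw [one_mul]; exact hH hh u v, one_smul]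
        have e : (P : Mat n F) * X = (h : Mat n F) * (P : Mat n F) := by
          rw [hX, Units.val_mul, Units.val_mul, mul_assoc, Units.mul_inv_cancel_left]
        rw [hMdef, Matrix.mul_smul, Matrix.smul_mul, hGdef, gramAt]
        congr 1
        calc Xᵀ * ((P : Mat n F)ᵀ * gramMatrix f * (P : Mat n F).map σ) * X.map σ
            = ((P : Mat n F) * X)ᵀ * gramMatrix f * ((P : Mat n F) * X).map σ := by
              rw [Matrix.transpose_mul, Matrix.map_mul]; simp only [mul_assoc]
          _ = (P : Mat n F)ᵀ * ((h : Mat n F)ᵀ * gramMatrix f * (h : Mat n F).map σ) *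
              (P : Mat n F).map σ := by
              rw [e, Matrix.transpose_mul, Matrix.map_mul]; simp only [mul_assoc]
          _ = _ := by rw [h1]
      have hXσ : X.map σ = (a / σ a) • X := by
        ext i j
        have := hσfix _ (hA i j)
        rw [map_mul] at this
        rw [Matrix.map_apply, Matrix.smul_apply, smul_eq_mul, div_mul_eq_mul_div,
          eq_div_iff ((map_ne_zero σ).mpr ha), mul_comm]
        exact this
      have hκ : Xᵀ * M * X = (σ a / a) • M := by
        conv_rhs => rw [← hXiso, hXσ, Matrix.mul_smul, smul_smul,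
          show σ a / a * (a / σ a) = 1 by field_simp [(map_ne_zero σ).mpr ha], one_smul]
      have e : Pi' *ᵥ ((h : Mat n F) *ᵥ w) = X *ᵥ (Pi' *ᵥ w) := by
        rw [hX, hPi', Matrix.mulVec_mulVec, Matrix.mulVec_mulVec, ← Units.val_mul, ← Units.val_mul,
          mul_inv_cancel_right]
      rw [e]
      set u := Pi' *ᵥ w
      change (X *ᵥ u) ⬝ᵥ (M *ᵥ (X *ᵥ u)) = 0
      nth_rewrite 1 [← Matrix.vecMul_transpose]
      rw [← Matrix.dotProduct_mulVec, Matrix.mulVec_mulVec, Matrix.mulVec_mulVec, hκ,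
        Matrix.smul_mulVec, dotProduct_smul, show u ⬝ᵥ (M *ᵥ u) = 0 from hw, smul_zero]
  · -- odd index
    obtain ⟨k, hkF, hk0, hk⟩ : ∃ k ∈ F₁, k ≠ 0 ∧ σ k * lam = k := by
      have key : ∀ a, σ (a + σ a * lam) * lam = a + σ a * lam := fun a => by
        rw [map_add, map_mul, hc.invol]
        linear_combination a * hlamlam
      by_cases h1 : lam = -1
      · obtain ⟨a, haF, ha⟩ : ∃ a ∈ F₁, σ a ≠ a := by
          by_contra hall
          push Not at hall
          set F₀ : Subfield F := RingHom.eqLocusField σ (RingHom.id F)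
          have hle₀ : F₁ ≤ F₀ := fun x hx => hall x hx
          have hq0 : Nat.card F₀ = q := by
            have hS : ∀ x ∈ {x : F | σ x = x}, x ^ q = x := fun x hx => (hσ x).symm.trans hx
            have h := (fixed_card (RingEquiv.ofBijective σ
              ⟨σ.injective, Finite.injective_iff_surjective.mp σ.injective⟩) hc.invol
              hc.exists_not_fixed (q := q) (by rw [Nat.card_eq_fintype_card]; exact hF)).1
            rw [← h, ← Nat.card_coe_set_eq]
            rfl
          letI : Algebra F₁ F₀ := (Subfield.inclusion hle₀).toAlgebra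
          haveI : Module.Finite F₁ F₀ := Module.Finite.of_finite
          have hj : Nat.card F₀ = Nat.card F₁ ^ Module.finrank F₁ F₀ := Module.natCard_eq_pow_finrank
          rw [hq0] at hj
          rw [hF, hj, ← pow_mul] at hcard
          have := Nat.pow_right_injective (Finite.one_lt_card (α := F₁)) hcard
          obtain ⟨i, hi⟩ := hlodd
          omega
        refine ⟨a + σ a * lam, F₁.add_mem haF (F₁.mul_mem (map_mem_subfield σ F₁ haF) hlamF), ?_, key a⟩
        rw [h1]
        intro h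
        exact ha (by linear_combination -h)
      · refine ⟨1 + σ 1 * lam, F₁.add_mem F₁.one_mem (F₁.mul_mem (by rw [map_one]; exact F₁.one_mem) hlamF),
          ?_, key 1⟩
        rw [map_one, one_mul]
        exact fun h => h1 (eq_neg_of_add_eq_zero_right h)
    have ht : σ (c * k) = c * k := by
      rw [map_mul, show σ c = lam * c by rw [hlam, div_mul_cancel₀ _ hc0]]
      linear_combination c * hk
    obtain ⟨b, hb⟩ := hc.exists_norm_eq ht
    have hb0 : b ≠ 0 := fun h => by
      rw [h, zero_mul] at hb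
      exact mul_ne_zero hc0 hk0 hb.symm
    let z : GL (Fin n) F := Units.map (Matrix.scalar (Fin n) : F →+* Mat n F).toMonoidHom
      (Units.mk0 b hb0)
    have hz : z ∈ scalars (Fin n) F := ⟨_, rfl⟩
    have hzv : ∀ w, ((z * P : GL (Fin n) F) : Mat n F) *ᵥ w = b • ((P : Mat n F) *ᵥ w) := fun w => by
      rw [Units.val_mul]
      change (Matrix.scalar (Fin n) b * (P : Mat n F)) *ᵥ w = _
      rw [Matrix.scalar_apply, ← Matrix.smul_eq_diagonal_mul, Matrix.smul_mulVec]
    refine ⟨_, .inl (.inr (.inr (.inr (.inr (.inl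
      ⟨F₁, l, z * P, hl, hlodd, hcard, ?_, rfl⟩))))), le_inf (fun h hh => ?_) hH⟩
    · intro u v hu hv
      rw [hzv, hzv, one_mul]
      show f _ _ ∈ F₁
      rw [hf.sesq.smul_left, hf.sesq.smul_right, ← mul_assoc, hb, mul_comm c k,
        mul_assoc]
      exact F₁.mul_mem hkF (hP u v hu hv)
    · have h' := hle hh
      rw [CfsgLib.Classical.SubfieldMax.mem_subfieldSubgroup_iff] at h' ⊢
      have e : (z * P)⁻¹ * h * (z * P) = P⁻¹ * h * P := by
        calc (z * P)⁻¹ * h * (z * P) = P⁻¹ * (z⁻¹ * (h * z)) * P := by group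
          _ = P⁻¹ * (z⁻¹ * (z * h)) * P := by rw [scalars_comm hz h]
          _ = _ := by group
      rwa [e]

/-- A group normalising a group of symplectic type of similitudes lies in a member of a class. -/
theorem symType_class (hn : 3 ≤ n) {r m : ℕ} {R : Subgroup (GL (Fin n) F)} (hm : 1 ≤ m)
    (hnm : n = r ^ m) (hR : SymType r R) (hST : IsSymplecticTypeGroup r R)
    (hsim : ∀ x ∈ R, ∃ c : F, c ≠ 0 ∧ ∀ u v, Cfsg.hermForm n F q ((x : Mat n F) *ᵥ u)
      ((x : Mat n F) *ᵥ v) = c * Cfsg.hermForm n F q u v)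
    (hle : H ≤ subgroupNormalizer R) : UClass q H := by
  classical
  have hn0 : 0 < n := by omega
  have hq := two_le_of_card_sq hF
  obtain ⟨p, hpc⟩ := CharP.exists F
  obtain ⟨e, hp, hcard⟩ := FiniteField.card F p
  haveI := Fact.mk hp
  have hrp : r ≠ p := fun h => hR.natCast_ne (h ▸ CharP.cast_eq_zero F p)
  set εr := r * Nat.gcd 2 r with hεr
  have hpq : ∃ j, q = p ^ j ∧ (e : ℕ) = 2 * j := by
    have hd : q ∣ p ^ (e : ℕ) := by rw [← hcard, hF]; exact dvd_pow_self q two_ne_zero
    obtain ⟨j, -, hj⟩ := (Nat.dvd_prime_pow hp).mp hd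
    refine ⟨j, hj, ?_⟩
    rw [hF, hj, ← pow_mul] at hcard
    have := Nat.pow_right_injective hp.two_le hcard
    omega
  have hεdvd : εr ∣ Nat.card F - 1 := by
    rcases hR.prime.eq_two_or_odd' with h2 | hodd
    · subst h2
      have hpo : Odd p := hp.odd_of_ne_two fun h => hrp h.symm
      obtain ⟨j, hj, -⟩ := hpq
      obtain ⟨k, hk⟩ := hpo.pow (n := j)
      rw [Nat.card_eq_fintype_card, hF, hj, hk, hεr]
      exact ⟨k * k + k, by
        rw [show (2 * k + 1) ^ 2 = (4 * (k * k + k)) + 1 by ring, Nat.add_sub_cancel]; rfl⟩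
    · rw [hεr, show Nat.gcd 2 r = 1 from Nat.coprime_two_left.mpr hodd, mul_one]
      exact hR.dvd
  by_cases hsub : ∃ d, 0 < d ∧ d < (e : ℕ) ∧ εr ∣ p ^ d - 1
  · obtain ⟨d, hd, hde, hdz⟩ := hsub
    let F₀ : Subfield F := RingHom.eqLocusField (iterateFrobenius F p d) (RingHom.id F)
    have hF₀ : F₀ ≠ ⊤ := by
      intro htop
      obtain ⟨x, hx⟩ := frob_ne hp hcard hde hd
      have hmem : x ∈ F₀ := htop ▸ Subfield.mem_top x
      exact hx hmem
    have hroot : ∀ a : F, a ^ εr = 1 → a ∈ F₀ := fun a ha => by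
      show iterateFrobenius F p d a = a
      rw [iterateFrobenius_def]
      obtain ⟨k, hk⟩ := hdz
      rw [← Nat.sub_add_cancel (Nat.one_le_pow d p hp.pos), pow_succ, hk, pow_mul, ha, one_pow, one_mul]
    obtain ⟨B, hB⟩ := hR.realisable hn0 F₀ fun x hx a ha =>
      hroot a (scalar_pow_eq_one hn0 ha (hR.pow_eq x hx))
    obtain ⟨F₁, l, hleF, -, hl, hc1⟩ := exists_prime_index _ hF₀
    have hmult : ∀ x ∈ R, ∃ μ ∈ F₁, ∀ u v, Cfsg.hermForm n F q ((x : Mat n F) *ᵥ u)
        ((x : Mat n F) *ᵥ v) = μ * Cfsg.hermForm n F q u v := by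
      intro x hx
      obtain ⟨μ, -, hμ⟩ := hsim x hx
      have hk : ∀ (k : ℕ) (u v), Cfsg.hermForm n F q (((x ^ k : GL (Fin n) F) : Mat n F) *ᵥ u)
          (((x ^ k : GL (Fin n) F) : Mat n F) *ᵥ v) = μ ^ k * Cfsg.hermForm n F q u v := by
        intro k
        induction k with
        | zero => intro u v; simp
        | succ k ih =>
          intro u v
          rw [pow_succ', Units.val_mul, ← Matrix.mulVec_mulVec, ← Matrix.mulVec_mulVec, hμ, ih,
            ← mul_assoc, ← pow_succ']
      refine ⟨μ, hleF (hroot μ ?_), hμ⟩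
      obtain ⟨⟨w, hw⟩, -⟩ := herm_nondeg (n := n) hσ (Pi.single ⟨0, hn0⟩ 1) (by simp)
      have := hk εr w (Pi.single ⟨0, hn0⟩ 1)
      rw [hR.pow_eq x hx, Units.val_one, Matrix.one_mulVec, Matrix.one_mulVec] at this
      exact (mul_right_cancel₀ hw ((one_mul _).trans this)).symm
    have habs := full_absIrred hn0 hR.full
    obtain ⟨c, hc0, hP⟩ := rational_form_sim (gu_herm hσ hc) hn0 habs hmult
      (fun s hs => (hB s hs).mono hleF)
    exact subfield_class hF hσ hc hH hn hl hc1 hc0 hP fun g hg =>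
      mem_subfieldSubgroup hn0 habs (fun s hs => (hB s hs).mono hleF) fun x hx =>
        (Subgroup.mem_normalizer_iff.mp (hle hg) x).mp hx
  push Not at hsub
  have hcz := hR.card_center hn0 hεdvd
  rw [← hεr] at hcz
  refine ⟨_, .inl (.inr (.inr (.inr (.inr (.inr (.inr (.inr ⟨r, R, p, e, m, hST,
    full_absIrred hn0 hR.full, fun x hx => ?_, hrp, ⟨hp, hpc, hcard, ?_, ?_⟩, ?_, rfl⟩))))))),
    le_inf hle hH⟩
  · obtain ⟨a, ha, hax⟩ := hsim x hx
    exact ⟨Units.mk0 a ha, hax⟩
  · rw [hcz, ← hcard, ← Nat.card_eq_fintype_card]; exact hεdvd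
  · rw [hcz]; exact fun d hd hde => hsub d hd hde
  · rcases hR.prime.eq_two_or_odd' with h2 | hodd
    · subst h2
      refine .inr ⟨rfl, ?_, by rw [hcz]; rfl, ?_⟩
      · obtain ⟨j, hj, hej⟩ := hpq
        have hj0 : j ≠ 0 := fun h => by rw [h, pow_zero] at hj; omega
        by_contra hne
        obtain ⟨k, hk⟩ := hp.odd_of_ne_two fun h => hrp h.symm
        refine hsub 2 two_pos (by omega) ⟨k * k + k, ?_⟩
        rw [hk, show (2 * k + 1) ^ 2 = (4 * (k * k + k)) + 1 by ring, Nat.add_sub_cancel]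
        rfl
      · rw [hR.card_eq hn0, hcz, hnm, hεr, show Nat.gcd 2 2 = 2 from rfl]
        ring
    · refine .inl ⟨hodd, ?_, hm, ?_⟩
      · rw [hcz, hεr, show Nat.gcd 2 r = 1 from Nat.coprime_two_left.mpr hodd, mul_one]
      · rw [hR.card_eq hn0, hcz, hεr, show Nat.gcd 2 r = 1 from Nat.coprime_two_left.mpr hodd, mul_one, hnm]
        ring

end Classes

end CfsgLib.Classical.AschForm
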