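import Cfsg.Agent.Lib.Classical.AschForm.OddOrtho
import Cfsg.Agent.Lib.Classical.SubfieldMax.Member
import Cfsg.Agent.Lib.Classical.AschPrime.UnitaryGroup
import Cfsg.Agent.Lib.Classical.PSU32

/-!
# Tensor powers of unitary forms
-/

set_option autoImplicit false
set_option linter.unusedSectionVars false

namespace CfsgLib.Classical.AschForm

open Matrix Cfsg Cfsg.Geo CfsgLib.Classical.AschPrime CfsgLib.Classical.AschGen
open scoped MatrixGroups Kronecker commutatorElement

variable {F : Type*} [Field F] [Fintype F] {n : ℕ} {q : ℕ} {σ : F →+* F}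

/-- A form of hermitian type is a multiple of a unitary form. -/
theorem exists_unitary {m : ℕ} (hm : 0 < m) (hσ : ∀ x, σ x = x ^ q) (hc : IsConjugation σ) {ε : F}
    {f : (Fin m → F) → (Fin m → F) → F} (hf : Herm σ ε f) :
    ∃ b : F, b ≠ 0 ∧ IsUnitaryFormPow q (fun u v => b * f u v) ∧
      Herm σ 1 (fun u v => b * f u v) := by
  have hε := hf.eps_mul hm
  have hε0 := hf.eps_ne_zero hm
  obtain ⟨b, hb0, hb⟩ := hc.exists_div_eq (x := ε⁻¹) (by rw [map_inv₀, ← mul_inv, hε, inv_one])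
  have hσb : σ b = ε * b := by
    conv_rhs => rw [hb, ← mul_assoc, mul_inv_cancel₀ hε0, one_mul]
  have hsymm : ∀ u v, b * f v u = σ (b * f u v) := fun u v => by
    rw [map_mul, hσb, hf.symm u v]; ring
  have hnd : IsNondegenerateForm fun u v => b * f u v := fun v hv => by
    obtain ⟨⟨x, hx⟩, y, hy⟩ := hf.nondeg v hv
    exact ⟨⟨x, mul_ne_zero hb0 hx⟩, y, mul_ne_zero hb0 hy⟩
  refine ⟨b, hb0, ⟨fun x y v => by show b * _ = _; rw [hf.sesq.add_left, mul_add],
    fun c x v => by show b * _ = _; rw [hf.sesq.smul_left]; ring,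
    fun v w => by rw [← hσ]; exact hsymm w v, hnd⟩,
    ⟨⟨fun x y v => by show b * _ = _; rw [hf.sesq.add_left, mul_add],
      fun c x v => by show b * _ = _; rw [hf.sesq.smul_left]; ring,
      fun v x y => by show b * _ = _; rw [hf.sesq.add_right, mul_add],
      fun c v x => by show b * _ = _; rw [hf.sesq.smul_right]; ring⟩,
      hnd, fun u v => by rw [one_mul]; exact hsymm u v, hc.invol⟩⟩

/-- A hermitian form has an orthonormal basis. -/
theorem exists_orth_matrix {m : ℕ} (hc : IsConjugation σ) {g : (Fin m → F) → (Fin m → F) → F}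
    (hg : Herm σ 1 g) :
    ∃ A : GL (Fin m) F, (A : Mat m F)ᵀ * gramMatrix g * (A : Mat m F).map σ = 1 := by
  classical
  let B : (Fin m → F) →ₛₗ[σ] (Fin m → F) →ₗ[F] F :=
    LinearMap.mk₂'ₛₗ σ (RingHom.id F) (fun x y => g y x)
      (fun x x' y => hg.sesq.add_right y x x') (fun c x y => hg.sesq.smul_right c y x)
      (fun x y y' => hg.sesq.add_left y y' x) (fun c x y => hg.sesq.smul_left c y x)
  have hBapp : ∀ x y, B x y = g y x := fun x y => rfl
  have hB : IsHermitian B := ⟨hc, fun x y => by rw [hBapp, hBapp, hg.symm y x, one_mul]⟩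
  have hN : B.SeparatingRight := fun y hy => by
    by_contra h
    obtain ⟨-, x, hx⟩ := hg.nondeg y h
    exact hx (hy x)
  obtain ⟨b, hb⟩ := hB.exists_orthonormal hN
  let b' := b.reindex (finCongr (show Module.finrank F (Fin m → F) = m by simp))
  obtain ⟨A, hA⟩ : IsUnit (Matrix.of fun i j => b' j i : Mat m F) := by
    rw [← Matrix.linearIndependent_cols_iff_isUnit]; exact b'.linearIndependent
  refine ⟨A, ?_⟩
  have hcol : ∀ j, (A : Mat m F) *ᵥ Pi.single j 1 = b' j := fun j => by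
    rw [hA, Matrix.mulVec_single_one]; rfl
  ext i j
  have h := hg.apply_at A (Pi.single i 1) (Pi.single j 1)
  rw [hcol, hcol] at h
  have e : σ ∘ (Pi.single j 1 : Fin m → F) = Pi.single j 1 := by
    funext k
    simp [Pi.single_apply, apply_ite σ]
  rw [e, Matrix.mulVec_single_one, single_one_dotProduct] at h
  show gramAt σ g A i j = _
  rw [← show gramAt σ g A i j = (gramAt σ g A).col j i from rfl] at h
  rw [← h, ← hBapp]
  simp only [b', Module.Basis.reindex_apply, hb, Matrix.one_apply]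
  by_cases hij : i = j
  · subst hij; simp
  · rw [if_neg hij, if_neg fun e => hij ((finCongr _).symm.injective e).symm]

/-- The standard shape of a tensor power of a unitary form. -/
theorem power_standard {k t : ℕ} {f : (Fin n → F) → (Fin n → F) → F}
    {g : (Fin k → F) → (Fin k → F) → F} {e : Fin n ≃ (Fin t → Fin k)} {P : GL (Fin n) F}
    (hT : IsTensorPowerFormStructure σ f g e P) {A : GL (Fin k) F}
    (hA : (A : Mat k F)ᵀ * gramMatrix g * (A : Mat k F).map σ = 1) {H : Subgroup (GL (Fin n) F)}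
    (hle : H ≤ tensorWreathSubgroup k t e P) :
    ∃ (P' : GL (Fin n) F) (c : F), c ≠ 0 ∧ (∀ x y : (Fin t → Fin k) → F,
        f ((P' : Mat n F) *ᵥ (x ∘ e)) ((P' : Mat n F) *ᵥ (y ∘ e)) = c * ∑ a, x a * σ (y a)) ∧
      H ≤ tensorWreathSubgroup k t e P' := by
  classical
  obtain ⟨c, hc, hval⟩ := hT
  set w : GL (Fin t → Fin k) F := pureUnit fun _ => A
  have hw : w ∈ tensorWreathStandard k t F := Subgroup.subset_closure (.inl (pureUnit_isPure _))
  refine ⟨P * glReindex e.symm w, c, hc, fun x y => ?_, ?_⟩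
  · have key : ∀ z : (Fin t → Fin k) → F, ((glReindex e.symm w : GL (Fin n) F) : Mat n F) *ᵥ (z ∘ e) =
        ((w : Matrix (Fin t → Fin k) (Fin t → Fin k) F) *ᵥ z) ∘ e := by
      intro z
      funext i
      simp only [Matrix.mulVec, dotProduct, Function.comp_apply]
      rw [← e.symm.sum_comp]
      refine Finset.sum_congr rfl fun p _ => ?_
      simp [glReindex]
    rw [Units.val_mul, ← Matrix.mulVec_mulVec, ← Matrix.mulVec_mulVec, key, key, hval]
    congr 1
    set W := (w : Matrix (Fin t → Fin k) (Fin t → Fin k) F) with hWdef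
    set G : Matrix (Fin t → Fin k) (Fin t → Fin k) F := pureT fun _ => gramMatrix g
    have h1 : (∑ a, ∑ b, (W *ᵥ x) a * (∏ i, gramMatrix g (a i) (b i)) * σ ((W *ᵥ y) b)) =
        (W *ᵥ x) ⬝ᵥ (G *ᵥ (σ ∘ (W *ᵥ y))) := by
      simp [dotProduct, Matrix.mulVec, G, pureT_apply, Finset.mul_sum, mul_assoc]
    have h2 : σ ∘ (W *ᵥ y) = W.map σ *ᵥ (σ ∘ y) := by
      funext i; exact RingHom.map_mulVec σ _ _ i
    have h3 : Wᵀ * G * W.map σ = 1 := by
      have eT : Wᵀ = pureT fun _ : Fin t => (A : Mat k F)ᵀ := by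
        ext a b; simp [hWdef, w, pureUnit, pureT_apply]
      have eM : W.map σ = pureT fun _ : Fin t => (A : Mat k F).map σ := by
        ext a b; simp [hWdef, w, pureUnit, pureT_apply]
      rw [eT, eM, ← pureT_mul, ← pureT_mul, ← pureT_one]
      congr 1
      funext i
      exact hA
    rw [h1, h2, Matrix.mulVec_mulVec, Matrix.dotProduct_mulVec, ← Matrix.vecMul_transpose,
      Matrix.vecMul_vecMul, ← Matrix.mul_assoc, h3, Matrix.vecMul_one]
    rfl
  · intro h hh
    obtain ⟨_, ⟨u, hu, rfl⟩, rfl⟩ := hle hh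
    refine ⟨_, ⟨w⁻¹ * u * w, mul_mem (mul_mem (inv_mem hw) hu) hw, rfl⟩, ?_⟩
    simp only [MulEquiv.coe_toMonoidHom, map_mul, map_inv, MulAut.mul_apply, MulAut.conj_apply]
    group

/-- Isometries in the wreath product of a standard tensor power are made of similitudes. -/
theorem wreath_similitude {k t : ℕ} (hk : 0 < k) {f : (Fin n → F) → (Fin n → F) → F}
    {e : Fin n ≃ (Fin t → Fin k)} {P : GL (Fin n) F} {c : F} (hc : c ≠ 0)
    (hval : ∀ x y : (Fin t → Fin k) → F,
      f ((P : Mat n F) *ᵥ (x ∘ e)) ((P : Mat n F) *ᵥ (y ∘ e)) = c * ∑ a, x a * σ (y a))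
    {h : GL (Fin n) F} (hh : h ∈ tensorWreathSubgroup k t e P)
    (hiso : ∀ u v, f ((h : Mat n F) *ᵥ u) ((h : Mat n F) *ᵥ v) = f u v) :
    ∃ (A : Fin t → GL (Fin k) F) (π : Equiv.Perm (Fin t)),
      h = MulAut.conj P (glReindex e.symm (pureUnit A * permUnit π)) ∧
      ∀ i, ∃ μ : F, μ ≠ 0 ∧ (A i : Mat k F)ᵀ * (A i : Mat k F).map σ = μ • 1 := by
  classical
  obtain ⟨_, ⟨u, hu, rfl⟩, rfl⟩ := hh
  obtain ⟨A, π, hw⟩ := wreath_normal_form hu
  subst hw
  refine ⟨A, π, rfl, ?_⟩
  set W := ((pureUnit A * permUnit π : GL (Fin t → Fin k) F) :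
    Matrix (Fin t → Fin k) (Fin t → Fin k) F) with hWdef
  set g := (MulAut.conj P).toMonoidHom ((glReindex e.symm).toMonoidHom (pureUnit A * permUnit π))
    with hgdef
  have hact : ∀ z : (Fin t → Fin k) → F,
      (g : Mat n F) *ᵥ ((P : Mat n F) *ᵥ (z ∘ e)) = (P : Mat n F) *ᵥ ((W *ᵥ z) ∘ e) := by
    intro z
    simp only [hgdef, MulEquiv.coe_toMonoidHom, MulAut.conj_apply, Units.val_mul,
      ← Matrix.mulVec_mulVec]
    rw [Matrix.mulVec_mulVec _ ((P⁻¹ : GL (Fin n) F) : Mat n F), Units.inv_mul, Matrix.one_mulVec]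
    congr 1
    funext i
    simp only [hWdef, Matrix.mulVec, dotProduct, Function.comp_apply]
    rw [← e.symm.sum_comp]
    refine Finset.sum_congr rfl fun p _ => ?_
    simp [glReindex]
  have hW : Wᵀ * W.map σ = 1 := by
    ext a b
    have h := hiso ((P : Mat n F) *ᵥ ((Pi.single a (1 : F) : (Fin t → Fin k) → F) ∘ e))
      ((P : Mat n F) *ᵥ ((Pi.single b (1 : F) : (Fin t → Fin k) → F) ∘ e))
    rw [hact, hact, hval, hval] at h
    have h' := mul_left_cancel₀ hc h
    simp only [Matrix.mulVec_single_one, Matrix.col_apply, Pi.single_apply, apply_ite σ, map_one,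
      map_zero, ite_mul, one_mul, zero_mul, Finset.sum_ite_eq', Finset.mem_univ, if_true] at h'
    simp only [Matrix.mul_apply, Matrix.transpose_apply, Matrix.map_apply, Matrix.one_apply]
    exact h'
  set Pm := ((permUnit π : GL (Fin t → Fin k) F) : Matrix (Fin t → Fin k) (Fin t → Fin k) F)
  set M := pureT fun i => (A i : Mat k F)ᵀ * (A i : Mat k F).map σ with hMdef
  have hPσ : Pm.map σ = Pm := by
    ext a b; simp [Pm, permUnit, apply_ite σ]
  have hPP : Pm * Pmᵀ = 1 := by
    ext a b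
    simp only [Pm, permUnit, Matrix.mul_apply, Matrix.transpose_apply, Matrix.of_apply, ite_mul,
      one_mul, zero_mul, Finset.sum_ite_eq', Finset.mem_univ, if_true, Matrix.one_apply]
    refine if_congr ⟨fun h => ?_, fun h => by rw [h]⟩ rfl rfl
    funext i
    have := congrFun h (π.symm i)
    simpa using this
  have hM : M = 1 := by
    have hAT : (pureT fun i => (A i : Mat k F))ᵀ = pureT fun i => (A i : Mat k F)ᵀ := by
      ext a b; simp [pureT_apply]
    have hAσ : (pureT fun i => (A i : Mat k F)).map σ = pureT fun i => (A i : Mat k F).map σ := by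
      ext a b; simp [pureT_apply]
    have hMsplit : M = (pureT fun i => (A i : Mat k F))ᵀ * (pureT fun i => (A i : Mat k F)).map σ := by
      rw [hAT, hAσ, ← pureT_mul]; rfl
    have hWsplit : Wᵀ * W.map σ = Pmᵀ * M * Pm := by
      rw [hWdef, Units.val_mul, Matrix.transpose_mul, Matrix.map_mul, hPσ, hMsplit]
      simp only [pureUnit, mul_assoc]
      rfl
    have hPP' : Pmᵀ * Pm = 1 := mul_eq_one_comm.mp hPP
    calc M = Pm * (Pmᵀ * M * Pm) * Pmᵀ := by
          simp only [← mul_assoc, hPP, one_mul]; rw [mul_assoc, hPP, mul_one]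
      _ = 1 := by rw [← hWsplit, hW, mul_one, hPP]
  intro i
  let o : Fin k := ⟨0, hk⟩
  set Mi := fun j => (A j : Mat k F)ᵀ * (A j : Mat k F).map σ
  set C := ∏ j ∈ Finset.univ.erase i, Mi j o o
  have hprod : ∀ p r, Mi i p r * C = if p = r then 1 else 0 := by
    intro p r
    have h := congrFun (congrFun hM (Function.update (fun _ => o) i p)) (Function.update (fun _ => o) i r)
    rw [hMdef, pureT_apply, ← Finset.mul_prod_erase _ _ (Finset.mem_univ i)] at h
    rw [Function.update_self, Function.update_self, Finset.prod_congr rfl fun j hj => by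
      rw [Function.update_of_ne (Finset.mem_erase.mp hj).1,
        Function.update_of_ne (Finset.mem_erase.mp hj).1]] at h
    refine h.trans ?_
    rw [Matrix.one_apply]
    exact if_congr (Function.update_injective _ _).eq_iff rfl rfl
  have hC : C ≠ 0 := by
    intro h0
    have := hprod o o
    rw [h0, mul_zero, if_pos rfl] at this
    exact zero_ne_one this
  refine ⟨C⁻¹, inv_ne_zero hC, ?_⟩
  ext p r
  have := hprod p r
  rw [Matrix.smul_apply, Matrix.one_apply, smul_eq_mul, ← this, mul_comm, mul_assoc,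
    mul_inv_cancel₀ hC, mul_one]

/-- The similitudes of the unitary plane are rational, up to scalars, in a suitable basis. -/
theorem plane_rational (hc : IsConjugation σ) :
    ∃ (B : GL (Fin 2) F) (d : F), d ≠ 0 ∧
      (B : Mat 2 F)ᵀ * (B : Mat 2 F).map σ = d • !![0, 1; -1, 0] ∧
      ∀ A : GL (Fin 2) F, (∃ μ : F, μ ≠ 0 ∧ (A : Mat 2 F)ᵀ * (A : Mat 2 F).map σ = μ • 1) →
        ∃ z : F, z ≠ 0 ∧ ∀ i j, σ (z * ((B⁻¹ * A * B : GL (Fin 2) F) : Mat 2 F) i j) =
          z * ((B⁻¹ * A * B : GL (Fin 2) F) : Mat 2 F) i j := by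
  classical
  obtain ⟨b, hb⟩ := hc.exists_norm_eq (a := (-1 : F)) (by rw [map_neg, map_one])
  obtain ⟨a, ha⟩ := hc.exists_not_fixed
  set M : Mat 2 F := !![1, a; b, b * σ a] with hMdef
  have hdet : M.det ≠ 0 := by
    rw [hMdef, Matrix.det_fin_two_of]
    intro h
    have hb0 : b ≠ 0 := fun e => by simp [e] at hb
    exact ha (mul_left_cancel₀ hb0 (by linear_combination h))
  obtain ⟨B, hB⟩ : IsUnit M := (Matrix.isUnit_iff_isUnit_det _).mpr (IsUnit.mk0 _ hdet)
  set J : Mat 2 F := !![0, 1; -1, 0]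
  have hBB : M.map σ = (-σ b) • (J * M) := by
    ext i j
    fin_cases i <;> fin_cases j <;> simp [hMdef, J, hc.invol, Matrix.mul_apply, Fin.sum_univ_two]
    all_goals first
      | linear_combination (1 : F) * hb
      | linear_combination σ a * hb
      | linear_combination -hb
      | linear_combination -(σ a) * hb
      | ring
  refine ⟨B, σ a - a, sub_ne_zero.mpr ha, ?_, ?_⟩
  · rw [hB]
    ext i j
    fin_cases i <;> fin_cases j <;>
      simp [hMdef, J, hc.invol, Matrix.mul_apply, Fin.sum_univ_two]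
    · linear_combination hb
    · linear_combination a * hb
    · linear_combination σ a * hb
    · linear_combination a * σ a * hb
  rintro A ⟨μ, hμ, hA⟩
  set δ := (A : Mat 2 F).det
  have hδ : δ ≠ 0 := ((Matrix.isUnit_iff_isUnit_det _).mp A.isUnit).ne_zero
  have hJA : (A : Mat 2 F)ᵀ * J * (A : Mat 2 F) = δ • J := by
    ext i j
    fin_cases i <;> fin_cases j <;>
      simp [J, δ, Matrix.mul_apply, Fin.sum_univ_two, Matrix.det_fin_two] <;> ring
  have hσA : (A : Mat 2 F).map σ * J = (μ / δ) • (J * (A : Mat 2 F)) := by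
    refine ((Matrix.isUnit_transpose _).mpr A.isUnit).mul_right_injective ?_
    show (A : Mat 2 F)ᵀ * _ = (A : Mat 2 F)ᵀ * _
    rw [← mul_assoc, hA, Matrix.smul_mul, one_mul, Matrix.mul_smul, ← mul_assoc, hJA, smul_smul,
      div_mul_cancel₀ _ hδ]
  set C := ((B⁻¹ * A * B : GL (Fin 2) F) : Mat 2 F) with hC
  set ν := μ / δ
  have hν : ν ≠ 0 := div_ne_zero hμ hδ
  have hMC : M * C = (A : Mat 2 F) * M := by
    rw [hC, Units.val_mul, Units.val_mul, ← hB, mul_assoc, Units.mul_inv_cancel_left]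
  have hCσ : C.map σ = ν • C := by
    refine ((B.isUnit.map (RingHom.mapMatrix σ))).mul_right_injective ?_
    show (B : Mat 2 F).map σ * _ = (B : Mat 2 F).map σ * _
    rw [hB]
    calc M.map σ * C.map σ = (A : Mat 2 F).map σ * M.map σ := by
          rw [← Matrix.map_mul, hMC, Matrix.map_mul]
      _ = (-σ b) • ((A : Mat 2 F).map σ * J * M) := by rw [hBB, Matrix.mul_smul, mul_assoc]
      _ = (-σ b) • (ν • (J * (M * C))) := by rw [hσA, Matrix.smul_mul, mul_assoc, hMC]
      _ = M.map σ * (ν • C) := by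
          rw [hBB, Matrix.smul_mul, Matrix.mul_smul, mul_assoc]
  obtain ⟨i, j, hij⟩ : ∃ i j, C i j ≠ 0 := by
    by_contra hall
    push Not at hall
    exact (B⁻¹ * A * B).ne_zero (Matrix.ext hall)
  have h1 : ∀ i j, σ (C i j) = ν * C i j := fun i j => congrFun (congrFun hCσ i) j
  have hνν : ν * σ ν = 1 := by
    have h := congrArg σ (h1 i j)
    rw [hc.invol, map_mul, h1] at h
    refine mul_right_cancel₀ hij ?_
    linear_combination -h
  obtain ⟨z, hz0, hz⟩ := hc.exists_div_eq hνν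
  refine ⟨z, hz0, fun i' j' => ?_⟩
  rw [map_mul, h1]
  conv_rhs => rw [hz]
  ring

/-- A group in the tensor power of unitary planes lies in a subfield group. -/
theorem pair_subfield (hF : Fintype.card F = q ^ 2) (hσ : ∀ x, σ x = x ^ q) (hc : IsConjugation σ)
    {t : ℕ} {f : (Fin n → F) → (Fin n → F) → F} {e : Fin n ≃ (Fin t → Fin 2)} {P : GL (Fin n) F}
    {c : F} (hc0 : c ≠ 0)
    (hval : ∀ x y : (Fin t → Fin 2) → F,
      f ((P : Mat n F) *ᵥ (x ∘ e)) ((P : Mat n F) *ᵥ (y ∘ e)) = c * ∑ a, x a * σ (y a))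
    {H : Subgroup (GL (Fin n) F)} (hH : FixesForm (matrixSet H) f)
    (hle : H ≤ tensorWreathSubgroup 2 t e P) :
    ∃ (F₀ : Subfield F) (P' : GL (Fin n) F) (ζ : F), Fintype.card F = Nat.card F₀ ^ 2 ∧ ζ ≠ 0 ∧
      IsFormRationalStructure f F₀ ζ P' ∧ H ≤ subfieldSubgroup F₀ P' := by
  classical
  obtain ⟨B, d, hd, hBB, hrat⟩ := plane_rational hc
  set F₀ : Subfield F := RingHom.eqLocusField σ (RingHom.id F)
  have hmemF₀ : ∀ x, x ∈ F₀ ↔ σ x = x := fun x => Iff.rfl
  have hcard : Nat.card F₀ = q := by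
    have h := (frob_cards hF hσ hc).1
    have hq := two_le_of_card_sq hF
    have e0 : Nat.card (F₀)ˣ = Nat.card (fixedUnits σ) := Nat.card_congr
      { toFun := fun u => ⟨Units.map F₀.subtype.toMonoidHom u, u.1.2⟩
        invFun := fun u => Units.mk0 ⟨(u.1 : F), u.2⟩ fun h => u.1.ne_zero (congrArg Subtype.val h)
        left_inv := fun u => Units.ext rfl
        right_inv := fun u => Subtype.ext (Units.ext rfl) }
    rw [Nat.card_units, h] at e0
    have : 0 < Nat.card F₀ := Nat.card_pos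
    omega
  set w : GL (Fin t → Fin 2) F := pureUnit fun _ => B
  set P' := P * glReindex e.symm w
  have key : ∀ (W : GL (Fin t → Fin 2) F) (z : (Fin t → Fin 2) → F),
      ((glReindex e.symm W : GL (Fin n) F) : Mat n F) *ᵥ (z ∘ e) =
        ((W : Matrix (Fin t → Fin 2) (Fin t → Fin 2) F) *ᵥ z) ∘ e := by
    intro W z
    funext i
    simp only [Matrix.mulVec, dotProduct, Function.comp_apply]
    rw [← e.symm.sum_comp]
    refine Finset.sum_congr rfl fun p _ => ?_
    simp [glReindex]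
  have hJ : ∀ i j : Fin 2, (!![0, 1; -1, 0] : Mat 2 F) i j ∈ F₀ := fun i j => by
    fin_cases i <;> fin_cases j <;> simp [F₀.zero_mem, F₀.one_mem]
  refine ⟨F₀, P', (c * d ^ t)⁻¹, by rw [hcard]; exact hF, inv_ne_zero (mul_ne_zero hc0 (pow_ne_zero _ hd)),
    fun u v hu hv => ?_, fun h hh => ?_⟩
  · have hu' : ∀ z : Fin n → F, z = (z ∘ e.symm) ∘ e := fun z => by funext i; simp
    simp only [P', Units.val_mul, ← Matrix.mulVec_mulVec]
    rw [hu' u, hu' v, key, key, hval]
    set W := (w : Matrix (Fin t → Fin 2) (Fin t → Fin 2) F) with hWdef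
    set x := u ∘ e.symm
    set y := v ∘ e.symm
    have h2 : σ ∘ (W *ᵥ y) = W.map σ *ᵥ (σ ∘ y) := by
      funext i; exact RingHom.map_mulVec σ _ _ i
    have h3 : Wᵀ * W.map σ = d ^ t • pureT fun _ : Fin t => (!![0, 1; -1, 0] : Mat 2 F) := by
      have eT : Wᵀ = pureT fun _ : Fin t => (B : Mat 2 F)ᵀ := by
        ext a b; simp [hWdef, w, pureUnit, pureT_apply]
      have eM : W.map σ = pureT fun _ : Fin t => (B : Mat 2 F).map σ := by
        ext a b; simp [hWdef, w, pureUnit, pureT_apply]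
      rw [eT, eM, ← pureT_mul]
      show pureT (fun _ : Fin t => (B : Mat 2 F)ᵀ * (B : Mat 2 F).map σ) = _
      rw [hBB]
      ext a b
      simp only [pureT_apply, Matrix.smul_apply, smul_eq_mul, Finset.prod_mul_distrib, Finset.prod_const,
        Finset.card_univ, Fintype.card_fin]
    have h1 : (∑ a, (W *ᵥ x) a * σ ((W *ᵥ y) a)) = (W *ᵥ x) ⬝ᵥ (σ ∘ (W *ᵥ y)) := rfl
    rw [h1, h2, Matrix.dotProduct_mulVec, ← Matrix.vecMul_transpose, Matrix.vecMul_vecMul, h3,
      ← Matrix.dotProduct_mulVec, Matrix.smul_mulVec, dotProduct_smul, smul_eq_mul,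
      ← mul_assoc c, ← mul_assoc, inv_mul_cancel₀ (mul_ne_zero hc0 (pow_ne_zero _ hd)), one_mul]
    simp only [dotProduct, Matrix.mulVec, pureT_apply, Function.comp_apply]
    refine F₀.sum_mem fun a _ => F₀.mul_mem (hu _) (F₀.sum_mem fun b _ => F₀.mul_mem
      (F₀.prod_mem fun i _ => hJ _ _) ?_)
    show σ (v (e.symm b)) ∈ F₀
    rw [(hmemF₀ _).mp (hv _)]
    exact hv _
  · obtain ⟨A, π, rfl, hA⟩ := wreath_similitude (by norm_num) hc0 hval (hle hh)
      fun u v => hH _ (mem_matrixSet hh) u v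
    choose z hz0 hz using fun i => hrat (A i) (hA i)
    rw [CfsgLib.Classical.SubfieldMax.mem_subfieldSubgroup_iff]
    refine ⟨∏ i, z i, Finset.prod_ne_zero_iff.mpr fun i _ => hz0 i, fun p r => ?_⟩
    have e1 : P'⁻¹ * MulAut.conj P (glReindex e.symm (pureUnit A * permUnit π)) * P' =
        glReindex e.symm (pureUnit (fun i => B⁻¹ * A i * B) * permUnit π) := by
      have e2 : w⁻¹ * (pureUnit A * permUnit π) * w =
          pureUnit (fun i => B⁻¹ * A i * B) * permUnit π := by
        have hs : permUnit π * w = w * permUnit π := Units.ext (perm_pure π fun _ => (B : Mat 2 F))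
        rw [mul_assoc, mul_assoc, hs, ← mul_assoc (pureUnit A), ← mul_assoc]
        congr 1
        refine Units.ext ?_
        show pureT _ * (pureT _ * pureT _) = pureT _
        rw [← pureT_mul, ← pureT_mul]
        congr 1
        funext i
        simp [mul_assoc]
      rw [← e2]
      simp only [P', map_mul, map_inv, MulAut.conj_apply, _root_.mul_inv_rev]
      group
    rw [e1]
    show (∏ i, z i) * Matrix.reindex e.symm e.symm
      (((pureUnit (fun i => B⁻¹ * A i * B) * permUnit π : GL (Fin t → Fin 2) F)) :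
        Matrix (Fin t → Fin 2) (Fin t → Fin 2) F) p r ∈ F₀
    rw [Matrix.reindex_apply, Matrix.submatrix_apply, Units.val_mul, Matrix.mul_apply, Finset.mul_sum]
    refine F₀.sum_mem fun s _ => ?_
    rw [← mul_assoc]
    refine F₀.mul_mem ?_ ?_
    · show (∏ i, z i) * pureT _ _ _ ∈ F₀
      rw [pureT_apply, ← Finset.prod_mul_distrib]
      exact F₀.prod_mem fun i _ => (hmemF₀ _).mpr (hz i _ _)
    · show (if (_ : Prop) then (1 : F) else 0) ∈ F₀
      split
      · exact F₀.one_mem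
      · exact F₀.zero_mem

/-- No perfect group of isometries of a three dimensional unitary space over four elements. -/
theorem no_perfect_three (hF : Fintype.card F = 2 ^ 2) (hσ : ∀ x, σ x = x ^ 2)
    {L : Subgroup (GL (Fin 3) F)} {g : (Fin 3 → F) → (Fin 3 → F) → F} (hg : Herm σ 1 g)
    {A : GL (Fin 3) F} (hA : (A : Mat 3 F)ᵀ * gramMatrix g * (A : Mat 3 F).map σ = 1)
    (hfix : FixesForm (matrixSet L) g) (hperf : ⁅L, L⁆ = L) : L ≤ scalars (Fin 3) F := by
  classical
  set φ := (MulAut.conj A⁻¹).toMonoidHom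
  set M := L.map φ with hMdef
  have hMperf : ⁅M, M⁆ = M := by rw [hMdef, ← Subgroup.map_commutator, hperf]
  have hGU : M ≤ Cfsg.GU 3 F 2 := by
    rintro _ ⟨x, hx, rfl⟩ u v
    have hval : ∀ a b, g ((A : Mat 3 F) *ᵥ a) ((A : Mat 3 F) *ᵥ b) = Cfsg.hermForm 3 F 2 a b := by
      intro a b
      rw [hg.apply_at, gramAt, hA, Matrix.one_mulVec]
      simp [Cfsg.hermForm, dotProduct, hσ]
    have e : ∀ a, (A : Mat 3 F) *ᵥ (((φ x : GL (Fin 3) F) : Mat 3 F) *ᵥ a) =
        (x : Mat 3 F) *ᵥ ((A : Mat 3 F) *ᵥ a) := fun a => by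
      simp [φ, Matrix.mulVec_mulVec, ← mul_assoc]
    show Cfsg.hermForm 3 F 2 (((φ x : GL (Fin 3) F) : Mat 3 F) *ᵥ u)
      (((φ x : GL (Fin 3) F) : Mat 3 F) *ᵥ v) = Cfsg.hermForm 3 F 2 u v
    rw [← hval, ← hval, e, e]
    exact hfix _ (mem_matrixSet hx) _ _
  have hSU : M ≤ suG 3 F 2 := fun x hx => by
    refine ⟨hGU hx, ?_⟩
    rw [← hMperf] at hx
    exact (Subgroup.commutator_le.mpr fun a _ b _ => by
      rw [MonoidHom.mem_ker, map_commutatorElement, commutatorElement_eq_one_iff_mul_comm]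
      exact mul_comm _ _ : ⁅M, M⁆ ≤ (Matrix.GeneralLinearGroup.det (n := Fin 3) (R := F)).ker) hx
  set M₁ := (M.subgroupOf (suG 3 F 2)).map (suGEquiv (n := 3) (F := F) (q := 2)).symm.toMonoidHom
  have hM₁ : ⁅M₁, M₁⁆ = M₁ := by
    have h : ⁅M.subgroupOf (suG 3 F 2), M.subgroupOf (suG 3 F 2)⁆ = M.subgroupOf (suG 3 F 2) := by
      refine Subgroup.map_injective (f := (suG 3 F 2).subtype) Subtype.val_injective ?_
      rw [Subgroup.map_commutator, Subgroup.map_subgroupOf_eq_of_le hSU, hMperf]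
    rw [← Subgroup.map_commutator, h]
  obtain ⟨-, hsol, -⟩ := psu32_structure (F := F) (by rw [hF]; norm_num)
  set π := QuotientGroup.mk' (Subgroup.center (Cfsg.SU 3 F 2))
  have hbot : M₁.map π = ⊥ := by
    set N := M₁.map π with hN
    have hNp : ⁅N, N⁆ = N := by rw [hN, ← Subgroup.map_commutator, hM₁]
    haveI := hsol
    have hd : ∀ j, N ≤ derivedSeries (Cfsg.PSU 3 F 2) j := by
      intro j
      induction j with
      | zero => exact le_top
      | succ j ih => rw [derivedSeries_succ, ← hNp]; exact Subgroup.commutator_mono ih ih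
    obtain ⟨j, hj⟩ := hsol
    exact le_bot_iff.mp (hj ▸ hd j)
  have hc : M₁ ≤ Subgroup.center (Cfsg.SU 3 F 2) := fun x hx =>
    (QuotientGroup.eq_one_iff x).mp (Subgroup.mem_bot.mp (hbot ▸ ⟨x, hx, rfl⟩))
  have hab : ∀ x ∈ M, ∀ y ∈ M, x * y = y * x := fun x hx y hy => by
    have h := Subgroup.mem_center_iff.mp
      (hc ⟨⟨x, hSU hx⟩, hx, rfl⟩) ((suGEquiv (n := 3) (F := F) (q := 2)).symm ⟨y, hSU hy⟩)
    simp only [MulEquiv.coe_toMonoidHom, ← map_mul] at h
    exact (congrArg Subtype.val ((suGEquiv (n := 3) (F := F) (q := 2)).symm.injective h)).symm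
  have hM1 : M = ⊥ := by
    rw [eq_bot_iff, ← hMperf, Subgroup.commutator_le]
    intro a ha b hb
    rw [Subgroup.mem_bot, commutatorElement_eq_one_iff_mul_comm]
    exact hab a ha b hb
  intro x hx
  have : φ x = 1 := Subgroup.mem_bot.mp (hM1 ▸ ⟨x, hx, rfl⟩)
  rw [show x = 1 from (MulAut.conj A⁻¹).injective (this.trans (map_one _).symm)]
  exact one_mem _

end CfsgLib.Classical.AschForm
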